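import Mathlib.GroupTheory.GroupAction.Jordan
import Mathlib.Tactic.Linarith
import Cfsg.Agent.Lib.SmallGroups.Perm

/-!
A transitive permutation group of degree `2p - 1` containing a subgroup that fixes `p - 1` points
and is transitive on the other `p` contains the alternating group.
-/

set_option autoImplicit false

open MulAction
open scoped Pointwise

namespace CfsgLib.SylowFix

variable {α : Type*} [Fintype α] [DecidableEq α]

/-- Supports meeting in one point give a three-cycle. -/
theorem isThreeCycle_comm_of_inter {s t : Equiv.Perm α} {a : α} (hs : s a ≠ a) (ht : t a ≠ a)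
    (h : ∀ x, s x ≠ x → t x ≠ x → x = a) : (s * t * s⁻¹ * t⁻¹).IsThreeCycle := by
  have hsa : t (s a) = s a := by
    by_contra hne
    exact hs (h (s a) (fun e => hs (s.injective e)) hne)
  have hdis : Equiv.Perm.Disjoint (Equiv.swap a (s a) * s) t := fun x => by
    by_cases htx : t x = x
    · exact Or.inr htx
    left
    rw [Equiv.Perm.mul_apply]
    by_cases hxa : x = a
    · rw [hxa, Equiv.swap_apply_right]
    · have hsx : s x = x := by
        by_contra hne; exact hxa (h x hne htx)
      rw [hsx, Equiv.swap_apply_of_ne_of_ne hxa (fun e => htx (e.symm ▸ hsa))]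
  have hc := hdis.commute.eq
  have hconj : s * t * s⁻¹ = Equiv.swap a (s a) * t * Equiv.swap a (s a) := by
    rw [mul_inv_eq_iff_eq_mul]
    calc s * t = Equiv.swap a (s a) * (Equiv.swap a (s a) * s * t) := by
          rw [← mul_assoc, ← mul_assoc, Equiv.swap_mul_self, one_mul]
      _ = _ := by rw [hc]; simp only [mul_assoc]
  rw [hconj, mul_assoc, mul_assoc, ← mul_assoc t, ← Equiv.swap_apply_apply, hsa,
    Equiv.swap_comm a (s a), Equiv.swap_comm (t a) (s a)]
  exact Equiv.Perm.isThreeCycle_swap_mul_swap_same hs (fun e => hs (t.injective (hsa.trans e)))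
    ht.symm

theorem alternatingGroup_le_of_moved {p : ℕ} (hp : p.Prime) (hp2 : 3 ≤ p)
    {K Q : Subgroup (Equiv.Perm α)} (htrans : IsPretransitive K α) (hQK : Q ≤ K) (F : Finset α)
    (hfix : ∀ g ∈ Q, ∀ x ∈ F, g x = x) (hmove : ∀ x ∉ F, ∀ y ∉ F, ∃ g ∈ Q, g x = y)
    (hF : F.card + 1 = p) (hcard : Fintype.card α = F.card + p) :
    alternatingGroup α ≤ K := by
  have hFc : Fᶜ.card = p := by rw [Finset.card_compl]; omega
  have hprim : IsPreprimitive K α := by
    refine ⟨fun {B} hB => ?_⟩
    by_contra hnt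
    simp only [IsTrivialBlock, not_or, Set.not_subsingleton_iff] at hnt
    obtain ⟨h2, huniv⟩ := hnt
    have hdvd := IsBlock.ncard_dvd_card hB h2.nonempty
    have hb2 : 2 ≤ B.ncard := Set.one_lt_ncard_iff_nontrivial.2 h2
    have hblt : B.ncard < Nat.card α := by
      rw [← Set.ncard_univ]
      exact Set.ncard_lt_ncard (Set.ssubset_univ_iff.2 huniv)
    -- a translate of `B` meeting the moved points
    obtain ⟨x, hx⟩ : Fᶜ.Nonempty := Finset.card_pos.1 (by rw [hFc]; exact hp.pos)
    rw [Finset.mem_compl] at hx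
    obtain ⟨b, hb⟩ := h2.nonempty
    obtain ⟨k, hk⟩ := exists_smul_eq K b x
    set C : Set α := k • B with hC
    have hCb : IsBlock K C := hB.translate k
    have hCc : C.ncard = B.ncard := Set.ncard_smul_set k B
    have hxC : x ∈ C := hk ▸ Set.smul_mem_smul_set hb
    by_cases hall : ∀ g ∈ Q, g x ∈ C
    · -- the block contains all moved points
      have hsub : (↑Fᶜ : Set α) ⊆ C := fun y hy => by
        simp only [Finset.coe_compl, Set.mem_compl_iff, Finset.mem_coe] at hy
        obtain ⟨g, hg, rfl⟩ := hmove x hx y hy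
        exact hall g hg
      have hpb := Set.ncard_le_ncard hsub
      rw [Set.ncard_coe_finset, hFc, hCc] at hpb
      obtain ⟨m, hm⟩ := hdvd
      rw [Nat.card_eq_fintype_card, hcard] at hm hblt
      rcases Nat.lt_or_ge m 2 with hm2 | hm2
      · interval_cases m <;> omega
      · nlinarith
    · -- `Q` moves the block: it meets the moved points in one point
      push Not at hall
      obtain ⟨g, hg, hgx⟩ := hall
      have hgne : ∀ y ∈ C, y ∉ F := by
        intro y hy hyF
        refine hgx ?_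
        have e : (⟨g, hQK hg⟩ : K) • C = C :=
          hCb.smul_eq_of_mem hy (by show g y ∈ C; rw [hfix g hg y hyF]; exact hy)
        rw [← e]
        exact ⟨x, hxC, rfl⟩
      -- the translates by `Q` are disjoint and cover the `p` moved points
      classical
      set Cs : Finset (Set α) := (Finset.univ.filter fun g : Equiv.Perm α => g ∈ Q).image
        (fun g => (fun z => g z) '' C) with hCs
      have hdis : ∀ g₁ ∈ Q, ∀ g₂ ∈ Q, ∀ y, y ∈ (fun z => g₁ z) '' C → y ∈ (fun z => g₂ z) '' C →
          (fun z => g₁ z) '' C = (fun z => g₂ z) '' C := by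
        rintro g₁ h₁ g₂ h₂ y ⟨a₁, ha₁, e₁⟩ ⟨a₂, ha₂, e₂⟩
        have hmem : g₂⁻¹ * g₁ ∈ K := mul_mem (inv_mem (hQK h₂)) (hQK h₁)
        have e : (⟨g₂⁻¹ * g₁, hmem⟩ : K) • C = C := hCb.smul_eq_of_mem ha₁ (by
          show (g₂⁻¹ * g₁) a₁ ∈ C
          rw [Equiv.Perm.mul_apply, show g₁ a₁ = g₂ a₂ from e₁.trans e₂.symm]
          simpa using ha₂)
        ext z
        constructor
        · rintro ⟨c, hc, rfl⟩
          refine ⟨(g₂⁻¹ * g₁) c, ?_, by simp⟩
          have : (g₂⁻¹ * g₁) c ∈ (⟨g₂⁻¹ * g₁, hmem⟩ : K) • C := ⟨c, hc, rfl⟩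
          rwa [e] at this
        · rintro ⟨c, hc, rfl⟩
          rw [← e] at hc
          obtain ⟨d, hd, rfl⟩ := hc
          exact ⟨d, hd, by show g₁ d = g₂ ((g₂⁻¹ * g₁) d); simp⟩
      have hsum : Fᶜ.card = Cs.card * B.ncard := by
        have hmaps : ∀ y ∈ Fᶜ, ∃ S ∈ Cs, y ∈ S := by
          intro y hy
          obtain ⟨g, hg, rfl⟩ := hmove x hx y (Finset.mem_compl.1 hy)
          exact ⟨_, Finset.mem_image.2 ⟨g, by simp [hg], rfl⟩, x, hxC, rfl⟩
        choose! f hf1 hf2 using hmaps
        rw [Finset.card_eq_sum_card_fiberwise (f := f) (t := Cs) hf1, ← smul_eq_mul,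
          ← Finset.sum_const]
        refine Finset.sum_congr rfl fun S hS => ?_
        obtain ⟨g₀, hg₀, rfl⟩ := Finset.mem_image.1 hS
        simp only [Finset.mem_filter, Finset.mem_univ, true_and] at hg₀
        rw [← hCc, ← Set.ncard_image_of_injective C g₀.injective, ← Set.ncard_coe_finset]
        congr 1
        ext y
        simp only [Finset.coe_filter, Finset.mem_compl, Set.mem_setOf_eq]
        constructor
        · rintro ⟨hy, e⟩
          rw [← e]
          exact hf2 y (Finset.mem_compl.2 hy)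
        · rintro hy
          have hyF : y ∉ F := by
            obtain ⟨c, hc, rfl⟩ := hy
            intro hF'
            have e := hfix g₀⁻¹ (inv_mem hg₀) (g₀ c) hF'
            rw [show g₀⁻¹ (g₀ c) = c by simp] at e
            exact hgne c hc (e ▸ hF')
          refine ⟨hyF, ?_⟩
          obtain ⟨g₁, hg₁, e⟩ := Finset.mem_image.1 (hf1 y (Finset.mem_compl.2 hyF))
          simp only [Finset.mem_filter, Finset.mem_univ, true_and] at hg₁
          rw [← e]
          exact hdis g₁ hg₁ g₀ hg₀ y (e ▸ hf2 y (Finset.mem_compl.2 hyF)) hy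
      rw [hFc] at hsum
      rcases (Nat.dvd_prime hp).1 ⟨Cs.card, hsum.trans (mul_comm _ _)⟩ with h1 | h1
      · omega
      · -- a block of size `p` inside the moved points
        obtain ⟨m, hm⟩ := hdvd
        rw [h1, Nat.card_eq_fintype_card, hcard] at hm
        rcases Nat.lt_or_ge m 2 with hm2 | hm2
        · interval_cases m <;> omega
        · nlinarith
  set S : Set α := (↑F : Set α) with hSdef
  have hQS : ∀ g ∈ Q, ∀ hg : g ∈ K, (⟨g, hg⟩ : K) ∈ fixingSubgroup K S := fun g hg hgK => by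
    rw [mem_fixingSubgroup_iff]
    exact fun y hy => hfix g hg y (by simpa [S] using hy)
  have htr : IsPretransitive (fixingSubgroup K S) (SubMulAction.ofFixingSubgroup K S) := by
    refine ⟨fun A B => ?_⟩
    obtain ⟨g, hg, hgA⟩ := hmove A.1 A.2 B.1 B.2
    exact ⟨⟨⟨g, hQK hg⟩, hQS g hg _⟩, Subtype.ext hgA⟩
  have hprime : IsPreprimitive (fixingSubgroup K S) (SubMulAction.ofFixingSubgroup K S) := by
    refine IsPreprimitive.of_prime_card ?_
    have : Nat.card (SubMulAction.ofFixingSubgroup K S) = p := by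
      have e : Nat.card (SubMulAction.ofFixingSubgroup K S) = Sᶜ.ncard :=
        Nat.card_coe_set_eq (Sᶜ : Set α)
      rw [e, hSdef, ← Finset.coe_compl, Set.ncard_coe_finset, hFc]
    rw [this]
    exact hp
  obtain ⟨m, hm⟩ : ∃ m, F.card = m + 1 := ⟨F.card - 1, by omega⟩
  have hmp := hprim.isMultiplyPreprimitive (s := S) (n := m)
    (by rw [hSdef, Set.ncard_coe_finset, hm]) (by rw [Nat.card_eq_fintype_card]; omega) hprime
  have hmt : IsMultiplyPretransitive K α p := by
    have e : m + 2 = p := by omega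
    rw [e] at hmp
    exact IsMultiplyPreprimitive.isMultiplyPretransitive _ _ _
  -- a three-cycle
  obtain ⟨a, ha⟩ : Fᶜ.Nonempty := Finset.card_pos.1 (by rw [hFc]; exact hp.pos)
  have haF := Finset.mem_compl.1 ha
  obtain ⟨a', ha', hne⟩ := Finset.exists_mem_ne (by rw [hFc]; omega : 1 < Fᶜ.card) a
  obtain ⟨g, hg, hga⟩ := hmove a haF a' (Finset.mem_compl.1 ha')
  have e : {x // x ∈ Fᶜ} ≃ {x // x ∈ insert a F} :=
    Finset.equivOfCardEq (by rw [hFc, Finset.card_insert_of_notMem haF, hF])
  let f : α → α := fun x => if hx : x ∈ Fᶜ then (e ⟨x, hx⟩).1 else x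
  obtain ⟨h, hh, hhf⟩ := SmallGroups.exists_mem_eq_on_finset (k := p) hmt (by omega) Fᶜ hFc.le f
    (fun x hx y hy hxy => by
      simp only [Finset.mem_coe] at hx hy
      simp only [f, dif_pos hx, dif_pos hy] at hxy
      exact congrArg Subtype.val (e.injective (Subtype.ext hxy)))
  set b := e.symm ⟨a, Finset.mem_insert_self a F⟩ with hb
  have hhb : h b.1 = a := by
    rw [hhf b.1 b.2]
    simp only [f, dif_pos b.2]
    rw [show (⟨b.1, b.2⟩ : {x // x ∈ Fᶜ}) = b from rfl, hb, e.apply_symm_apply]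
  have hbF : b.1 ∉ F := Finset.mem_compl.1 b.2
  obtain ⟨b', hb', hne'⟩ := Finset.exists_mem_ne (by rw [hFc]; omega : 1 < Fᶜ.card) b.1
  obtain ⟨g₀, hg₀, hgb⟩ := hmove b.1 hbF b' (Finset.mem_compl.1 hb')
  set t := h * g₀ * h⁻¹ with ht
  have hta : t a ≠ a := by
    intro ht'
    have e1 : h (g₀ b.1) = h b.1 := by
      rw [hhb]
      calc h (g₀ b.1) = t a := by rw [ht, ← hhb]; simp
        _ = a := ht'
    exact hne' (by rw [← hgb]; exact h.injective e1)
  refine Equiv.Perm.alternatingGroup_le_of_isPreprimitive_of_isThreeCycle_mem hprim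
    (isThreeCycle_comm_of_inter (s := g) (t := t) (a := a) (fun e' => hne (hga.symm.trans e')) hta
      ?_) ?_
  · intro x hgx htx
    have hxF : x ∉ F := fun hxF => hgx (hfix g hg x hxF)
    have hbx : h⁻¹ x ∈ Fᶜ := Finset.mem_compl.2 fun hF' => htx (by
      rw [ht, Equiv.Perm.mul_apply, Equiv.Perm.mul_apply, hfix g₀ hg₀ _ hF']
      simp)
    have := hhf _ hbx
    simp only [f, dif_pos hbx] at this
    have hmem := (e ⟨h⁻¹ x, hbx⟩).2
    rw [← this] at hmem
    simp only [Finset.mem_insert, show h (h⁻¹ x) = x by simp] at hmem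
    exact hmem.resolve_right hxF
  · exact mul_mem (mul_mem (mul_mem (hQK hg) (mul_mem (mul_mem hh (hQK hg₀)) (inv_mem hh)))
      (inv_mem (hQK hg))) (inv_mem (mul_mem (mul_mem hh (hQK hg₀)) (inv_mem hh)))

end CfsgLib.SylowFix
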