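import Mathlib.GroupTheory.Sylow
import Mathlib.Algebra.Group.Pointwise.Set.Card
import Mathlib.Combinatorics.Enumerative.DoubleCounting
import Mathlib.GroupTheory.GroupAction.Primitive
import Mathlib.Tactic.Linarith
import Mathlib.Tactic.LinearCombination

/-!
Fixed points of Sylow subgroups in transitive groups: definitions and counting.

For an action of `G` on `Ω` and a prime `p`:
* `sylFix P` is the set of points fixed by the Sylow subgroup `P`;
* `sylAt r` is the set of Sylow subgroups fixing `r`;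
* `sylNum` is the number of Sylow subgroups, `fixNum` the number of fixed points of one of them,
  `cycNum` the number `(n - fixNum) / p`, and `slack = (p - 1) * cycNum - fixNum`.
-/

set_option autoImplicit false

open MulAction
open scoped Pointwise

namespace CfsgLib.SylowFix

universe u v

variable (p : ℕ) (G : Type u) [Group G] (Ω : Type v) [MulAction G Ω]

/-- An action to which the fixed point bound applies. -/
structure Admissible : Prop where
  trans : IsPretransitive G Ω
  gen : ⨆ P : Sylow p G, (P : Subgroup G) = ⊤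
  two : 2 ≤ Nat.card Ω

variable {p G Ω}

/-- Points fixed by `P`. -/
def sylFix (P : Sylow p G) : Set Ω := {r | (P : Subgroup G) ≤ stabilizer G r}

variable (p G) in
/-- Sylow subgroups fixing `r`. -/
def sylAt (r : Ω) : Set (Sylow p G) := {P | (P : Subgroup G) ≤ stabilizer G r}

variable (p G Ω) in
/-- Number of fixed points of a Sylow subgroup. -/
noncomputable def fixNum : ℕ := (sylFix (Ω := Ω) (Classical.arbitrary (Sylow p G))).ncard

variable (p G Ω) in
/-- Number of `p`-cycles moved, counted as `(n - f) / p`. -/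
noncomputable def cycNum : ℕ := (Nat.card Ω - fixNum p G Ω) / p

variable (p G Ω) in
/-- The slack `(p - 1) k - f`. -/
noncomputable def slack : ℤ := ((p : ℤ) - 1) * cycNum p G Ω - fixNum p G Ω

@[simp] theorem mem_sylFix {P : Sylow p G} {r : Ω} :
    r ∈ sylFix P ↔ (P : Subgroup G) ≤ stabilizer G r := Iff.rfl

@[simp] theorem mem_sylAt {P : Sylow p G} {r : Ω} :
    P ∈ sylAt p G r ↔ (P : Subgroup G) ≤ stabilizer G r := Iff.rfl

theorem sylow_le_conj_iff (g : G) (P : Sylow p G) (r : Ω) :
    ((g • P : Sylow p G) : Subgroup G) ≤ stabilizer G (g • r) ↔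
      (P : Subgroup G) ≤ stabilizer G r := by
  constructor
  · intro h x hx
    have h2 : g * x * g⁻¹ ∈ stabilizer G (g • r) := h ⟨x, hx, rfl⟩
    rw [mem_stabilizer_iff, mul_smul, mul_smul, inv_smul_smul] at h2
    exact mem_stabilizer_iff.2 ((MulAction.injective g) h2)
  · rintro h _ ⟨x, hx, rfl⟩
    show g * x * g⁻¹ ∈ stabilizer G (g • r)
    rw [mem_stabilizer_iff, mul_smul, mul_smul, inv_smul_smul, mem_stabilizer_iff.1 (h hx)]

theorem sylAt_smul (g : G) (r : Ω) : sylAt p G (g • r) = g • sylAt p G r := by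
  ext P
  rw [Set.mem_smul_set_iff_inv_smul_mem, mem_sylAt, mem_sylAt]
  conv_lhs => rw [← smul_inv_smul g P]
  exact sylow_le_conj_iff g _ r

theorem sylFix_smul (g : G) (P : Sylow p G) :
    sylFix (Ω := Ω) (g • P) = g • sylFix (Ω := Ω) P := by
  ext r
  rw [Set.mem_smul_set_iff_inv_smul_mem, mem_sylFix, mem_sylFix]
  conv_lhs => rw [← smul_inv_smul g r]
  exact sylow_le_conj_iff g P _

section Finite

variable [Finite G] [Fact p.Prime]

theorem ncard_sylFix (P : Sylow p G) : (sylFix (Ω := Ω) P).ncard = fixNum p G Ω := by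
  obtain ⟨g, hg⟩ := MulAction.exists_smul_eq G (Classical.arbitrary (Sylow p G)) P
  rw [← hg, sylFix_smul, Set.ncard_smul_set]
  rfl

variable [Finite Ω]

theorem card_modEq_fixNum : Nat.card Ω ≡ fixNum p G Ω [MOD p] := by
  have P : Sylow p G := Classical.arbitrary _
  have h := P.2.card_modEq_card_fixedPoints Ω
  have e : fixedPoints (P : Subgroup G) Ω = sylFix (Ω := Ω) P := by
    ext r
    simp only [MulAction.mem_fixedPoints, mem_sylFix]
    exact ⟨fun h x hx => mem_stabilizer_iff.2 (h ⟨x, hx⟩), fun h x => mem_stabilizer_iff.1 (h x.2)⟩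
  rw [e, Nat.card_coe_set_eq, ncard_sylFix] at h
  exact h

theorem fixNum_le_card : fixNum p G Ω ≤ Nat.card Ω := by
  rw [← Set.ncard_univ]
  exact Set.ncard_le_ncard (Set.subset_univ _)

theorem card_eq_fixNum_add : Nat.card Ω = fixNum p G Ω + p * cycNum p G Ω := by
  have h := (Nat.modEq_iff_dvd' (fixNum_le_card (p := p) (G := G) (Ω := Ω))).1 card_modEq_fixNum.symm
  have := fixNum_le_card (p := p) (G := G) (Ω := Ω)
  rw [cycNum, Nat.mul_div_cancel' h]
  omega

theorem card_add_slack :
    (Nat.card Ω : ℤ) + slack p G Ω = (2 * (p : ℤ) - 1) * cycNum p G Ω := by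
  have h : (Nat.card Ω : ℤ) = fixNum p G Ω + p * cycNum p G Ω := by
    exact_mod_cast card_eq_fixNum_add (p := p) (G := G) (Ω := Ω)
  rw [slack, h]; ring

/-- Counting pairs `(P, r)` with `P` fixing `r`. -/
theorem sum_sylAt_eq : ∑ᶠ r : Ω, (sylAt p G r).ncard = Nat.card (Sylow p G) * fixNum p G Ω := by
  classical
  have := Fintype.ofFinite Ω
  have := Fintype.ofFinite (Sylow p G)
  rw [finsum_eq_sum_of_fintype, Nat.card_eq_fintype_card]
  have key := Finset.sum_card_bipartiteAbove_eq_sum_card_bipartiteBelow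
    (s := (Finset.univ : Finset (Sylow p G))) (t := (Finset.univ : Finset Ω))
    (r := fun (P : Sylow p G) (r : Ω) => (P : Subgroup G) ≤ stabilizer G r)
  have h1 : ∀ P : Sylow p G, ((Finset.univ : Finset Ω).bipartiteAbove
      (fun (P : Sylow p G) (r : Ω) => (P : Subgroup G) ≤ stabilizer G r) P).card = fixNum p G Ω := by
    intro P
    rw [← ncard_sylFix (Ω := Ω) P, Set.ncard_eq_toFinset_card']
    congr 1
    ext r; simp [Finset.bipartiteAbove]
  have h2 : ∀ r : Ω, (sylAt p G r).ncard = ((Finset.univ : Finset (Sylow p G)).bipartiteBelow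
      (fun (P : Sylow p G) (r : Ω) => (P : Subgroup G) ≤ stabilizer G r) r).card := by
    intro r
    rw [Set.ncard_eq_toFinset_card']
    congr 1
    ext P; simp [Finset.bipartiteBelow]
  simp only [h2, ← key, h1, Finset.sum_const, Finset.card_univ, smul_eq_mul]

end Finite

namespace Admissible

variable [Finite G] [Finite Ω] [Fact p.Prime] (hA : Admissible p G Ω)
include hA

theorem fixNum_lt : fixNum p G Ω < Nat.card Ω := by
  refine lt_of_le_of_ne fixNum_le_card fun he => ?_
  have h1 : ∀ P : Sylow p G, sylFix (Ω := Ω) P = Set.univ := fun P =>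
    Set.eq_of_subset_of_ncard_le (Set.subset_univ _)
      (by rw [Set.ncard_univ, ncard_sylFix, he])
  have h2 : ∀ (g : G) (r : Ω), g • r = r := by
    intro g r
    have h : (⨆ P : Sylow p G, (P : Subgroup G)) ≤ stabilizer G r :=
      iSup_le fun P => mem_sylFix.1 ((h1 P).symm ▸ Set.mem_univ r)
    rw [hA.gen] at h
    exact mem_stabilizer_iff.1 (h (Subgroup.mem_top g))
  have : Subsingleton Ω := by
    refine ⟨fun a b => ?_⟩
    obtain ⟨g, hg⟩ := hA.trans.exists_smul_eq a b
    rw [← hg, h2 g a]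
  have := hA.two
  have := Finite.card_le_one_iff_subsingleton.2 ‹Subsingleton Ω›
  omega

theorem cycNum_pos : 1 ≤ cycNum p G Ω := by
  have := hA.fixNum_lt
  have := card_eq_fixNum_add (p := p) (G := G) (Ω := Ω)
  rcases Nat.eq_zero_or_pos (cycNum p G Ω) with h | h
  · rw [h, mul_zero] at this; omega
  · exact h

theorem ncard_sylAt_eq (r s : Ω) : (sylAt p G r).ncard = (sylAt p G s).ncard := by
  obtain ⟨g, hg⟩ := hA.trans.exists_smul_eq r s
  rw [← hg, sylAt_smul, Set.ncard_smul_set]

theorem ncard_sylAt_mul (r : Ω) :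
    (sylAt p G r).ncard * Nat.card Ω = Nat.card (Sylow p G) * fixNum p G Ω := by
  rw [← sum_sylAt_eq (p := p) (G := G) (Ω := Ω)]
  have := Fintype.ofFinite Ω
  rw [finsum_eq_sum_of_fintype, Finset.sum_congr rfl fun s _ => (hA.ncard_sylAt_eq r s).symm,
    Finset.sum_const, Finset.card_univ, smul_eq_mul, Nat.card_eq_fintype_card, mul_comm]

theorem sylAt_nonempty (hf : 0 < fixNum p G Ω) (r : Ω) : (sylAt p G r).Nonempty := by
  rw [← Set.ncard_pos]
  have h := hA.ncard_sylAt_mul r
  rcases Nat.eq_zero_or_pos (sylAt p G r).ncard with h0 | h0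
  · rw [h0, zero_mul] at h
    exact absurd h.symm (Nat.mul_pos Nat.card_pos hf).ne'
  · exact h0

theorem not_dvd_card (hf : 0 < fixNum p G Ω) : ¬ p ∣ Nat.card Ω := by
  have := hA.trans
  have hne : Nonempty Ω := (Nat.card_pos_iff.1 (by have := hA.two; omega)).1
  obtain ⟨r⟩ := hne
  obtain ⟨P, hP⟩ := hA.sylAt_nonempty hf r
  rw [← MulAction.index_stabilizer_of_transitive G r]
  intro h
  exact P.not_dvd_index (h.trans (Subgroup.index_dvd_of_le hP))

theorem not_dvd_fixNum (hf : 0 < fixNum p G Ω) : ¬ p ∣ fixNum p G Ω := fun h => by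
  refine hA.not_dvd_card hf ?_
  rw [card_eq_fixNum_add (p := p) (G := G) (Ω := Ω)]
  exact Nat.dvd_add h (Dvd.intro _ rfl)

end Admissible

end CfsgLib.SylowFix
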