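import Cfsg.Agent.Lib.SylowFix.Orbit

/-!
A separated action of small slack is primitive.

With a block system, both the action on the blocks and the orbits inside a block satisfy the bound,
so the number of fixed points is at most `((p - 1) / (2p - 1)) ^ 2` times the degree.
-/

set_option autoImplicit false

open MulAction
open scoped Pointwise

namespace CfsgLib.SylowFix

universe u

/-- The inductive hypothesis: every admissible action of degree less than `n` is good. -/
def GoodBelow (p n : ℕ) : Prop :=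
  ∀ (G Ω : Type u) [Group G] [MulAction G Ω] [Finite G] [Finite Ω],
    Admissible p G Ω → Nat.card Ω < n → Good p G Ω

variable {p : ℕ}

theorem GoodBelow.mono {m n : ℕ} (h : GoodBelow.{u} p n) (hmn : m ≤ n) : GoodBelow.{u} p m :=
  fun G Ω _ _ _ _ hA hlt => h G Ω hA (hlt.trans_le hmn)

variable [Fact p.Prime]

theorem mul_slack (G : Type u) [Group G] (Ω : Type u) [MulAction G Ω] [Finite G] [Finite Ω] :
    (p : ℤ) * slack p G Ω =
      ((p : ℤ) - 1) * Nat.card Ω - (2 * p - 1) * fixNum p G Ω := by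
  have h : (Nat.card Ω : ℤ) = fixNum p G Ω + p * cycNum p G Ω := by
    exact_mod_cast card_eq_fixNum_add (p := p) (G := G) (Ω := Ω)
  rw [h, slack]; ring

variable {G : Type u} [Group G] [Finite G] {Ω : Type u} [MulAction G Ω] [Finite Ω]

/-- The bound inside an invariant set without fixed points, from the induction hypothesis. -/
theorem bound_of_goodBelow {n : ℕ} (ih : GoodBelow.{u} p n) {K : Subgroup G}
    (hK : SylGenerated p K) {W : Set Ω} (hW : ∀ k ∈ K, ∀ y ∈ W, k • y ∈ W)
    (hmov : ∀ y ∈ W, ¬ K ≤ stabilizer G y) (hWn : W.ncard < n)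
    {P : Sylow p G} (hP : (P : Subgroup G) ≤ K) :
    (2 * (p : ℤ) - 1) * (W ∩ sylFix P).ncard ≤ ((p : ℤ) - 1) * W.ncard := by
  have hs : 0 ≤ ∑ t ∈ orbReps K W, slack p K (orbit K t) := Finset.sum_nonneg fun t ht => by
    have htW := mem_of_mem_orbReps hW ht
    refine (ih K (orbit K t) (hK.admissible_orbit (hmov t htW)) (lt_of_le_of_lt ?_ hWn)).1
    rw [Nat.card_coe_set_eq]
    refine Set.ncard_le_ncard ?_
    rintro _ ⟨k, rfl⟩
    exact hW k.1 k.2 t htW
  have h := mul_sum_slack hK hW hP
  have : 0 ≤ (p : ℤ) * ∑ t ∈ orbReps K W, slack p K (orbit K t) :=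
    mul_nonneg (Int.natCast_nonneg p) hs
  linarith

namespace Admissible

variable (ih : GoodBelow.{u} p (Nat.card Ω)) (hA : Admissible p G Ω)
include ih hA

/-- The fixed points of a Sylow subgroup inside a block it stabilises. -/
theorem block_bound (hsep : Separated p G Ω) {B : Set Ω} (hB : IsBlock G B) (h2 : B.Nontrivial)
    (hlt : B.ncard < Nat.card Ω) {P : Sylow p G} (hP : (P : Subgroup G) ≤ stabilizer G B) :
    (2 * (p : ℤ) - 1) * (B ∩ sylFix P).ncard ≤ ((p : ℤ) - 1) * B.ncard := by
  set K := sylGen (sylIn p (stabilizer G B)) with hKdef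
  have hK : SylGenerated p K := sylGenerated_sylGen ⟨P, hP⟩
  have hKB : K ≤ stabilizer G B := sylGen_le_iff.2 fun Q hQ => hQ
  have hmem : ∀ k ∈ K, ∀ y ∈ B, k • y ∈ B := fun k hk y hy => by
    rw [← mem_stabilizer_iff.1 (hKB hk)]
    exact Set.smul_mem_smul_set hy
  refine bound_of_goodBelow ih hK hmem ?_ hlt (le_sylGen hP)
  intro x hx hfix
  have := hA.trans
  have hall : ∀ y ∈ B, sylAt p G y = sylIn p (stabilizer G B) := by
    intro y hy
    apply Set.Subset.antisymm
    · intro Q hQ g hg
      exact mem_stabilizer_iff.2 (hB.smul_eq_of_mem hy (by rwa [mem_stabilizer_iff.1 (hQ hg)]))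
    · intro Q hQ
      obtain ⟨h, rfl⟩ := exists_smul_eq G x y
      have hh : h ∈ stabilizer G B := mem_stabilizer_iff.2 (hB.smul_eq_of_mem hx hy)
      have h1 : h⁻¹ • Q ∈ sylAt p G x := (le_sylGen (smul_mem_sylIn (inv_mem hh) hQ)).trans hfix
      rw [sylAt_smul, Set.mem_smul_set_iff_inv_smul_mem]
      exact h1
  obtain ⟨a, ha, b, hb, hab⟩ := h2
  exact hab (hsep ((hall a ha).trans (hall b hb).symm))

/-- A separated action with fixed points and small slack is primitive. -/
theorem isPreprimitive (hf : 0 < fixNum p G Ω) (hsep : Separated p G Ω)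
    (hJ : slack p G Ω ≤ (p : ℤ) - 1) : IsPreprimitive G Ω := by
  classical
  have := hA.trans
  refine ⟨fun {B} hB => ?_⟩
  by_contra hnt
  simp only [IsTrivialBlock, not_or, Set.not_subsingleton_iff] at hnt
  obtain ⟨h2, huniv⟩ := hnt
  have hlt : B.ncard < Nat.card Ω := by
    rw [← Set.ncard_univ]
    exact Set.ncard_lt_ncard (Set.ssubset_univ_iff.2 huniv)
  have hb2 : 2 ≤ B.ncard := Set.one_lt_ncard_iff_nontrivial.2 h2
  have hne := h2.nonempty
  have hcard := MulAction.IsBlock.ncard_block_mul_ncard_orbit_eq hB hne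
  have hq2 : 2 ≤ Nat.card (orbit G B) := by
    rw [Nat.card_coe_set_eq]
    rcases Nat.lt_or_ge (orbit G B).ncard 2 with h | h
    · interval_cases (orbit G B).ncard <;> omega
    · exact h
  have hAq : Admissible p G (orbit G B) := ⟨inferInstance, hA.gen, hq2⟩
  have hqn : Nat.card (orbit G B) < Nat.card Ω := by
    rw [← hcard, Nat.card_coe_set_eq]
    rw [Nat.card_coe_set_eq] at hq2
    nlinarith
  obtain ⟨P⟩ := (inferInstance : Nonempty (Sylow p G))
  -- fixed blocks
  set F : Set (Set Ω) := orbit G B ∩ {C | (P : Subgroup G) ≤ stabilizer G C} with hFdef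
  have hF : F.ncard = fixNum p G (orbit G B) := by
    rw [← ncard_sylFix (Ω := orbit G B) P, ← Set.ncard_image_of_injective _ Subtype.val_injective]
    congr 1
    ext C
    constructor
    · intro hC
      exact ⟨⟨C, hC.1⟩, fun g hg => mem_stabilizer_iff.2
        (Subtype.ext (mem_stabilizer_iff.1 (hC.2 hg))), rfl⟩
    · rintro ⟨D, hD, rfl⟩
      exact ⟨D.2, fun g hg => mem_stabilizer_iff.2
        (congrArg Subtype.val (mem_stabilizer_iff.1 (hD hg)))⟩
  have hcov : ∀ r : Ω, ∃ C ∈ orbit G B, r ∈ C := by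
    intro r
    obtain ⟨b, hb⟩ := hne
    obtain ⟨g, rfl⟩ := exists_smul_eq G b r
    exact ⟨g • B, ⟨g, rfl⟩, Set.smul_mem_smul_set hb⟩
  choose π hπ hrπ using hcov
  have hblock : ∀ C ∈ orbit G B, IsBlock G C := by
    rintro _ ⟨g, rfl⟩
    exact hB.translate g
  -- counting fixed points block by block
  have hcount : (2 * (p : ℤ) - 1) * fixNum p G Ω ≤ F.ncard * (((p : ℤ) - 1) * B.ncard) := by
    have := Fintype.ofFinite Ω
    rw [← ncard_sylFix (Ω := Ω) P, Set.ncard_eq_toFinset_card' (sylFix P),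
      Finset.card_eq_sum_card_fiberwise (f := π) (t := F.toFinset) ?_]
    · push_cast
      rw [Finset.mul_sum, Set.ncard_eq_toFinset_card' F, ← nsmul_eq_mul]
      refine Finset.sum_le_card_nsmul _ _ _ fun C hC => ?_
      obtain ⟨⟨g, rfl⟩, hPC⟩ := Set.mem_toFinset.1 hC
      have hb := hA.block_bound ih hsep (hB.translate g)
        (h2.image (MulAction.injective g))
        (by rw [Set.ncard_smul_set]; exact hlt) hPC
      rw [Set.ncard_smul_set] at hb
      refine le_trans ?_ hb
      gcongr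
      · have : (2 : ℤ) ≤ p := by exact_mod_cast (Fact.out : p.Prime).two_le
        linarith
      rw [Set.ncard_eq_toFinset_card']
      refine Finset.card_le_card fun r hr => ?_
      simp only [Finset.mem_filter, Set.mem_toFinset] at hr ⊢
      exact ⟨hr.2 ▸ hrπ r, hr.1⟩
    · intro r hr
      simp only [Set.coe_toFinset] at hr ⊢
      exact ⟨hπ r, fun g hg => mem_stabilizer_iff.2 ((hblock _ (hπ r)).smul_eq_of_mem (hrπ r)
        (by rw [mem_stabilizer_iff.1 (hr hg)]; exact hrπ r))⟩
  rw [hF] at hcount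
  have hgoodq := (ih G (orbit G B) hAq hqn).1
  have hms := mul_slack (p := p) G (orbit G B)
  have hmsΩ := mul_slack (p := p) G Ω
  have hfq : 1 ≤ fixNum p G (orbit G B) := by
    by_contra h0
    have : fixNum p G (orbit G B) = 0 := by omega
    rw [this] at hcount
    simp only [Nat.cast_zero, zero_mul] at hcount
    have : (2 : ℤ) ≤ p := by exact_mod_cast (Fact.out : p.Prime).two_le
    have : (1 : ℤ) ≤ fixNum p G Ω := by exact_mod_cast hf
    nlinarith
  have hq : (p : ℤ) + 1 ≤ Nat.card (orbit G B) := by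
    have h1 := hAq.cycNum_pos
    have h2' := card_eq_fixNum_add (p := p) (G := G) (Ω := orbit G B)
    have : p + 1 ≤ Nat.card (orbit G B) := by
      rw [h2']
      have : p * 1 ≤ p * cycNum p G (orbit G B) := Nat.mul_le_mul_left _ h1
      omega
    exact_mod_cast this
  have hn : (Nat.card Ω : ℤ) = B.ncard * Nat.card (orbit G B) := by
    rw [Nat.card_coe_set_eq]; exact_mod_cast hcard.symm
  rw [hn] at hmsΩ
  generalize (Nat.card (orbit G B) : ℤ) = q at hms hmsΩ hq
  generalize (fixNum p G (orbit G B) : ℤ) = fB at hms hcount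
  generalize hb' : (B.ncard : ℤ) = b at hmsΩ hcount
  have hb2' : (2 : ℤ) ≤ b := by rw [← hb']; exact_mod_cast hb2
  generalize (fixNum p G Ω : ℤ) = f at hmsΩ hcount
  generalize slack p G Ω = J at hJ hmsΩ
  generalize slack p G (orbit G B) = Jq at hgoodq hms
  have hp : (2 : ℤ) ≤ p := by exact_mod_cast (Fact.out : p.Prime).two_le
  generalize (p : ℤ) = P at hp hJ hms hmsΩ hcount hq
  -- `(2P-1)² f ≤ (P-1)² b q`
  have h1 : (2 * P - 1) * fB ≤ (P - 1) * q := by nlinarith
  have h2 : (2 * P - 1) * ((2 * P - 1) * f) ≤ (P - 1) * ((P - 1) * (b * q)) := by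
    calc (2 * P - 1) * ((2 * P - 1) * f) ≤ (2 * P - 1) * (fB * ((P - 1) * b)) :=
          mul_le_mul_of_nonneg_left hcount (by linarith)
      _ = ((2 * P - 1) * fB) * ((P - 1) * b) := by ring
      _ ≤ ((P - 1) * q) * ((P - 1) * b) :=
          mul_le_mul_of_nonneg_right h1 (mul_nonneg (by linarith) (by linarith))
      _ = _ := by ring
  have h3 : P * ((P - 1) * (b * q)) ≤ P * ((2 * P - 1) * J) := by nlinarith
  have h4 : (P - 1) * (b * q) ≤ (2 * P - 1) * J := le_of_mul_le_mul_left h3 (by linarith)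
  have h5 : 2 * (P + 1) ≤ b * q := mul_le_mul hb2' hq (by linarith) (by linarith)
  nlinarith

end Admissible

end CfsgLib.SylowFix
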