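import Cfsg.Agent.Lib.Solvable.CoprimeAction
import Mathlib.GroupTheory.GroupAction.Basic

/-!
A `p`-group normalising a transitive subgroup `N` of coprime order fixes a number of points that
divides the degree.
-/

set_option autoImplicit false

open MulAction
open scoped Pointwise

namespace CfsgLib.SylowFix

universe u v

theorem factorization_card_sylow {G : Type u} [Group G] [Finite G] {l : ℕ} [Fact l.Prime]
    {K : Subgroup G} (S : Sylow l K) :
    Nat.card ((S : Subgroup K).map K.subtype) = l ^ (Nat.card K).factorization l := by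
  rw [Solvable.card_sylow_map, Sylow.card_eq_multiplicity]

theorem ncard_fixed_dvd_card {G : Type u} [Group G] [Finite G] {α : Type v} [MulAction G α]
    [Finite α] {p : ℕ} [Fact p.Prime] {A N : Subgroup G}
    (hAN : A ≤ Subgroup.normalizer (N : Set G)) (hA : IsPGroup p A)
    (hN : ¬ p ∣ Nat.card N) (htr : ∀ x y : α, ∃ n ∈ N, n • x = y)
    {y : α} (hy : A ≤ stabilizer G y) :
    {x : α | A ≤ stabilizer G x}.ncard ∣ Nat.card α := by
  classical
  have hcop : (Nat.card A).Coprime (Nat.card N) := by
    obtain ⟨e, he⟩ := hA.exists_card_eq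
    rw [he]
    exact Nat.Coprime.pow_left _ ((Fact.out : p.Prime).coprime_iff_not_dvd.2 hN)
  have hsolA : Group.IsSolvable A := by
    have := hA.isNilpotent
    infer_instance
  set C := N ⊓ Subgroup.centralizer (A : Set G) with hC
  set M := N ⊓ stabilizer G y with hM
  have hAM : A ≤ Subgroup.normalizer (M : Set G) :=
    Solvable.le_normalizer_inf hAN (hy.trans Subgroup.le_normalizer)
  have hcopM : (Nat.card A).Coprime (Nat.card M) :=
    hcop.coprime_dvd_right (Subgroup.card_dvd_of_le inf_le_left)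
  -- the fixed points form one orbit of the centraliser
  have hfix : {x : α | A ≤ stabilizer G x} = orbit C y := by
    ext x
    constructor
    · intro hx
      obtain ⟨n, hn, rfl⟩ := htr y x
      obtain ⟨c, hc, hcy⟩ := Solvable.exists_centralizer_smul_eq A N hAN hcop (Or.inl hsolA) y hn
        (fun a ha => mem_stabilizer_iff.1 (hy ha)) (fun a ha => mem_stabilizer_iff.1 (hx ha))
      exact ⟨⟨c, hc⟩, hcy⟩
    · rintro ⟨⟨c, hc⟩, rfl⟩ a ha
      show a • c • y = c • y
      rw [← mul_smul, Subgroup.mem_centralizer_iff.1 hc.2 a ha, mul_smul,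
        mem_stabilizer_iff.1 (hy ha)]
  rw [hfix, ← Nat.card_coe_set_eq]
  have horb : orbit N y = Set.univ := Set.eq_univ_of_forall fun x => by
    obtain ⟨n, hn, rfl⟩ := htr y x
    exact ⟨⟨n, hn⟩, rfl⟩
  have hcN : Nat.card α * Nat.card M = Nat.card N := by
    rw [← Set.ncard_univ, ← horb, ← index_stabilizer, ← Subgroup.index_mul_card (stabilizer N y)]
    congr 1
    refine Nat.card_congr ⟨fun m => ⟨⟨m.1, m.2.1⟩, m.2.2⟩, fun m => ⟨m.1.1, m.1.2, m.2⟩,
      fun _ => rfl, fun _ => rfl⟩
  set CM := C ⊓ stabilizer G y with hCM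
  have hcC : Nat.card (orbit C y) * Nat.card CM = Nat.card C := by
    rw [Nat.card_coe_set_eq, ← index_stabilizer, ← Subgroup.index_mul_card (stabilizer C y)]
    congr 1
    refine Nat.card_congr ⟨fun m => ⟨⟨m.1, m.2.1⟩, m.2.2⟩, fun m => ⟨m.1.1, m.1.2, m.2⟩,
      fun _ => rfl, fun _ => rfl⟩
  have hpos : Nat.card (orbit C y) ≠ 0 := by
    intro h
    rw [h, zero_mul] at hcC
    exact Nat.card_pos.ne hcC
  have hαpos : Nat.card α ≠ 0 := by
    intro h
    rw [h, zero_mul] at hcN
    exact Nat.card_pos.ne hcN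
  rw [← Nat.factorization_prime_le_iff_dvd hpos hαpos]
  intro l hl
  have : Fact l.Prime := ⟨hl⟩
  obtain ⟨S, hS⟩ := Solvable.exists_invariant_sylow A M hAM hcopM (Or.inl hsolA) l
  set S' := (S : Subgroup M).map M.subtype with hS'
  obtain ⟨R, hSR, hR⟩ := Solvable.exists_invariant_sylow_ge hAN hcop (Or.inl hsolA) l
    (U := S') ((Subgroup.map_subtype_le _).trans inf_le_left) (S.2.map _) hS
  set R' := (R : Subgroup N).map N.subtype with hR'
  set CR := R' ⊓ Subgroup.centralizer (A : Set G)
  set CS := S' ⊓ Subgroup.centralizer (A : Set G)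
  -- a Sylow subgroup of the centraliser lies in `CR`, up to conjugation
  obtain ⟨U⟩ := (inferInstance : Nonempty (Sylow l C))
  set U' := (U : Subgroup C).map C.subtype with hU'
  have hUA : A ≤ Subgroup.normalizer (U' : Set G) := by
    refine le_trans (fun a ha => Subgroup.mem_centralizer_iff.2 fun u hu => ?_)
      (Subgroup.centralizer_le_normalizer (U' : Set G))
    exact (Subgroup.mem_centralizer_iff.1 (Subgroup.map_subtype_le _ hu).2 a ha).symm
  obtain ⟨R₂, hUR, hR₂⟩ := Solvable.exists_invariant_sylow_ge hAN hcop (Or.inl hsolA) l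
    (U := U') ((Subgroup.map_subtype_le _).trans inf_le_left) (U.2.map _) hUA
  obtain ⟨c, hc, hcR⟩ := Solvable.exists_centralizer_conj_sylow A N hAN hcop (Or.inl hsolA)
    R₂ R hR₂ hR
  have h1 : MulAut.conj c • U' ≤ CR := by
    refine le_inf ?_ ?_
    · exact (Subgroup.pointwise_smul_le_pointwise_smul_iff.2 hUR).trans hcR.le
    · rintro _ ⟨u, hu, rfl⟩
      exact mul_mem (mul_mem hc.2 (Subgroup.map_subtype_le _ hu).2) (inv_mem hc.2)
  have hUle : Nat.card U' ≤ Nat.card CR := by
    rw [← Solvable.card_conj_smul (G := G) c U']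
    exact Subgroup.card_le_of_le h1
  -- exponents
  have hRc := factorization_card_sylow R
  have hSc := factorization_card_sylow S
  have hUc := factorization_card_sylow U
  rw [← hR'] at hRc
  rw [← hS'] at hSc
  rw [← hU'] at hUc
  obtain ⟨ρ, hρ⟩ := ((R.2.map N.subtype).to_le (show CR ≤ R' from inf_le_left)).exists_card_eq
  obtain ⟨σ, hσ⟩ := ((S.2.map M.subtype).to_le (show CS ≤ S' from inf_le_left)).exists_card_eq
  have hrel : Nat.card CR * Nat.card S' ≤ Nat.card R' * Nat.card CS := by
    have e : CS = S' ⊓ CR := by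
      rw [← inf_assoc, inf_eq_left.2 hSR]
    have h2 := Subgroup.relIndex_le_of_le_right (show CR ≤ R' from inf_le_left) (H := S')
      (Subgroup.index_ne_zero_of_finite)
    have e1 : S'.relIndex CR * Nat.card CS = Nat.card CR := by
      rw [e, ← Subgroup.inf_relIndex_right, mul_comm, ← Subgroup.relIndex_bot_left (S' ⊓ CR),
        ← Subgroup.relIndex_bot_left CR]
      exact Subgroup.relIndex_mul_relIndex _ _ _ bot_le inf_le_right
    have e2 : S'.relIndex R' * Nat.card S' = Nat.card R' := by
      rw [mul_comm, ← Subgroup.relIndex_bot_left S', ← Subgroup.relIndex_bot_left R']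
      exact Subgroup.relIndex_mul_relIndex _ _ _ bot_le hSR
    rw [← e1, ← e2]
    calc S'.relIndex CR * Nat.card CS * Nat.card S' ≤ S'.relIndex R' * Nat.card CS * Nat.card S' := by
          gcongr
      _ = _ := by ring
  rw [hρ, hSc, hRc, hσ, ← pow_add, ← pow_add, Nat.pow_le_pow_iff_right hl.one_lt] at hrel
  rw [hUc, hρ, Nat.pow_le_pow_iff_right hl.one_lt] at hUle
  have hCMl : σ ≤ (Nat.card CM).factorization l := by
    have hle : CS ≤ CM := by
      intro x hx
      have hxM : x ∈ M := Subgroup.map_subtype_le _ hx.1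
      exact ⟨⟨hxM.1, hx.2⟩, hxM.2⟩
    rw [← hl.pow_dvd_iff_le_factorization Nat.card_pos.ne', ← hσ]
    exact Subgroup.card_dvd_of_le hle
  have f1 := congrArg (fun n => Nat.factorization n l) hcC
  have f2 := congrArg (fun n => Nat.factorization n l) hcN
  simp only [Nat.factorization_mul hpos Nat.card_pos.ne',
    Nat.factorization_mul hαpos Nat.card_pos.ne', Finsupp.coe_add, Pi.add_apply] at f1 f2
  omega

end CfsgLib.SylowFix
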