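import Cfsg.Agent.Lib.SylowFix.Closed
import Cfsg.Agent.Lib.SylowFix.CoprimeFix
import Cfsg.Agent.Lib.SylowFix.Alternating

/-!
Natural pairs with parameter `p - 1` and lines with more than two points: the centres whose bundle
at `s` contains a given point `t` form an orbit of `ptGen s`.
-/

set_option autoImplicit false

open MulAction
open scoped Pointwise

namespace CfsgLib.SylowFix

universe u

variable {p : ℕ} {G : Type u} [Group G] {Ω : Type u} [MulAction G Ω]

variable (p G) in
/-- The points on the line of `b` at `a`, other than `a`. -/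
def lineCls (a b : Ω) : Set Ω := {v | pairSyl p G a v = pairSyl p G a b}

variable (p G) in
/-- The centres in the bundle of `r` at `s` whose bundle of `s` contains `t`. -/
def centres (r s t : Ω) : Set Ω :=
  {a | pairSyl p G s a ∈ lineSet p G s r ∧ pairSyl p G a t ∈ lineSet p G a s}

variable [Finite G] [Finite Ω] [Fact p.Prime]

namespace Small

variable (h : Small p G Ω)
include h

theorem ncard_bundle_eq {a b : Ω} (hba : b ≠ a) :
    (bundle p G a b).ncard = (lineSet p G a b).ncard * (lineCls p G a b).ncard := by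
  classical
  have := Fintype.ofFinite Ω
  rw [Set.ncard_eq_toFinset_card (bundle p G a b),
    Finset.card_eq_sum_card_fiberwise (f := pairSyl p G a)
      (t := (Set.toFinite (lineSet p G a b)).toFinset) (fun v hv => by
        simpa [bundle] using hv),
    Set.ncard_eq_toFinset_card (lineSet p G a b), ← smul_eq_mul, ← Finset.sum_const]
  refine Finset.sum_congr rfl fun A hA => ?_
  obtain ⟨k, rfl⟩ := (Set.Finite.mem_toFinset _).1 hA
  have hkr := ptGen_le_stabilizer a k.2
  rw [← Set.ncard_smul_set (k : G) (lineCls p G a b), ← Set.ncard_coe_finset]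
  congr 1
  ext v
  simp only [Finset.coe_filter, Set.Finite.mem_toFinset, Set.mem_setOf_eq,
    Set.mem_smul_set_iff_inv_smul_mem, lineCls, bundle]
  constructor
  · rintro ⟨-, e⟩
    rw [pairSyl_smul_right (inv_mem hkr), e]
    exact inv_smul_smul (k : G) _
  · intro e
    rw [pairSyl_smul_right (inv_mem hkr), inv_smul_eq_iff] at e
    exact ⟨e ▸ ⟨k, rfl⟩, e⟩

theorem lineCls_subset_bundle {a b : Ω} : lineCls p G a b ⊆ bundle p G a b := fun v hv => by
  show pairSyl p G a v ∈ lineSet p G a b
  rw [show pairSyl p G a v = pairSyl p G a b from hv]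
  exact mem_lineSet_self a b

/-- A point of parameter `p - 2` at `s` is off the line of `s` at every centre. -/
theorem off_line_of_rel (hp : p ≠ 2) {a s t : Ω} (hN : NatPair p G (p - 1) a s)
    (hts : t ≠ s) (hst : Rel p G (p - 2) s t) : pairSyl p G a t ≠ pairSyl p G a s := by
  intro e
  have hR := h.relNatural_exact
  have e' := h.line_eq_three hR hN hts e
  have : Rel p G (p - 1) s t := by
    rw [Rel, e']
    exact h.rel_comm.1 (h.rel_of_natPair hN)
  refine h.not_rel_two ?_ hst this
  have := (Fact.out : p.Prime).two_le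
  omega

theorem natPair_at_centre {r s a : Ω} (hN : NatPair p G (p - 1) r s)
    (ha : pairSyl p G s a ∈ lineSet p G s r) : NatPair p G (p - 1) a s := by
  have hN' := h.relNatural_exact s r hN.ne.symm (h.rel_comm.1 (h.rel_of_natPair hN))
  exact h.relNatural_exact a s (h.ne_of_mem_lineSet hN'.ne ha).symm
    (h.rel_comm.1 (rel_of_mem_lineSet (h.rel_of_natPair hN') ha))

/-- On each line at `s` there is at most one centre for `t`. -/
theorem centre_unique (hp : p ≠ 2) {a a' s t : Ω} (hN : NatPair p G (p - 1) a s)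
    (hline : pairSyl p G s a' = pairSyl p G s a) (hts : t ≠ s) (hst : Rel p G (p - 2) s t)
    (hta : pairSyl p G a t ∈ lineSet p G a s) (hta' : pairSyl p G a' t ∈ lineSet p G a' s) :
    a' = a := by
  by_contra hne
  have hR := h.relNatural_exact
  have hN' := hR s a hN.ne.symm (h.rel_comm.1 (h.rel_of_natPair hN))
  have e1 : pairSyl p G a a' = pairSyl p G a s := h.line_eq_three hR hN' hne hline
  have hNa' : NatPair p G (p - 1) a a' :=
    hR a a' hne (by rw [Rel, e1]; exact h.rel_of_natPair hN)
  have hN'' := hR a' s (h.ne_of_mem_lineSet hN'.ne (by rw [hline]; exact mem_lineSet_self s a)).symm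
    (h.rel_comm.1 (by rw [Rel, hline]; exact h.rel_of_natPair hN'))
  have e2 : pairSyl p G a' s = pairSyl p G a' a :=
    h.line_eq_three hR hNa' (fun e => hN''.ne (by rw [e])) e1.symm
  have hoff := h.off_line_of_rel hp hN hts hst
  have hoff' := h.off_line_of_rel hp hN'' hts hst
  have hta'ne : t ≠ a' := h.ne_of_mem_lineSet hN''.ne hta'
  refine h.not_coupled hp hNa' hta'ne ?_ (by rw [e1]; exact hoff) ?_
  · rwa [show lineSet p G a a' = lineSet p G a s by rw [lineSet, e1]]
  · rwa [show lineSet p G a' a = lineSet p G a' s by rw [lineSet, ← e2]]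

/-- The lines of an exact pair are short. -/
theorem lineCls_sq_le (hp : p ≠ 2) {r s : Ω} (hN : NatPair p G (p - 1) r s) :
    (lineCls p G s r).ncard * (lineCls p G s r).ncard ≤ p - 1 := by
  classical
  have hR := h.relNatural_exact
  set A := lineCls p G s r with hA
  set c := A.ncard with hc
  have hN' := hR s r hN.ne.symm (h.rel_comm.1 (h.rel_of_natPair hN))
  have hmemA : ∀ a ∈ A, NatPair p G (p - 1) a s := fun a ha =>
    h.natPair_at_centre hN (h.lineCls_subset_bundle ha)
  have hcls : ∀ a ∈ A, (lineCls p G a s).ncard = c := by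
    intro a ha
    have haN := hmemA a ha
    have e : lineCls p G a s = insert s (A \ {a}) := by
      ext v
      simp only [Set.mem_insert_iff, Set.mem_diff, Set.mem_singleton_iff]
      constructor
      · intro hv
        rcases eq_or_ne v s with rfl | hvs
        · exact Or.inl rfl
        · refine Or.inr ⟨?_, ?_⟩
          · show pairSyl p G s v = pairSyl p G s r
            rw [h.line_eq_three hR haN hvs hv]
            exact ha
          · exact h.ne_of_mem_lineSet haN.ne (h.lineCls_subset_bundle hv)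
      · rintro (rfl | ⟨hv, hva⟩)
        · exact rfl
        · exact h.line_eq_three hR (hR s a haN.ne.symm (h.rel_comm.1 (h.rel_of_natPair haN))) hva
            ((hv : pairSyl p G s v = _).trans (ha : pairSyl p G s a = _).symm)
    rw [e, Set.ncard_insert_of_notMem, Set.ncard_diff_singleton_add_one ha]
    rintro ⟨hs, -⟩
    exact h.ne_of_mem_lineSet hN'.ne (h.lineCls_subset_bundle hs) rfl
  set U : Set Ω := {t | t ≠ s ∧ Rel p G (p - 2) s t} with hU
  set O := fun a => bundle p G a s \ lineCls p G a s with hO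
  have hOU : ∀ a ∈ A, O a ⊆ U := by
    rintro a ha t ⟨ht, hts⟩
    have hts' : t ≠ s := fun e => hts (by rw [e]; exact rfl)
    exact ⟨hts', (h.rel_of_off_line hp (hmemA a ha) hts' ht hts).1⟩
  have hOcard : ∀ a ∈ A, (O a).ncard = (p + (p - 1) - 1) * c := by
    intro a ha
    rw [hO, Set.ncard_diff h.lineCls_subset_bundle, h.ncard_bundle_eq (hmemA a ha).ne,
      (hmemA a ha).card, hcls a ha, Nat.sub_mul, one_mul]
  set Af := (Set.toFinite A).toFinset with hAf
  have hdisj : (Af : Set Ω).PairwiseDisjoint fun a => (Set.toFinite (O a)).toFinset := by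
    intro a ha a' ha' hne
    rw [Function.onFun, Finset.disjoint_left]
    intro t ht ht'
    simp only [Finset.mem_coe, Af, Set.Finite.mem_toFinset] at ha ha'
    rw [Set.Finite.mem_toFinset] at ht ht'
    obtain ⟨hts, hst⟩ := hOU a ha ht
    exact hne (h.centre_unique hp (hmemA a' ha') ((ha : pairSyl p G s a = _).trans
      (ha' : pairSyl p G s a' = _).symm) hts hst ht'.1 ht.1)
  have hlow : c * ((p + (p - 1) - 1) * c) ≤ U.ncard := by
    have e : c * ((p + (p - 1) - 1) * c) =
        (Af.biUnion fun a => (Set.toFinite (O a)).toFinset).card := by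
      rw [Finset.card_biUnion hdisj, Finset.sum_congr rfl (g := fun _ => (p + (p - 1) - 1) * c)]
      · rw [Finset.sum_const, smul_eq_mul, ← Set.ncard_eq_toFinset_card]
      · intro a ha
        rw [← Set.ncard_eq_toFinset_card]
        exact hOcard a (by simpa [Af] using ha)
    rw [e, Set.ncard_eq_toFinset_card U]
    refine Finset.card_le_card fun t ht => ?_
    simp only [Finset.mem_biUnion, Af, Set.Finite.mem_toFinset] at ht ⊢
    obtain ⟨a, ha, ht⟩ := ht
    exact hOU a ha ht
  have hp2 := (Fact.out : p.Prime).two_le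
  have hup : (U.ncard : ℤ) ≤ (2 * (p : ℤ) - 2) * (slack p G Ω + 1) := by
    have e : U.ncard = (({s}ᶜ : Set Ω) ∩ U).ncard := by
      congr 1
      ext t
      exact ⟨fun ht => ⟨ht.1, ht⟩, fun ht => ht.2⟩
    rw [e, sum_orbReps (h.compl_invariant s) U, ← h.sum_slack s, Finset.mul_sum]
    push_cast
    refine Finset.sum_le_sum fun t ht => ?_
    have hts := h.ne_of_mem_reps ht
    rcases (orbit (ptGen p G s) t ∩ U).eq_empty_or_nonempty with h0 | ⟨v, ⟨k, rfl⟩, hv⟩
    · rw [h0, Set.ncard_empty, Nat.cast_zero]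
      exact mul_nonneg (by omega) (h.slack_orbit_nonneg hts)
    · have hrel : Rel p G (p - 2) s t := by
        have := h.adm.rel_smul (k : G)⁻¹ hv.2
        rwa [mem_stabilizer_iff.1 (inv_mem (ptGen_le_stabilizer s k.2)),
          show (k : G)⁻¹ • (k • t) = t from inv_smul_smul (k : G) t] at this
      have hle : ((orbit (ptGen p G s) t ∩ U).ncard : ℤ) ≤ (orbit (ptGen p G s) t).ncard := by
        exact_mod_cast Set.ncard_le_ncard Set.inter_subset_left
      refine hle.trans (le_of_eq ?_)
      have e1 := h.fixNum_of_rel hts hrel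
      have e2 := card_eq_fixNum_add (p := p) (G := ptGen p G s) (Ω := orbit (ptGen p G s) t)
      rw [Nat.card_coe_set_eq, e1] at e2
      rw [h.slack_of_rel hts hrel, e2]
      push_cast [hp2]
      ring
  have hlow' : ((c * c : ℕ) : ℤ) * (2 * (p : ℤ) - 2) ≤ U.ncard := by
    refine le_trans (le_of_eq ?_) (Int.ofNat_le.2 hlow)
    rw [show p + (p - 1) - 1 = 2 * p - 2 by omega]
    push_cast [show 2 ≤ 2 * p by omega]
    ring
  have hsm := h.small
  have : ((c * c : ℕ) : ℤ) ≤ slack p G Ω + 1 :=
    le_of_mul_le_mul_right (by linarith) (show (0 : ℤ) < 2 * (p : ℤ) - 2 by omega)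
  omega

/-- The centres for `t` form the orbit of `r`. -/
theorem centres_eq_orbit (hp : p ≠ 2) {r s t : Ω} (hN : NatPair p G (p - 1) r s)
    (hc : 2 ≤ (lineCls p G s r).ncard) (hts : t ≠ s)
    (ht : pairSyl p G r t ∈ lineSet p G r s) (hst : Rel p G (p - 2) s t) :
    centres p G r s t = orbit (ptGen p G s) r := by
  classical
  have hR := h.relNatural_exact
  have hN' := hR s r hN.ne.symm (h.rel_comm.1 (h.rel_of_natPair hN))
  have hsq := h.lineCls_sq_le hp hN
  set c := (lineCls p G s r).ncard with hcdef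
  have hp5 : 5 ≤ p := by
    have : 4 ≤ p - 1 := le_trans (Nat.mul_le_mul hc hc) hsq
    omega
  have hcp : c < p := by nlinarith [Nat.le_mul_self c, Nat.sub_le p 1]
  set X := ptGen p G s with hX
  set Y := pairSyl p G s t with hY
  set Q := lineSet p G s t with hQ
  have hYne : Y.Nonempty := h.nonempty_of_rel (by omega) hst
  -- equivariance of the centres
  have heq : ∀ g ∈ X, ∀ t', centres p G r s (g • t') = g • centres p G r s t' := by
    intro g hg t'
    have hgs := mem_stabilizer_iff.1 (ptGen_le_stabilizer s hg)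
    have key : ∀ g ∈ X, ∀ a t', a ∈ centres p G r s t' → g • a ∈ centres p G r s (g • t') := by
      intro g hg a t' ha
      have hgs := mem_stabilizer_iff.1 (ptGen_le_stabilizer s hg)
      refine ⟨?_, ?_⟩
      · rw [pairSyl_smul_right (ptGen_le_stabilizer s hg)]
        exact smul_mem_lineSet hg ha.1
      · have := smul_lineSet_mem g ha.2
        rwa [smul_pairSyl, hgs] at this
    ext a
    rw [Set.mem_smul_set_iff_inv_smul_mem]
    refine ⟨fun ha => ?_, fun ha => ?_⟩
    · have := key g⁻¹ (inv_mem hg) a _ ha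
      rwa [inv_smul_smul] at this
    · have := key g hg _ _ ha
      rwa [smul_inv_smul] at this
  -- one centre on every line
  obtain ⟨-, htr⟩ := (h.coupled_or_uniform hN' hts).resolve_left fun e => by
    refine h.not_rel_two ?_ hst (rel_of_mem_lineSet (h.rel_of_natPair hN') e)
    omega
  have htr := htr hYne
  have hDX : sylGen Y ≤ X := sylGen_le_iff.2 fun P hP => le_sylGen hP.1
  have hDt : sylGen Y ≤ stabilizer G t := sylGen_le_iff.2 fun P hP => hP.2
  have hrmem : r ∈ centres p G r s t := ⟨mem_lineSet_self s r, ht⟩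
  have hTcard : (centres p G r s t).ncard = p + (p - 1) := by
    rw [← hN'.card]
    refine Set.ncard_congr (fun a _ => pairSyl p G s a) (fun a ha => ha.1) ?_ ?_
    · intro a a' ha ha' e
      exact h.centre_unique hp (h.natPair_at_centre hN ha'.1) e hts hst ha'.2 ha.2
    · intro l hl
      obtain ⟨g, hg, hgl⟩ := htr _ (mem_lineSet_self s r) l hl
      refine ⟨g • r, ?_, by rw [pairSyl_smul_right (ptGen_le_stabilizer s (hDX hg)), hgl]⟩
      have := heq g (hDX hg) t
      rw [mem_stabilizer_iff.1 (hDt hg)] at this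
      rw [this]
      exact Set.smul_mem_smul_set hrmem
  -- it suffices that the set of centres be invariant
  suffices hinv : X ≤ stabilizer G (centres p G r s t) by
    have hsub : orbit X r ⊆ centres p G r s t := by
      rintro _ ⟨k, rfl⟩
      rw [← mem_stabilizer_iff.1 (hinv k.2)]
      exact Set.smul_mem_smul_set hrmem
    refine (Set.eq_of_subset_of_ncard_le hsub ?_).symm
    rw [hTcard, ← hN'.card]
    have : lineSet p G s r ⊆ pairSyl p G s '' orbit X r := by
      rintro _ ⟨k, rfl⟩
      exact ⟨(k : G) • r, ⟨k, rfl⟩, pairSyl_smul_right (ptGen_le_stabilizer s k.2) r⟩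
    exact (Set.ncard_le_ncard this).trans (Set.ncard_image_le (Set.toFinite _))
  -- the kernels on the bundle and on its lines
  set B := bundle p G s r with hB
  have hBinv : ∀ k ∈ X, ∀ v ∈ B, k • v ∈ B := fun k hk v hv => by
    show pairSyl p G s (k • v) ∈ lineSet p G s r
    rw [pairSyl_smul_right (ptGen_le_stabilizer s hk)]
    exact smul_mem_lineSet hk hv
  let N₀ : Subgroup X :=
    { carrier := {k | ∀ v ∈ B, k • v = v}
      mul_mem' := fun {a b} ha hb v hv => by rw [mul_smul, hb v hv, ha v hv]
      one_mem' := fun v _ => one_smul _ v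
      inv_mem' := fun {a} ha v hv => inv_smul_eq_iff.2 (ha v hv).symm }
  have hN₀n : N₀.Normal := ⟨fun n hn g v hv => by
    rw [mul_smul, mul_smul, hn (g⁻¹ • v) (hBinv ((g : G)⁻¹) (inv_mem g.2) v hv), smul_inv_smul]⟩
  set φ := MulAction.toPermHom X (lineSet p G s r) with hφ
  set ψ := MulAction.toPermHom X Q with hψ
  have hTB : centres p G r s t ⊆ B := fun a ha => ha.1
  have hprim := (h.line_primitive hts hYne).1
  have := hprim
  obtain ⟨hs1, hs2⟩ := h.orbit_scale hts hYne
  set cQ := (orbit X t ∩ {v | pairSyl p G s v = pairSyl p G s t}).ncard with hcQ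
  have hfix : ∀ P ∈ sylAt p G s,
      0 < {A | A ∈ Q ∧ P ∈ A}.ncard := by
    intro P hP
    have e := hs2 P hP
    have := (h.fixNum_pos_iff hts).2 hYne
    rw [e] at this
    exact Nat.pos_of_mul_pos_left this
  have hqbig : 2 < Q.ncard := by
    obtain ⟨P, hP⟩ := h.sylAt_nonempty s
    have hA := h.line_adm hts hYne
    have e := card_eq_fixNum_add (p := p) (G := X) (Ω := Q)
    rw [Nat.card_coe_set_eq] at e
    have := hA.cycNum_pos
    rw [e]
    nlinarith
  by_cases hN0 : fixedPoints N₀ Q ≠ Set.univ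
  · -- the pointwise stabiliser of the bundle is transitive on the lines of `t`
    have htrN := IsQuasiPreprimitive.isPretransitive_of_normal (G := X) (X := Q) hN0
    refine sylGen_le_iff.2 fun P hP g hg => ?_
    obtain ⟨A, hA, hPA⟩ := (Set.ncard_pos (Set.toFinite _)).1 (hfix P hP)
    obtain ⟨n, hn⟩ := htrN.exists_smul_eq (⟨Y, mem_lineSet_self s t⟩ : Q) ⟨A, hA⟩
    have hnA : ((n : X) : G) • Y = A := congrArg Subtype.val hn
    have hns := ptGen_le_stabilizer s (n : X).2
    have hPn : g • ((n : X) : G) • t = ((n : X) : G) • t := by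
      rw [← hnA, hY, ← pairSyl_smul_right hns] at hPA
      exact mem_stabilizer_iff.1 (hPA.2 hg)
    have hT : ((n : X) : G) • centres p G r s t = centres p G r s t := by
      ext a
      rw [Set.mem_smul_set_iff_inv_smul_mem]
      have hfixn : ∀ b ∈ centres p G r s t, ((n : X) : G) • b = b := fun b hb => n.2 b (hTB hb)
      refine ⟨fun ha => ?_, fun ha => ?_⟩
      · have := hfixn _ ha
        rw [smul_inv_smul] at this
        rw [this]
        exact ha
      · rw [show ((n : X) : G)⁻¹ • a = a from inv_smul_eq_iff.2 (hfixn a ha).symm]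
        exact ha
    have hgX : g ∈ X := le_sylGen hP hg
    rw [mem_stabilizer_iff]
    calc g • centres p G r s t = g • ((n : X) : G) • centres p G r s t := by rw [hT]
      _ = centres p G r s (g • ((n : X) : G) • t) := by
        rw [heq g hgX, heq _ (n : X).2]
      _ = centres p G r s (((n : X) : G) • t) := by rw [hPn]
      _ = _ := by rw [heq _ (n : X).2, hT]
  exfalso
  push Not at hN0
  obtain ⟨P, hP⟩ := hYne
  have hPX : (P : Subgroup G) ≤ X := le_sylGen hP.1
  set P' : Subgroup X := (P : Subgroup G).subgroupOf X with hP'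
  by_cases hNQ : ∀ k ∈ φ.ker, ∀ A : Q, k • A = A
  · -- the stabiliser of `Y` contains the alternating group on the lines
    set H := stabilizer X (⟨Y, mem_lineSet_self s t⟩ : Q) with hH
    have : Fintype (lineSet p G s r) := Fintype.ofFinite _
    set F := (Finset.univ : Finset (lineSet p G s r)).filter (fun A => P ∈ A.1) with hF
    have hFcard : F.card = p - 1 := by
      rw [← hN'.fix P hP.1, ← Set.ncard_coe_finset,
        ← Set.ncard_image_of_injective _ Subtype.val_injective]
      congr 1
      ext A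
      simp [F, and_comm]
    have hcardL : Fintype.card (lineSet p G s r) = p + (p - 1) := by
      rw [← Nat.card_eq_fintype_card, Nat.card_coe_set_eq, hN'.card]
    have hDH : ∀ g (hg : g ∈ sylGen Y), (⟨g, hDX hg⟩ : X) ∈ H := fun g hg =>
      mem_stabilizer_iff.2 (Subtype.ext (mem_stabilizer_iff.1
        ((sylGen_le_iff.2 fun R hR => pairSyl_le_stabilizer hR : sylGen Y ≤ stabilizer G Y) hg)))
    have hAlt : alternatingGroup (lineSet p G s r) ≤ H.map φ := by
      refine alternatingGroup_le_of_moved (p := p) Fact.out (by omega) ⟨fun A A' => ?_⟩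
        (Q := P'.map φ) (Subgroup.map_mono fun g hg => hDH g (le_sylGen hP hg)) F ?_ ?_
        (by omega) (by omega)
      · obtain ⟨g, hg, e⟩ := htr A.1 A.2 A'.1 A'.2
        exact ⟨⟨φ ⟨g, hDX hg⟩, Subgroup.mem_map_of_mem φ (hDH g hg)⟩, Subtype.ext e⟩
      · rintro _ ⟨g, hg, rfl⟩ A hA
        simp only [F, Finset.mem_filter, Finset.mem_univ, true_and] at hA
        exact Subtype.ext (mem_stabilizer_iff.1 (le_stabilizer_of_mem_lineSet A.2 hA hg))
      · intro A hA A' hA'
        simp only [F, Finset.mem_filter, Finset.mem_univ, true_and] at hA hA'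
        obtain ⟨g, hg, e⟩ := h.exists_smul_moved hN' hP.1 A.2 A'.2 hA hA'
        exact ⟨φ ⟨g, hPX hg⟩, Subgroup.mem_map_of_mem φ (by exact hg), Subtype.ext e⟩
    have hker : φ.ker ≤ H := fun k hk => mem_stabilizer_iff.2 (hNQ k hk _)
    have hdvd : H.index ∣ (H.map φ).index := by
      rw [Subgroup.index_map, sup_eq_left.2 hker]
      exact Dvd.intro _ rfl
    have : Nontrivial (lineSet p G s r) := Fintype.one_lt_card_iff_nontrivial.1 (by omega)
    have h2 : H.index ∣ 2 := by
      refine hdvd.trans ((Subgroup.index_dvd_of_le hAlt).trans ?_)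
      rw [alternatingGroup.index_eq_two]
    rw [hH, index_stabilizer_of_transitive, Nat.card_coe_set_eq] at h2
    have := Nat.le_of_dvd (by omega) h2
    omega
  -- the line kernel induces a transitive group of order prime to `p`
  push Not at hNQ
  obtain ⟨k₀, hk₀, A₀, hkA⟩ := hNQ
  have hmov : fixedPoints φ.ker Q ≠ Set.univ := fun e => hkA
    ((Set.eq_univ_iff_forall.1 e A₀) ⟨k₀, hk₀⟩)
  have htrK := IsQuasiPreprimitive.isPretransitive_of_normal (G := X) (X := Q) hmov
  have hclsB : ∀ v ∈ B, (lineCls p G s v).ncard = c := by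
    intro v hv
    obtain ⟨k, hk⟩ := hv
    change (k : G) • pairSyl p G s r = pairSyl p G s v at hk
    rw [hcdef, ← Set.ncard_smul_set (k : G) (lineCls p G s r)]
    congr 1
    ext w
    simp only [Set.mem_smul_set_iff_inv_smul_mem, lineCls, Set.mem_setOf_eq,
      pairSyl_smul_right (inv_mem (ptGen_le_stabilizer s k.2)), inv_smul_eq_iff, hk]
  have hnot : ¬ p ∣ Nat.card (φ.ker.map ψ) := by
    obtain ⟨S⟩ := (inferInstance : Nonempty (Sylow p φ.ker))
    rw [← Subgroup.relIndex_ker]
    intro hd
    refine S.not_dvd_index (hd.trans (Subgroup.index_dvd_of_le fun n hn => ?_))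
    show ψ (n : X) = 1
    have hn0 : (n : X) ∈ N₀ := by
      intro v hv
      have hsub : orbit S v ⊆ lineCls p G s v := by
        rintro _ ⟨m, rfl⟩
        show pairSyl p G s ((((m : φ.ker) : X) : G) • v) = pairSyl p G s v
        rw [pairSyl_smul_right (ptGen_le_stabilizer s ((m : φ.ker) : X).2)]
        have e := Equiv.Perm.ext_iff.1 (MonoidHom.mem_ker.1 (m : φ.ker).2)
          (⟨pairSyl p G s v, hv⟩ : lineSet p G s r)
        exact congrArg Subtype.val e
      obtain ⟨e, he⟩ := S.2.card_orbit v
      rw [Nat.card_coe_set_eq] at he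
      have hle := Set.ncard_le_ncard hsub
      rw [he, hclsB v hv] at hle
      rcases Nat.eq_zero_or_pos e with h0 | h0
      · rw [h0, pow_zero, Set.ncard_eq_one] at he
        obtain ⟨w, hw⟩ := he
        have h1 : (⟨n, hn⟩ : S) • v ∈ orbit S v := mem_orbit _ _
        have h2 : v ∈ orbit S v := mem_orbit_self v
        rw [hw, Set.mem_singleton_iff] at h1 h2
        exact h1.trans h2.symm
      · have := Nat.le_self_pow h0.ne' p
        omega
    ext A : 1
    exact Set.eq_univ_iff_forall.1 hN0 A ⟨_, hn0⟩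
  have hdiv := ncard_fixed_dvd_card (G := Equiv.Perm Q) (α := Q) (p := p) (A := P'.map ψ)
    (N := φ.ker.map ψ)
    (le_trans (Subgroup.map_mono (le_top.trans (Subgroup.normalizer_eq_top φ.ker).ge))
      (Subgroup.le_normalizer_map ψ))
    ((P.2.of_equiv (Subgroup.subgroupOfEquivOfLe hPX).symm).map ψ) hnot
    (fun A A' => by
      obtain ⟨k, hk⟩ := htrK.exists_smul_eq A A'
      exact ⟨ψ k, Subgroup.mem_map_of_mem ψ k.2, hk⟩)
    (y := ⟨Y, mem_lineSet_self s t⟩) (by
      rintro _ ⟨g, hg, rfl⟩
      exact mem_stabilizer_iff.2 (Subtype.ext (mem_stabilizer_iff.1 (pairSyl_le_stabilizer hP hg))))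
  have hset : {A : Q | P'.map ψ ≤ stabilizer (Equiv.Perm Q) A}.ncard =
      {A | A ∈ Q ∧ P ∈ A}.ncard := by
    rw [← Set.ncard_image_of_injective _ Subtype.val_injective]
    congr 1
    ext A
    constructor
    · rintro ⟨A, hA, rfl⟩
      exact ⟨A.2, h.mem_of_le_stabilizer_line ⟨P, hP⟩ A.2 fun g hg => mem_stabilizer_iff.2
        (congrArg Subtype.val (mem_stabilizer_iff.1
          (hA ⟨⟨g, hPX hg⟩, hg, rfl⟩ : ψ ⟨g, hPX hg⟩ ∈ stabilizer (Equiv.Perm Q) A)))⟩
    · rintro ⟨hA, hPA⟩
      refine ⟨⟨A, hA⟩, ?_, rfl⟩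
      rintro _ ⟨g, hg, rfl⟩
      exact mem_stabilizer_iff.2 (Subtype.ext (mem_stabilizer_iff.1
        (le_stabilizer_of_mem_lineSet hA hPA hg)))
  rw [hset, Nat.card_coe_set_eq] at hdiv
  have e1 := h.fixNum_of_rel hts hst
  have e2 := card_eq_fixNum_add (p := p) (G := X) (Ω := orbit X t)
  rw [hs1, hs2 P hP.1] at e2
  rw [hs2 P hP.1] at e1
  set f := {A | A ∈ Q ∧ P ∈ A}.ncard with hf
  set k := cycNum p X (orbit X t)
  have hfpos := hfix P hP.1
  rw [← hQ] at e2
  obtain ⟨m, hm⟩ := hdiv
  rw [hm] at e2
  obtain ⟨i, hi⟩ : ∃ i, p = i + 5 := ⟨p - 5, by omega⟩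
  rw [show p - 2 = i + 3 by omega] at e1
  rw [hi] at e2
  have hk : 0 < k := (h.orbit_adm hts).cycNum_pos
  have e3 : k * ((i + 3) * m) = k * (2 * i + 8) := by
    calc k * ((i + 3) * m) = (cQ * f) * m := by rw [e1]; ring
      _ = cQ * (f * m) := by ring
      _ = cQ * f + (i + 5) * k := e2
      _ = k * (2 * i + 8) := by rw [e1]; ring
  have e4 := Nat.eq_of_mul_eq_mul_left hk e3
  rcases Nat.lt_or_ge m 3 with hm3 | hm3
  · interval_cases m <;> omega
  · nlinarith

end Small

end CfsgLib.SylowFix
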