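import Cfsg.Agent.Lib.SylowFix.NoExact
import Mathlib.Algebra.BigOperators.Ring.Finset
import Mathlib.Data.ZMod.Basic

/-!
Natural pairs with parameter `p - 1`, for `p` odd: bundles never match up at both ends.

If `t` is in the bundle of `s` at `r`, off the line, then `(s, t)` has parameter `p - 2`.
-/

set_option autoImplicit false

open MulAction
open scoped Pointwise

namespace CfsgLib.SylowFix

universe u

variable {p : ℕ} {G : Type u} [Group G] {Ω : Type u} [MulAction G Ω]

theorem conj_mem_ptGen (g : G) {r : Ω} {k : G} (hk : k ∈ ptGen p G r) :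
    g * k * g⁻¹ ∈ ptGen p G (g • r) := by
  have hle : ptGen p G r ≤ (ptGen p G (g • r)).comap (MulAut.conj g).toMonoidHom := by
    refine sylGen_le_iff.2 fun P hP x hx => ?_
    show g * x * g⁻¹ ∈ ptGen p G (g • r)
    have h1 : g • P ∈ sylAt p G (g • r) := (sylow_le_conj_iff g P r).2 hP
    exact le_sylGen h1 ⟨x, hx, rfl⟩
  exact hle hk

theorem smul_lineSet_mem (g : G) {r s : Ω} {A : Set (Sylow p G)} (hA : A ∈ lineSet p G r s) :
    g • A ∈ lineSet p G (g • r) (g • s) := by
  obtain ⟨k, rfl⟩ := hA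
  refine ⟨⟨g * k * g⁻¹, conj_mem_ptGen g k.2⟩, ?_⟩
  show (g * (k : G) * g⁻¹) • pairSyl p G (g • r) (g • s) = g • (k : G) • pairSyl p G r s
  rw [← smul_pairSyl, mul_smul, mul_smul, inv_smul_smul]

variable [Finite G] [Finite Ω] [Fact p.Prime]

omit [Finite G] [Finite Ω] in
theorem two_le_pred (hp : p ≠ 2) : 2 ≤ p - 1 := by
  have := (Fact.out : p.Prime).two_le
  omega

namespace Small

variable (h : Small p G Ω)
include h

/-- The line of `t` at `r` cannot also be cut out by a pair of lines at `s`. -/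
theorem no_matching_line (hp : p ≠ 2) {r s t : Ω} (hN : NatPair p G (p - 1) r s)
    (hts : t ≠ s) (ht : pairSyl p G r t ∈ lineSet p G r s)
    (hne : pairSyl p G r t ≠ pairSyl p G r s)
    (hind : pairSyl p G s t ∉ lineSet p G s r)
    {w : Set (Sylow p G)} (hw : w ∈ lineSet p G s r) (hwne : w ≠ pairSyl p G s r)
    (hwe : pairSyl p G r s ∩ pairSyl p G r t = pairSyl p G s r ∩ w) : False := by
  classical
  have hR := h.relNatural_exact
  have hN' := hR s r hN.ne.symm (h.rel_comm.1 (h.rel_of_natPair hN))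
  have hj : 2 ≤ p - 1 := two_le_pred hp
  set Y := pairSyl p G s t with hY
  have hi0 : pairSyl p G s r ∩ Y = pairSyl p G s r ∩ w := by
    rw [← hwe]
    ext P
    simp only [hY, pairSyl, Set.mem_inter_iff]
    tauto
  have hYne : Y.Nonempty := by
    obtain ⟨C, hC, hCne⟩ := Set.exists_ne_of_one_lt_ncard (s := lineSet p G s r \ {w})
      (by
        have := Set.ncard_diff_singleton_add_one hw
        rw [hN'.card] at this
        omega) (pairSyl p G s r)
    obtain ⟨P, -, hP, -⟩ := h.exists_fixing_lines hN' {pairSyl p G s r, w} (by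
        simp only [Finset.mem_insert, Finset.mem_singleton]
        rintro X (rfl | rfl)
        exacts [mem_lineSet_self s r, hw])
      (Finset.card_le_two.trans hj) hC.1 (by
        simp only [Finset.mem_insert, Finset.mem_singleton, not_or]
        exact ⟨hCne, hC.2⟩)
    have hPi : P ∈ pairSyl p G s r ∩ w := ⟨hP _ (by simp), hP _ (by simp)⟩
    rw [← hi0] at hPi
    exact ⟨P, hPi.2⟩
  obtain ⟨-, htr⟩ := (h.coupled_or_uniform hN' hts).resolve_left hind
  have htr := htr hYne
  set D := sylGen Y with hD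
  have hDX : D ≤ ptGen p G s := sylGen_le_iff.2 fun P hP => le_sylGen hP.1
  have hDY : ∀ g ∈ D, g • Y = Y := fun g hg => mem_stabilizer_iff.1
    ((sylGen_le_iff.2 fun P hP => pairSyl_le_stabilizer hP : D ≤ stabilizer G Y) hg)
  have hpart : ∀ l ∈ lineSet p G s r, ∃ m ∈ lineSet p G s r, m ≠ l ∧ l ∩ m = l ∩ Y := by
    intro l hl
    obtain ⟨g, hg, rfl⟩ := htr _ (mem_lineSet_self s r) l hl
    refine ⟨g • w, smul_mem_lineSet (hDX hg) hw, fun e => hwne (MulAction.injective g e), ?_⟩
    have e := congrArg (g • ·) hi0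
    simp only [Set.smul_set_inter, hDY g hg] at e
    exact e.symm
  choose! φ hφ hφne hφe using hpart
  have huniq : ∀ l ∈ lineSet p G s r, ∀ m ∈ lineSet p G s r, m ≠ l → l ∩ m = l ∩ Y → m = φ l := by
    intro l hl m hm hml e
    refine ((h.eq_or_eq_of_inter_subset hN' hj hl hm (hφ l hl) ?_).resolve_left (hφne l hl)).symm
    rw [e, ← hφe l hl]
    exact Set.inter_subset_right
  have hequiv : ∀ g ∈ D, ∀ l ∈ lineSet p G s r, φ (g • l) = g • φ l := by
    intro g hg l hl
    refine (huniq _ (smul_mem_lineSet (hDX hg) hl) _ (smul_mem_lineSet (hDX hg) (hφ l hl))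
      (fun e => hφne l hl (MulAction.injective g e)) ?_).symm
    rw [← Set.smul_set_inter, hφe l hl, Set.smul_set_inter, hDY g hg]
  have hkey : ∀ l ∈ lineSet p G s r, ∀ x ∈ lineSet p G s r, l ∩ φ l ∩ x ⊆ φ x := by
    intro l hl x hx P hP
    have h1 : P ∈ Y := ((hφe l hl).le hP.1).2
    exact ((hφe x hx).ge ⟨hP.2, h1⟩).2
  set L := (Set.toFinite (lineSet p G s r)).toFinset with hL
  have hLc : L.card = p + (p - 1) := by rw [← Set.ncard_eq_toFinset_card, hN'.card]
  have hLm : ∀ {l}, l ∈ L ↔ l ∈ lineSet p G s r := Set.Finite.mem_toFinset _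
  rcases Nat.lt_or_ge (p - 1) 3 with hj3 | hj3
  · -- `φ` is an involution without fixed point on five lines
    have hinv : ∀ l ∈ lineSet p G s r, φ (φ l) = l := by
      intro l hl
      refine (h.eq_or_eq_of_inter_subset hN' hj hl (hφ l hl) (hφ _ (hφ l hl)) ?_).resolve_right
        (hφne _ (hφ l hl))
      exact fun P hP => hkey l hl (φ l) (hφ l hl) ⟨hP, hP.2⟩
    have hzero : ∑ _l ∈ L, (1 : ZMod 2) = 0 :=
      Finset.sum_involution (fun l _ => φ l) (fun _ _ => by decide)
        (fun l hl _ => hφne l (hLm.1 hl)) (fun l hl => hLm.2 (hφ l (hLm.1 hl)))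
        (fun l hl => hinv l (hLm.1 hl))
    rw [Finset.sum_const, nsmul_eq_mul, mul_one, hLc] at hzero
    have hp3 : p = 3 := by have := (Fact.out : p.Prime).two_le; omega
    subst hp3
    exact absurd hzero (by decide)
  · -- `φ` is injective but maps most lines into two
    have hsurj : ∀ m ∈ L, ∃ l ∈ L, φ l = m := by
      intro m hm
      have h0 := mem_lineSet_self (p := p) (G := G) s r
      obtain ⟨g, hg, rfl⟩ := htr _ (hφ _ h0) m (hLm.1 hm)
      exact ⟨g • pairSyl p G s r, hLm.2 (smul_mem_lineSet (hDX hg) h0), hequiv g hg _ h0⟩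
    have hinj : Set.InjOn φ L := by
      rw [← Finset.card_image_iff]
      refine congrArg Finset.card (Finset.Subset.antisymm ?_ ?_)
      · intro m hm
        obtain ⟨l, hl, rfl⟩ := Finset.mem_image.1 hm
        exact hLm.2 (hφ l (hLm.1 hl))
      · intro m hm
        obtain ⟨l, hl, rfl⟩ := hsurj m hm
        exact Finset.mem_image_of_mem _ hl
    have h0 := mem_lineSet_self (p := p) (G := G) s r
    set l₀ := pairSyl p G s r
    set S := L \ {l₀, φ l₀} with hS
    have hSmap : ∀ x ∈ S, φ x ∈ ({l₀, φ l₀} : Finset (Set (Sylow p G))) := by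
      intro x hx
      simp only [S, Finset.mem_sdiff, Finset.mem_insert, Finset.mem_singleton, not_or] at hx
      obtain ⟨hxL, hx1, hx2⟩ := hx
      by_contra hne'
      simp only [Finset.mem_insert, Finset.mem_singleton, not_or] at hne'
      have hx' := hLm.1 hxL
      obtain ⟨P, -, hP, hPn⟩ := h.exists_fixing_lines hN' {l₀, φ l₀, x} (by
          simp only [Finset.mem_insert, Finset.mem_singleton]
          rintro X (rfl | rfl | rfl)
          exacts [h0, hφ _ h0, hx'])
        ((Finset.card_insert_le _ _).trans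
          (le_trans (Nat.add_le_add_right Finset.card_le_two 1) hj3))
        (hφ x hx') (by simp [hne'.1, hne'.2, hφne x hx'])
      exact hPn (hkey l₀ h0 x hx' ⟨⟨hP _ (by simp), hP _ (by simp)⟩, hP _ (by simp)⟩)
    have hScard : L.card - 2 ≤ S.card := by
      have := Finset.le_card_sdiff ({l₀, φ l₀} : Finset (Set (Sylow p G))) L
      have h2 : ({l₀, φ l₀} : Finset (Set (Sylow p G))).card ≤ 2 := Finset.card_le_two
      rw [hS]
      omega
    have hle := Finset.card_le_card_of_injOn φ hSmap
      (hinj.mono (Finset.coe_subset.2 Finset.sdiff_subset))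
    have h2 : ({l₀, φ l₀} : Finset (Set (Sylow p G))).card ≤ 2 := Finset.card_le_two
    omega

/-- If one point off the line matches at both ends, all do. -/
theorem coupled_all (hp : p ≠ 2) {r s t t' : Ω} (hN : NatPair p G (p - 1) r s)
    (hts : t ≠ s) (ht : pairSyl p G r t ∈ lineSet p G r s)
    (hne : pairSyl p G r t ≠ pairSyl p G r s) (hc : pairSyl p G s t ∈ lineSet p G s r)
    (ht's : t' ≠ s) (ht' : pairSyl p G r t' ∈ lineSet p G r s)
    (hne' : pairSyl p G r t' ≠ pairSyl p G r s) :
    pairSyl p G s t' ∈ lineSet p G s r := by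
  by_contra hind
  have hR := h.relNatural_exact
  have hnot : ∀ A ∈ lineSet p G r s, A ≠ pairSyl p G r s → ¬ pairSyl p G r s ⊆ A := fun A hA hA' hsub =>
    hA' (Set.eq_of_subset_of_ncard_le hsub (ncard_of_mem_lineSet hA).le).symm
  obtain ⟨g, hg, hgt⟩ := h.sylGen_transitive_compl hN (y := s) ht ht' (hnot _ ht hne)
    (hnot _ ht' hne')
  have hgr : g ∈ stabilizer G r := (sylGen_le_iff.2 fun P hP => hP.1 : _ ≤ stabilizer G r) hg
  have hgs : g ∈ stabilizer G s := (sylGen_le_iff.2 fun P hP => hP.2 : _ ≤ stabilizer G s) hg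
  have hgX : g ∈ ptGen p G s := (sylGen_le_iff.2 fun P hP => le_sylGen hP.2 : _ ≤ ptGen p G s) hg
  have hgfix : g • pairSyl p G r s = pairSyl p G r s := by
    rw [smul_pairSyl, mem_stabilizer_iff.1 hgr, mem_stabilizer_iff.1 hgs]
  have hgfix' : g • pairSyl p G s r = pairSyl p G s r := by
    rw [pairSyl_comm s r]; exact hgfix
  refine h.no_matching_line hp hN ht's ht' hne' hind (smul_mem_lineSet hgX hc)
    (fun e => hne ?_) ?_
  · rw [← hgfix'] at e
    have e' := MulAction.injective g e
    exact h.line_eq_three hR (hR s r hN.ne.symm (h.rel_comm.1 (h.rel_of_natPair hN)))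
      (h.ne_of_mem_lineSet hN.ne ht) e'
  · have e0 : pairSyl p G r s ∩ pairSyl p G r t = pairSyl p G s r ∩ pairSyl p G s t := by
      ext P
      simp only [pairSyl, Set.mem_inter_iff]
      tauto
    have e := congrArg (g • ·) e0
    simp only [Set.smul_set_inter, hgfix, hgfix', hgt] at e
    exact e

/-- Bundles do not match up at both ends. -/
theorem not_coupled (hp : p ≠ 2) {r s t : Ω} (hN : NatPair p G (p - 1) r s)
    (hts : t ≠ s) (ht : pairSyl p G r t ∈ lineSet p G r s)
    (hne : pairSyl p G r t ≠ pairSyl p G r s) : pairSyl p G s t ∉ lineSet p G s r := by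
  classical
  intro hc
  have hR := h.relNatural_exact
  have hN' := hR s r hN.ne.symm (h.rel_comm.1 (h.rel_of_natPair hN))
  have htr : t ≠ r := h.ne_of_mem_lineSet hN.ne ht
  have hsame : ∀ v, v ≠ r → pairSyl p G r v = pairSyl p G r s → v = s := by
    intro v hvr hv
    by_contra hvs
    obtain ⟨k, hk⟩ := ht
    change (k : G) • pairSyl p G r s = pairSyl p G r t at hk
    have hkr := ptGen_le_stabilizer r k.2
    have e1 : pairSyl p G r ((k : G) • v) = pairSyl p G r t := by
      rw [pairSyl_smul_right hkr, hv, hk]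
    have e2 : pairSyl p G r ((k : G) • s) = pairSyl p G r t := by
      rw [pairSyl_smul_right hkr, hk]
    obtain ⟨z, hz, hzt⟩ : ∃ z, pairSyl p G r z = pairSyl p G r t ∧ z ≠ t := by
      by_cases hkv : (k : G) • v = t
      · exact ⟨(k : G) • s, e2, fun e => hvs (MulAction.injective (k : G) (hkv.trans e.symm))⟩
      · exact ⟨_, e1, hkv⟩
    have ht : pairSyl p G r t ∈ lineSet p G r s := ⟨k, hk⟩
    have hzs : z ≠ s := fun e => hne (by rw [← hz, e])
    exact h.no_closed_long_line hR hN (two_le_pred hp) hzt.symm ht hne hz hc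
      (h.coupled_all hp hN hts ht hne hc hzs (hz ▸ ht) (hz ▸ hne))
  have hsame' : ∀ v, v ≠ s → pairSyl p G s v = pairSyl p G s r → v = r := by
    intro v hvs hv
    by_contra hvr
    exact hvs (hsame v hvr (h.line_eq_three hR hN' hvr hv))
  have hpoints : ∀ a b : Ω, b ≠ a → (∀ v, v ≠ a → pairSyl p G a v = pairSyl p G a b → v = b) →
      ∀ v ∈ bundle p G a b, v ∈ orbit (ptGen p G a) b := by
    intro a b hba hs v hv
    obtain ⟨k, hk⟩ := hv
    change (k : G) • pairSyl p G a b = pairSyl p G a v at hk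
    refine ⟨k, ?_⟩
    have hkr := ptGen_le_stabilizer a k.2
    have hva : v ≠ a := h.ne_of_mem_lineSet hba ⟨k, hk⟩
    have hva' : (k : G)⁻¹ • v ≠ a := by
      intro e
      apply hva
      rw [← smul_inv_smul (k : G) v, e, mem_stabilizer_iff.1 hkr]
    have := hs _ hva' (by rw [pairSyl_smul_right (inv_mem hkr), ← hk, inv_smul_smul])
    show (k : G) • b = v
    rw [← this, smul_inv_smul]
  have hbcard : ∀ a b : Ω, NatPair p G (p - 1) a b →
      (∀ v, v ≠ a → pairSyl p G a v = pairSyl p G a b → v = b) →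
      (bundle p G a b).ncard = p + (p - 1) := by
    intro a b hab hs
    rw [← hab.card]
    refine Set.ncard_congr (fun v _ => pairSyl p G a v) (fun v hv => hv) ?_ ?_
    · intro v v' hv hv' e
      obtain ⟨k, hk⟩ := hpoints a b hab.ne hs v' hv'
      change (k : G) • b = v' at hk
      have hkr := ptGen_le_stabilizer a k.2
      have hva := h.ne_of_mem_lineSet hab.ne hv
      have hva' : (k : G)⁻¹ • v ≠ a := by
        intro e'
        apply hva
        rw [← smul_inv_smul (k : G) v, e', mem_stabilizer_iff.1 hkr]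
      have := hs _ hva' (by
        rw [pairSyl_smul_right (inv_mem hkr), e, ← hk, pairSyl_smul_right hkr, inv_smul_smul])
      rw [← hk, ← this, smul_inv_smul]
    · rintro _ ⟨k, rfl⟩
      exact ⟨(k : G) • b, pairSyl_mem_lineSet ⟨k, rfl⟩,
        pairSyl_smul_right (ptGen_le_stabilizer a k.2) b⟩
  have hr0 : r ∉ bundle p G r s := fun e => h.ne_of_mem_lineSet hN.ne e rfl
  have hs0 : s ∉ bundle p G s r := fun e => h.ne_of_mem_lineSet hN.ne.symm e rfl
  have hsub : bundle p G r s \ {s} ⊆ bundle p G s r \ {r} := by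
    rintro v ⟨hv, hvs : v ≠ s⟩
    have hvr := h.ne_of_mem_lineSet hN.ne hv
    exact ⟨h.coupled_all hp hN hts ht hne hc hvs hv fun e => hvs (hsame v hvr e), hvr⟩
  have hc1 := hbcard r s hN hsame
  have hc2 := hbcard s r hN' hsame'
  have heq : bundle p G r s \ {s} = bundle p G s r \ {r} := by
    refine Set.eq_of_subset_of_ncard_le hsub ?_
    have e1 := Set.ncard_diff_singleton_add_one (show s ∈ bundle p G r s from mem_lineSet_self r s)
    have e2 := Set.ncard_diff_singleton_add_one (show r ∈ bundle p G s r from mem_lineSet_self s r)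
    omega
  set W : Set Ω := insert r (bundle p G r s) with hW
  have hW' : W = insert s (bundle p G s r) := by
    ext v
    have h1 := Set.ext_iff.1 heq v
    simp only [Set.mem_diff, Set.mem_singleton_iff] at h1
    have e1 : s ∈ bundle p G r s := mem_lineSet_self r s
    have e2 : r ∈ bundle p G s r := mem_lineSet_self s r
    simp only [hW, Set.mem_insert_iff]
    by_cases hvr : v = r <;> by_cases hvs : v = s <;> simp_all
  set H := ptGen p G r ⊔ ptGen p G s with hH
  have hinv : ∀ a b : Ω, ∀ g ∈ ptGen p G a, g • insert a (bundle p G a b) = insert a (bundle p G a b) := by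
    intro a b g hg
    have hga := ptGen_le_stabilizer a hg
    have hb : ∀ k ∈ ptGen p G a, ∀ v ∈ bundle p G a b, k • v ∈ bundle p G a b := fun k hk v hv => by
      show pairSyl p G a (k • v) ∈ lineSet p G a b
      rw [pairSyl_smul_right (ptGen_le_stabilizer a hk)]
      exact smul_mem_lineSet hk hv
    rw [Set.smul_set_insert, mem_stabilizer_iff.1 hga]
    congr 1
    ext v
    rw [Set.mem_smul_set_iff_inv_smul_mem]
    exact ⟨fun hv => by simpa using hb g hg _ hv, hb g⁻¹ (inv_mem hg) v⟩
  have hHW : H ≤ stabilizer G W := sup_le (fun g hg => mem_stabilizer_iff.2 (hinv r s g hg))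
    (fun g hg => mem_stabilizer_iff.2 (by rw [hW']; exact hinv s r g hg))
  have hsorb : ∀ v ∈ bundle p G s r, v ∈ orbit H r := fun v hv => by
    obtain ⟨k, rfl⟩ := hpoints s r hN.ne.symm hsame' v hv
    exact ⟨⟨k, (le_sup_right : ptGen p G s ≤ H) k.2⟩, rfl⟩
  have hso : s ∈ orbit H r := by
    have htb : t ∈ bundle p G s r := hc
    obtain ⟨h₁, hh₁⟩ := hsorb t htb
    change (h₁ : G) • r = t at hh₁
    obtain ⟨k, hk⟩ := hpoints r s hN.ne hsame t ht
    change (k : G) • s = t at hk
    refine ⟨⟨(k : G)⁻¹, inv_mem ((le_sup_left : ptGen p G r ≤ H) k.2)⟩ * h₁, ?_⟩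
    show ((k : G)⁻¹ * (h₁ : G)) • r = s
    rw [mul_smul, hh₁, ← hk, inv_smul_smul]
  have horb : orbit H r = W := by
    refine Set.Subset.antisymm ?_ ?_
    · rintro _ ⟨g, rfl⟩
      rw [← mem_stabilizer_iff.1 (hHW g.2)]
      exact Set.smul_mem_smul_set (Set.mem_insert r _)
    · rw [hW']
      exact Set.insert_subset hso hsorb
  obtain ⟨P, hP⟩ := h.sylAt_nonempty r
  have hPH : (P : Subgroup G) ≤ H := (le_sylGen hP).trans le_sup_left
  have hidx : (stabilizer H r).index = p + p := by
    rw [index_stabilizer, horb, Set.ncard_insert_of_notMem hr0, hc1]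
    have := (Fact.out : p.Prime).two_le
    omega
  have hle : ((P.subtype hPH : Sylow p H) : Subgroup H) ≤ stabilizer H r := fun g hg => hP hg
  refine (P.subtype hPH).not_dvd_index (dvd_trans ?_ (Subgroup.index_dvd_of_le hle))
  rw [hidx]
  exact ⟨2, by ring⟩

theorem rel_of_off_line (hp : p ≠ 2) {r s t : Ω} (hN : NatPair p G (p - 1) r s)
    (hts : t ≠ s) (ht : pairSyl p G r t ∈ lineSet p G r s)
    (hne : pairSyl p G r t ≠ pairSyl p G r s) :
    Rel p G (p - 2) s t ∧ ¬ Rel p G (p - 1) s t := by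
  have h1 := (h.triangle_same h.relNatural_exact hN hts ht hne).resolve_left
    (h.not_coupled hp hN hts ht hne)
  rw [show p - 1 - 1 = p - 2 by omega] at h1
  have := (Fact.out : p.Prime).two_le
  exact ⟨h1, h.not_rel_two (by omega) h1⟩

end Small

end CfsgLib.SylowFix
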