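import Cfsg.Agent.Lib.SylowFix.NatPair

/-!
How a point `y` sees the bundle of a natural pair `(r, s)`: either its pattern is one of the lines,
or `sylGen (pairSyl r y)` is transitive on the lines and the Sylow subgroups at `r` and `y` meet
every line in the same number.
-/

set_option autoImplicit false

open MulAction
open scoped Pointwise

namespace CfsgLib.SylowFix

universe u

variable {p : ℕ} {G : Type u} [Group G] {Ω : Type u} [MulAction G Ω]

/-- The numerical contradiction behind the coupling lemma. -/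
theorem choose_slack_lt {p j i : ℕ} (hi : 2 ≤ i) (hij : i ≤ j) (hjp : j < p) :
    (p : ℤ) * ((p : ℤ) - 1) <
      ((p : ℤ) - 1) * ((p + j).choose i) - (2 * p - 1) * (j.choose i) := by
  obtain ⟨i, rfl⟩ := Nat.exists_eq_add_of_le' hi
  obtain ⟨j, rfl⟩ := Nat.exists_eq_add_of_le' (le_trans hi hij)
  -- reduce both binomial coefficients to `i - 2`
  have key : ∀ n : ℕ, (n + 2).choose (i + 2) * ((i + 2) * (i + 1)) =
      (n + 2) * (n + 1) * n.choose i := by
    intro n
    have h1 := Nat.add_one_mul_choose_eq (n + 1) (i + 1)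
    have h2 := Nat.add_one_mul_choose_eq n i
    calc (n + 2).choose (i + 2) * ((i + 2) * (i + 1))
        = ((n + 1 + 1).choose (i + 1 + 1) * (i + 1 + 1)) * (i + 1) := by ring
      _ = ((n + 1 + 1) * (n + 1).choose (i + 1)) * (i + 1) := by rw [← h1]
      _ = (n + 2) * ((n + 1).choose (i + 1) * (i + 1)) := by ring
      _ = (n + 2) * ((n + 1) * n.choose i) := by rw [← h2]
      _ = _ := by ring
  have hmono : j.choose i ≤ (p + j).choose i := Nat.choose_le_choose i (Nat.le_add_left j p)
  have hb : (p + 2).choose p ≤ (p + (j + 2)).choose (i + 2) := by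
    obtain ⟨d, rfl⟩ := Nat.exists_eq_add_of_le (show i ≤ j by omega)
    rw [show p + (i + d + 2) = (p + d) + (i + 2) by omega, Nat.choose_symm_add, 
      ← Nat.choose_symm_add (a := p + d) (b := i + 2)]
    calc (p + 2).choose 2 ≤ (p + d + 2).choose 2 := Nat.choose_le_choose 2 (by omega)
      _ = (p + d + 2).choose (p + d) := (Nat.choose_symm_add (a := p + d) (b := 2)).symm
      _ ≤ _ := Nat.choose_le_choose _ (by omega)
  have hb2 : (p + 2).choose p * 2 = (p + 2) * (p + 1) := by
    rw [Nat.choose_symm_add, Nat.choose_two_right]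
    exact Nat.div_mul_cancel (Nat.even_mul_pred_self _).two_dvd
  have ha := key j
  have hc := key (p + j)
  have hQ : p + (j + 2) = p + j + 2 := by omega
  rw [hQ] at hb ⊢
  -- `C(j, i) q (q - 1) ≤ C(q, i) j (j - 1)`
  have hr : (j + 2).choose (i + 2) * ((p + j + 2) * (p + j + 1)) ≤
      (p + j + 2).choose (i + 2) * ((j + 2) * (j + 1)) := by
    refine Nat.le_of_mul_le_mul_right ?_ (show 0 < (i + 2) * (i + 1) by positivity)
    calc (j + 2).choose (i + 2) * ((p + j + 2) * (p + j + 1)) * ((i + 2) * (i + 1))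
        = (j + 2) * (j + 1) * j.choose i * ((p + j + 2) * (p + j + 1)) := by rw [← ha]; ring
      _ ≤ (j + 2) * (j + 1) * (p + j).choose i * ((p + j + 2) * (p + j + 1)) := by gcongr
      _ = _ := by rw [mul_right_comm _ ((j + 2) * (j + 1)), hc]; ring
  generalize (j + 2).choose (i + 2) = F at hr ⊢
  generalize (p + j + 2).choose (i + 2) = Q at hb hr ⊢
  generalize (p + 2).choose p = B at hb hb2
  clear ha hc key hmono hQ
  have hr' : (F : ℤ) * ((p + j + 2) * (p + j + 1)) ≤ Q * ((j + 2) * (j + 1)) := by exact_mod_cast hr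
  have hjp' : (j : ℤ) + 3 ≤ p := by omega
  have hb' : (B : ℤ) ≤ Q := by exact_mod_cast hb
  have hb2' : (B : ℤ) * 2 = (p + 2) * (p + 1) := by exact_mod_cast hb2
  have hF : (0 : ℤ) ≤ F := Int.natCast_nonneg _
  have hj : (0 : ℤ) ≤ j := Int.natCast_nonneg _
  have hQ0 : (0 : ℤ) ≤ Q := Int.natCast_nonneg _
  push_cast
  generalize (p : ℤ) = P at *
  generalize (j : ℤ) = J at *
  generalize (F : ℤ) = f at *
  generalize (Q : ℤ) = q at *
  -- `(2P-1) f ≤ (P-2)/2 · q`
  have h1 : (2 * P - 1) * (J + 2) ≤ (P - 1) * (P + J + 2) := by nlinarith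
  have h2 : (2 * P - 2) * (J + 1) ≤ (P - 2) * (P + J + 1) := by nlinarith
  have h3 : ((2 * P - 1) * (2 * P - 2)) * (f * ((P + J + 2) * (P + J + 1))) ≤
      ((2 * P - 1) * (2 * P - 2)) * (q * ((J + 2) * (J + 1))) :=
    mul_le_mul_of_nonneg_left hr' (mul_nonneg (by linarith) (by linarith))
  have h4 : ((2 * P - 1) * (2 * P - 2)) * (q * ((J + 2) * (J + 1))) ≤
      q * (((P - 1) * (P + J + 2)) * ((P - 2) * (P + J + 1))) := by
    calc ((2 * P - 1) * (2 * P - 2)) * (q * ((J + 2) * (J + 1)))
        = q * (((2 * P - 1) * (J + 2)) * ((2 * P - 2) * (J + 1))) := by ring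
      _ ≤ _ := mul_le_mul_of_nonneg_left
          (mul_le_mul h1 h2 (mul_nonneg (by linarith) (by linarith))
            (mul_nonneg (by linarith) (by linarith))) hQ0
  have h5 : ((P - 1) * ((P + J + 2) * (P + J + 1))) * (2 * ((2 * P - 1) * f)) ≤
      ((P - 1) * ((P + J + 2) * (P + J + 1))) * ((P - 2) * q) := by
    refine le_trans (le_of_eq ?_) (le_trans (h3.trans h4) (le_of_eq ?_)) <;> ring
  have h6 : 2 * ((2 * P - 1) * f) ≤ (P - 2) * q :=
    le_of_mul_le_mul_left h5 (mul_pos (by linarith) (mul_pos (by linarith) (by linarith)))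
  have h7 : 2 * (P - 1) < q := by nlinarith
  have h8 : P * (2 * (P - 1)) < P * q := mul_lt_mul_of_pos_left h7 (by linarith)
  linarith

variable [Finite G] [Finite Ω] [Fact p.Prime]

namespace Small

variable (h : Small p G Ω)
include h

/-- Counting pairs of a Sylow subgroup in `S` and a line containing it. -/
theorem sum_inter_lines {j : ℕ} {r s : Ω} (hN : NatPair p G j r s) {S : Set (Sylow p G)}
    (hS : S ⊆ sylAt p G r) :
    ∑ A ∈ (Set.toFinite (lineSet p G r s)).toFinset, (A ∩ S).ncard = S.ncard * j := by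
  classical
  set L := (Set.toFinite (lineSet p G r s)).toFinset with hLdef
  set U := (Set.toFinite S).toFinset with hUdef
  have key := Finset.sum_card_bipartiteAbove_eq_sum_card_bipartiteBelow
    (s := L) (t := U) (r := fun (A : Set (Sylow p G)) P => P ∈ A)
  have h1 : ∀ A, (U.bipartiteAbove (fun (A : Set (Sylow p G)) P => P ∈ A) A).card =
      (A ∩ S).ncard := by
    intro A
    rw [← Set.ncard_coe_finset]
    congr 1
    ext P
    simp [Finset.bipartiteAbove, U, and_comm]
  have h2 : ∀ P ∈ U, (L.bipartiteBelow (fun (A : Set (Sylow p G)) P => P ∈ A) P).card = j := by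
    intro P hP
    rw [← hN.fix P (hS (by simpa [U] using hP)), ← Set.ncard_coe_finset]
    congr 1
    ext A
    simp [Finset.bipartiteBelow, L]
  calc ∑ A ∈ L, (A ∩ S).ncard
      = ∑ A ∈ L, (U.bipartiteAbove (fun (A : Set (Sylow p G)) P => P ∈ A) A).card :=
        Finset.sum_congr rfl fun A _ => (h1 A).symm
    _ = ∑ P ∈ U, j := key.trans (Finset.sum_congr rfl h2)
    _ = _ := by rw [Finset.sum_const, smul_eq_mul, Set.ncard_eq_toFinset_card S]

/-- A Sylow subgroup at `r` is transitive on the lines it moves. -/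
theorem exists_smul_moved {j : ℕ} {r s : Ω} (hN : NatPair p G j r s) {P : Sylow p G}
    (hP : P ∈ sylAt p G r) {A B : Set (Sylow p G)} (hA : A ∈ lineSet p G r s)
    (hB : B ∈ lineSet p G r s) (hPA : P ∉ A) (hPB : P ∉ B) : ∃ g ∈ P, g • A = B := by
  have hne := h.natPair_nonempty hN
  set U := {C | C ∈ lineSet p G r s ∧ P ∉ C} with hUdef
  have hU : U.ncard = p := by
    have e : U = lineSet p G r s \ {C | C ∈ lineSet p G r s ∧ P ∈ C} := by
      ext C; simp [U]
    rw [e, Set.ncard_diff (fun C hC => hC.1), hN.card, hN.fix P hP]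
    omega
  have hsub : orbit (P : Subgroup G) A ⊆ U := by
    rintro _ ⟨g, rfl⟩
    refine ⟨?_, fun hmem => hPA ?_⟩
    · obtain ⟨k, rfl⟩ := hA
      exact ⟨⟨g, le_sylGen hP g.2⟩ * k, mul_smul (g : G) (k : G) (pairSyl p G r s)⟩
    · have hgA : (g : G) • A ∈ lineSet p G r s := by
        obtain ⟨k, rfl⟩ := hA
        exact ⟨⟨g, le_sylGen hP g.2⟩ * k, mul_smul (g : G) (k : G) (pairSyl p G r s)⟩
      have e := mem_stabilizer_iff.1 (le_stabilizer_of_mem_lineSet hgA hmem (inv_mem g.2))
      rw [inv_smul_smul] at e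
      rw [e]
      exact hmem
  have heq : orbit (P : Subgroup G) A = U := by
    refine Set.eq_of_subset_of_ncard_le hsub ?_
    obtain ⟨e, he⟩ := P.2.card_orbit A
    rw [Nat.card_coe_set_eq] at he
    rw [hU, he]
    rcases Nat.eq_zero_or_pos e with h0 | h0
    · exfalso
      rw [h0, pow_zero, Set.ncard_eq_one] at he
      obtain ⟨C, hC⟩ := he
      refine hPA (h.mem_of_le_stabilizer_line hne hA fun g hg => ?_)
      have h1 : (⟨g, hg⟩ : (P : Subgroup G)) • A ∈ orbit (P : Subgroup G) A := mem_orbit _ _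
      have h2 : A ∈ orbit (P : Subgroup G) A := mem_orbit_self A
      rw [hC, Set.mem_singleton_iff] at h1 h2
      exact mem_stabilizer_iff.2 (h1.trans h2.symm)
    · exact Nat.le_self_pow h0.ne' p
  have : B ∈ orbit (P : Subgroup G) A := heq ▸ ⟨hB, hPB⟩
  obtain ⟨g, hg⟩ := this
  exact ⟨g, g.2, hg⟩

omit h in
theorem smul_mem_lineSet {r s : Ω} {g : G} (hg : g ∈ ptGen p G r) {A : Set (Sylow p G)}
    (hA : A ∈ lineSet p G r s) : g • A ∈ lineSet p G r s := by
  obtain ⟨k, rfl⟩ := hA
  exact ⟨⟨g, hg⟩ * k, mul_smul g (k : G) (pairSyl p G r s)⟩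

/-- `sylGen S` is transitive on the lines not containing `S`, if `S` is the set of Sylow subgroups
in a subgroup below the stabiliser of `r`. -/
theorem sylGen_transitive_compl {j : ℕ} {r s y : Ω} (hN : NatPair p G j r s)
    {A B : Set (Sylow p G)} (hA : A ∈ lineSet p G r s) (hB : B ∈ lineSet p G r s)
    (hA' : ¬ pairSyl p G r y ⊆ A) (hB' : ¬ pairSyl p G r y ⊆ B) :
    ∃ g ∈ sylGen (pairSyl p G r y), g • A = B := by
  obtain ⟨P, hP, hPA⟩ := Set.not_subset.1 hA'
  obtain ⟨Q, hQ, hQB⟩ := Set.not_subset.1 hB'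
  obtain ⟨d, hd⟩ := MulAction.exists_smul_eq (sylGen (pairSyl p G r y))
    (P.subtype (le_sylGen hP)) (Q.subtype (le_sylGen hQ))
  rw [Sylow.smul_subtype] at hd
  have hdP : (d : G) • P = Q := Sylow.subtype_injective hd
  have hdX : (d : G) ∈ ptGen p G r :=
    (sylGen_le_iff.2 fun R hR => le_sylGen hR.1) d.2
  have hA1 := smul_mem_lineSet hdX hA
  have hQA : Q ∉ (d : G) • A := by
    rw [← hdP, Set.smul_mem_smul_set_iff]
    exact hPA
  obtain ⟨g, hg, hgA⟩ := h.exists_smul_moved hN hQ.1 hA1 hB hQA hQB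
  exact ⟨g * d, mul_mem (le_sylGen hQ hg) d.2, by rw [mul_smul, hgA]⟩

/-- The lines of an orbit with small slack and fixed points form a primitive action. -/
theorem line_primitive {r y : Ω} (hy : y ≠ r) (hne : (pairSyl p G r y).Nonempty) :
    IsPreprimitive (ptGen p G r) (lineSet p G r y) ∧
      slack p (ptGen p G r) (lineSet p G r y) ≤ (p : ℤ) - 1 := by
  obtain ⟨P, hP⟩ := h.sylAt_nonempty r
  obtain ⟨hs1, hs2⟩ := h.orbit_scale hy hne
  have hf := (h.fixNum_pos_iff hy).2 hne
  rw [hs2 P hP] at hf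
  set c := (orbit (ptGen p G r) y ∩ {v | pairSyl p G r v = pairSyl p G r y}).ncard with hcdef
  have hfl := h.line_fixNum hne hP
  have hA := h.line_adm hy hne
  have hih := h.ih.mono (h.card_lineSet_le hy)
  have hnn : 0 ≤ slack p (ptGen p G r) (lineSet p G r y) := by
    refine (h.ih _ _ hA (lt_of_le_of_lt ?_ (h.orbit_lt hy))).1
    refine Nat.card_le_card_of_surjective
      (fun v => ⟨pairSyl p G r v.1, pairSyl_mem_lineSet v.2⟩) ?_
    rintro ⟨A, k, rfl⟩
    exact ⟨⟨(k : G) • y, k, rfl⟩, Subtype.ext (pairSyl_smul_right (ptGen_le_stabilizer r k.2) y)⟩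
  have hle : slack p (ptGen p G r) (lineSet p G r y) ≤ (p : ℤ) - 1 := by
    have e1 := mul_slack (p := p) (ptGen p G r) (orbit (ptGen p G r) y)
    rw [hs1, hs2 P hP] at e1
    have e2 := mul_slack (p := p) (ptGen p G r) (lineSet p G r y)
    rw [hfl, Nat.card_coe_set_eq] at e2
    push_cast at e1
    have hp : (0 : ℤ) < p := by exact_mod_cast (Fact.out : p.Prime).pos
    have e3 : slack p (ptGen p G r) (orbit (ptGen p G r) y) =
        c * slack p (ptGen p G r) (lineSet p G r y) := by
      apply mul_left_cancel₀ hp.ne'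
      linear_combination e1 - (c : ℤ) * e2
    have := h.slack_orbit_le hy
    have := h.small
    have hc : (1 : ℤ) ≤ c := by exact_mod_cast Nat.pos_of_mul_pos_right hf
    nlinarith
  exact ⟨hA.isPreprimitive hih (by rw [hfl]; exact Nat.pos_of_mul_pos_left hf)
    (h.line_separated hne) hle, hle⟩

/-- The coupling lemma. -/
theorem coupled_or_uniform {j : ℕ} {r s : Ω} (hN : NatPair p G j r s) {y : Ω} (hy : y ≠ r) :
    pairSyl p G r y ∈ lineSet p G r s ∨
      ((∀ A ∈ lineSet p G r s,
          (A ∩ pairSyl p G r y).ncard * (p + j) = (pairSyl p G r y).ncard * j) ∧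
        ((pairSyl p G r y).Nonempty → ∀ A ∈ lineSet p G r s, ∀ B ∈ lineSet p G r s,
          ∃ g ∈ sylGen (pairSyl p G r y), g • A = B)) := by
  classical
  by_cases hne : (pairSyl p G r y).Nonempty
  swap
  · refine Or.inr ⟨fun A _ => ?_, fun hne' => absurd hne' hne⟩
    rw [Set.not_nonempty_iff_eq_empty.1 hne]
    simp
  set D := pairSyl p G r y with hDdef
  set T := {A | A ∈ lineSet p G r s ∧ D ⊆ A} with hTdef
  by_cases hT : T = ∅
  · have htr : ∀ A ∈ lineSet p G r s, ∀ B ∈ lineSet p G r s,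
        ∃ g ∈ sylGen D, g • A = B := fun A hA B hB =>
      h.sylGen_transitive_compl hN hA hB (fun e => hT.le ⟨hA, e⟩) (fun e => hT.le ⟨hB, e⟩)
    refine Or.inr ⟨fun A hA => ?_, fun _ => htr⟩
    have hsum := h.sum_inter_lines hN (S := D) (pairSyl_subset_left r y)
    have hall : ∀ B ∈ lineSet p G r s, (B ∩ D).ncard = (A ∩ D).ncard := by
      intro B hB
      obtain ⟨g, hg, rfl⟩ := htr A hA B hB
      have hgD : g • D = D := by
        have h1 : sylGen D ≤ stabilizer G D := sylGen_le_iff.2 fun P hP => pairSyl_le_stabilizer hP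
        exact mem_stabilizer_iff.1 (h1 hg)
      conv_lhs => rw [← hgD, ← Set.smul_set_inter, Set.ncard_smul_set]
    rw [Finset.sum_congr rfl (fun B hB => hall B (by simpa using hB)), Finset.sum_const,
      smul_eq_mul, ← Set.ncard_eq_toFinset_card, hN.card] at hsum
    rw [mul_comm]
    exact hsum
  obtain ⟨A₀, hA₀⟩ := Set.nonempty_iff_ne_empty.2 hT
  obtain ⟨hprim, hsl⟩ := h.line_primitive hy hne
  have hneS := h.natPair_nonempty hN
  set ψ : Set (Sylow p G) → Set (Set (Sylow p G)) :=
    fun B => {A | A ∈ lineSet p G r s ∧ B ⊆ A} with hψdef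
  have hψsmul : ∀ g ∈ ptGen p G r, ∀ B, ψ (g • B) = g • ψ B := by
    intro g hg B
    ext A
    rw [Set.mem_smul_set_iff_inv_smul_mem]
    constructor
    · rintro ⟨hA, hBA⟩
      exact ⟨smul_mem_lineSet (inv_mem hg) hA, Set.smul_set_subset_iff_subset_inv_smul_set.1 hBA⟩
    · rintro ⟨hA, hBA⟩
      refine ⟨?_, Set.smul_set_subset_iff_subset_inv_smul_set.2 hBA⟩
      have := smul_mem_lineSet hg hA
      rwa [smul_inv_smul] at this
  -- the stabiliser of the pattern is the stabiliser of `T`
  have hstab : ∀ g ∈ ptGen p G r, g • T = T ↔ g • D = D := by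
    have hDl : D ∈ lineSet p G r y := mem_lineSet_self r y
    have : Nontrivial (lineSet p G r y) :=
      Finite.one_lt_card_iff_nontrivial.1 (h.line_adm hy hne).two
    have hco := IsPreprimitive.isCoatom_stabilizer_of_isPreprimitive (G := ptGen p G r)
      (⟨D, hDl⟩ : lineSet p G r y)
    set S₁ : Subgroup (ptGen p G r) := (stabilizer G T).subgroupOf (ptGen p G r) with hS₁
    have hle : stabilizer (ptGen p G r) (⟨D, hDl⟩ : lineSet p G r y) ≤ S₁ := by
      intro g hg
      have hgD : (g : G) • D = D := congrArg Subtype.val (mem_stabilizer_iff.1 hg)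
      show (g : G) ∈ stabilizer G T
      rw [mem_stabilizer_iff, show T = ψ D from rfl, ← hψsmul g g.2, hgD]
    have hne_top : S₁ ≠ ⊤ := by
      intro e
      obtain ⟨P, hP⟩ := hne
      have hTP : T ⊆ {A | A ∈ lineSet p G r s ∧ P ∈ A} := fun A hA => ⟨hA.1, hA.2 hP⟩
      have hall : lineSet p G r s ⊆ T := by
        rintro B hB
        obtain ⟨kA, hkA⟩ := hA₀.1
        obtain ⟨kB, hkB⟩ := hB
        have hk : kB * kA⁻¹ ∈ S₁ := e ▸ Subgroup.mem_top _
        have hk' := mem_stabilizer_iff.1 (show ((kB * kA⁻¹ : ptGen p G r) : G) ∈ stabilizer G T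
          from hk)
        rw [← hk', ← hkB]
        refine ⟨A₀, hA₀, ?_⟩
        show ((kB * kA⁻¹ : ptGen p G r) : G) • A₀ = _
        rw [← hkA]
        show ((kB * kA⁻¹ : ptGen p G r) : G) • ((kA : G) • pairSyl p G r s) = _
        rw [← mul_smul]
        simp [Subgroup.smul_def]
      have := Set.ncard_le_ncard (hall.trans hTP)
      rw [hN.card, hN.fix P hP.1] at this
      have := (Fact.out : p.Prime).pos
      omega
    have heq : stabilizer (ptGen p G r) (⟨D, hDl⟩ : lineSet p G r y) = S₁ := by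
      rcases lt_or_eq_of_le hle with hlt | he
      · exact absurd (hco.2 _ hlt) hne_top
      · exact he
    intro g hg
    constructor
    · intro hgT
      have : (⟨g, hg⟩ : ptGen p G r) ∈ stabilizer (ptGen p G r) (⟨D, hDl⟩ : lineSet p G r y) := by
        rw [heq]; exact mem_stabilizer_iff.2 hgT
      exact congrArg Subtype.val (mem_stabilizer_iff.1 this)
    · intro hgD
      rw [show T = ψ D from rfl, ← hψsmul g hg, hgD]
  have hψinj : ∀ B ∈ lineSet p G r y, ∀ B' ∈ lineSet p G r y, ψ B = ψ B' → B = B' := by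
    rintro _ ⟨k, rfl⟩ _ ⟨k', rfl⟩ e
    change ψ ((k : G) • D) = ψ ((k' : G) • D) at e
    rw [hψsmul k k.2, hψsmul k' k'.2] at e
    have e' : ((k'⁻¹ * k : ptGen p G r) : G) • T = T := by
      rw [Subgroup.coe_mul, mul_smul, Subgroup.coe_inv, inv_smul_eq_iff]
      exact e
    have := (hstab _ (k'⁻¹ * k).2).1 e'
    rw [Subgroup.coe_mul, mul_smul, Subgroup.coe_inv, inv_smul_eq_iff] at this
    exact this
  have hPψ : ∀ B ∈ lineSet p G r y, ∀ P ∈ sylAt p G r,
      ((∀ g ∈ P, g • ψ B = ψ B) → P ∈ B) := by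
    rintro B hB P hP hfix
    refine h.mem_of_le_stabilizer_line hne hB fun g hg => mem_stabilizer_iff.2 ?_
    exact hψinj _ (smul_mem_lineSet (le_sylGen hP hg) hB) _ hB
      (by rw [hψsmul g (le_sylGen hP hg)]; exact hfix g hg)
  rcases Nat.lt_or_ge T.ncard 2 with hi | hi
  · -- a single line: coupled
    left
    have hT1 : T = {A₀} := by
      refine (Set.eq_of_subset_of_ncard_le (Set.singleton_subset_iff.2 hA₀) ?_).symm
      rw [Set.ncard_singleton]; omega
    have hA₀D : A₀ ⊆ D := fun P hP => hPψ D (mem_lineSet_self r y) P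
      (subset_sylAt_of_mem_lineSet hA₀.1 hP) fun g hg => by
        show g • T = T
        rw [hT1, Set.smul_set_singleton,
          mem_stabilizer_iff.1 (le_stabilizer_of_mem_lineSet hA₀.1 hP hg)]
    rw [Set.Subset.antisymm hA₀.2 hA₀D]
    exact hA₀.1
  · -- at least two lines: too much slack
    exfalso
    obtain ⟨P, hP⟩ := hne
    set L := (Set.toFinite (lineSet p G r s)).toFinset with hLdef
    set FP := (Set.toFinite {A | A ∈ lineSet p G r s ∧ P ∈ A}).toFinset with hFPdef
    have hTP : T ⊆ {A | A ∈ lineSet p G r s ∧ P ∈ A} := fun A hA => ⟨hA.1, hA.2 hP⟩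
    have hij : T.ncard ≤ j := by
      rw [← hN.fix P hP.1]; exact Set.ncard_le_ncard hTP
    set Tf := (Set.toFinite T).toFinset with hTfdef
    have hTfc : Tf.card = T.ncard := (Set.ncard_eq_toFinset_card T).symm
    have himg : ∀ B ∈ lineSet p G r y,
        (Set.toFinite (ψ B)).toFinset ∈ L.powersetCard T.ncard := by
      intro B hB
      rw [Finset.mem_powersetCard]
      refine ⟨fun A hA => ?_, ?_⟩
      · simp only [L, Set.Finite.mem_toFinset] at hA ⊢
        exact hA.1
      · obtain ⟨k, rfl⟩ := hB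
        rw [← Set.ncard_eq_toFinset_card]
        show (ψ ((k : G) • D)).ncard = _
        rw [hψsmul k k.2, Set.ncard_smul_set]
    have hsurj : ∀ U ∈ L.powersetCard T.ncard, ∃ B ∈ lineSet p G r y,
        (Set.toFinite (ψ B)).toFinset = U := by
      intro U hU
      rw [Finset.mem_powersetCard] at hU
      have e := Finset.equivOfCardEq (hTfc.trans hU.2.symm)
      let f : Set (Sylow p G) → Set (Sylow p G) := fun A =>
        if hA : A ∈ Tf then (e ⟨A, hA⟩).1 else A
      obtain ⟨g, hg, hgf⟩ := h.exists_smul_lines hN Tf (fun A hA => (by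
          simpa [Tf, T] using hA : A ∈ lineSet p G r s ∧ D ⊆ A).1) (by omega) f
        (fun A hA => by simp only [f, dif_pos hA]; simpa [L] using hU.1 (e ⟨A, hA⟩).2)
        (fun A hA B hB hAB => by
          simp only [Finset.mem_coe] at hA hB
          simp only [f, dif_pos hA, dif_pos hB] at hAB
          exact congrArg Subtype.val (e.injective (Subtype.ext hAB)))
      refine ⟨g • D, ⟨⟨g, hg⟩, rfl⟩, ?_⟩
      refine Finset.eq_of_subset_of_card_le (fun A hA => ?_) ?_
      · rw [Set.Finite.mem_toFinset, hψsmul g hg, Set.mem_smul_set] at hA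
        obtain ⟨B, hB, rfl⟩ := hA
        have hB' : B ∈ Tf := by simpa [Tf, T, ψ] using hB
        rw [hgf B hB']
        simp only [f, dif_pos hB']
        exact (e ⟨B, hB'⟩).2
      · rw [← Set.ncard_eq_toFinset_card, hψsmul g hg, Set.ncard_smul_set, hU.2]
    have hq' : (lineSet p G r y).ncard = (L.powersetCard T.ncard).card := by
      rw [← Set.ncard_coe_finset]
      refine Set.ncard_congr (fun B _ => (Set.toFinite (ψ B)).toFinset) himg ?_ ?_
      · intro B B' hB hB' e
        exact hψinj B hB B' hB' (Set.Finite.toFinset_inj.1 e)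
      · intro U hU
        obtain ⟨B, hB, e⟩ := hsurj U hU
        exact ⟨B, hB, e⟩
    have hf' : {B | B ∈ lineSet p G r y ∧ P ∈ B}.ncard = (FP.powersetCard T.ncard).card := by
      rw [← Set.ncard_coe_finset]
      refine Set.ncard_congr (fun B _ => (Set.toFinite (ψ B)).toFinset) ?_ ?_ ?_
      · rintro B ⟨hB, hPB⟩
        rw [Finset.mem_coe, Finset.mem_powersetCard]
        refine ⟨fun A hA => ?_, (Finset.mem_powersetCard.1 (himg B hB)).2⟩
        simp only [FP, Set.Finite.mem_toFinset] at hA ⊢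
        exact ⟨hA.1, hA.2 hPB⟩
      · intro B B' hB hB' e
        exact hψinj B hB.1 B' hB'.1 (Set.Finite.toFinset_inj.1 e)
      · intro U hU
        rw [Finset.mem_coe, Finset.mem_powersetCard] at hU
        obtain ⟨B, hB, e⟩ := hsurj U (Finset.mem_powersetCard.2 ⟨fun A hA => by
          have := hU.1 hA
          simp only [FP, L, Set.Finite.mem_toFinset] at this ⊢
          exact this.1, hU.2⟩)
        refine ⟨B, ⟨hB, hPψ B hB P hP.1 fun g hg => ?_⟩, e⟩
        have hfixA : ∀ A ∈ ψ B, g • A = A := by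
          intro A hA
          have : A ∈ FP := hU.1 (e ▸ (Set.Finite.mem_toFinset _).2 hA)
          simp only [FP, Set.Finite.mem_toFinset] at this
          exact mem_stabilizer_iff.1 (le_stabilizer_of_mem_lineSet this.1 this.2 hg)
        ext A
        rw [Set.mem_smul_set]
        exact ⟨fun ⟨C, hC, hCA⟩ => hCA ▸ (hfixA C hC).symm ▸ hC, fun hA => ⟨A, hA, hfixA A hA⟩⟩
    have hne' : (pairSyl p G r y).Nonempty := ⟨P, hP⟩
    have e := mul_slack (p := p) (ptGen p G r) (lineSet p G r y)
    rw [h.line_fixNum hne' hP.1, Nat.card_coe_set_eq, hq', hf', Finset.card_powersetCard,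
      Finset.card_powersetCard] at e
    have hL : L.card = p + j := by rw [← Set.ncard_eq_toFinset_card, hN.card]
    have hFP : FP.card = j := by rw [← Set.ncard_eq_toFinset_card, hN.fix P hP.1]
    rw [hL, hFP] at e
    have := choose_slack_lt hi hij hN.lt
    have hp : (0 : ℤ) < p := by exact_mod_cast (Fact.out : p.Prime).pos
    nlinarith

end Small

end CfsgLib.SylowFix
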