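import Cfsg.Agent.Lib.SylowFix.Centres

/-!
For `p` odd there are no natural pairs with parameter `p - 1`.
-/

set_option autoImplicit false

open MulAction
open scoped Pointwise

namespace CfsgLib.SylowFix

universe u

variable {p : ℕ} {G : Type u} [Group G] {Ω : Type u} [MulAction G Ω]

variable [Finite G] [Finite Ω] [Fact p.Prime]

namespace Small

variable (h : Small p G Ω)
include h

/-- The lines of an exact pair have two points. -/
theorem lineCls_eq_one (hp : p ≠ 2) {r s : Ω} (hN : NatPair p G (p - 1) r s) :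
    (lineCls p G r s).ncard = 1 := by
  classical
  have hR := h.relNatural_exact
  have hp2 := (Fact.out : p.Prime).two_le
  by_contra hne
  have hc : 2 ≤ (lineCls p G r s).ncard := by
    have : 0 < (lineCls p G r s).ncard := (Set.ncard_pos (Set.toFinite _)).2 ⟨s, rfl⟩
    omega
  have hN' := hR s r hN.ne.symm (h.rel_comm.1 (h.rel_of_natPair hN))
  -- the line at `s` has a second point too
  obtain ⟨v, hv, hvs⟩ := Set.exists_ne_of_one_lt_ncard (show 1 < (lineCls p G r s).ncard by omega) s
  have hvr : v ≠ r := h.ne_of_mem_lineSet hN.ne (h.lineCls_subset_bundle hv)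
  have hc' : 2 ≤ (lineCls p G s r).ncard := by
    have hsub : ({r, v} : Set Ω) ⊆ lineCls p G s r := by
      rintro a (rfl | rfl)
      · exact rfl
      · exact h.line_eq_three hR hN hvs hv
    have := Set.ncard_le_ncard hsub
    rwa [Set.ncard_pair (Ne.symm hvr)] at this
  -- a point `t` off the line
  obtain ⟨A, hA, hAne⟩ := Set.exists_ne_of_one_lt_ncard (s := lineSet p G r s)
    (by rw [hN.card]; omega) (pairSyl p G r s)
  obtain ⟨k, hk⟩ := hA
  change (k : G) • pairSyl p G r s = A at hk
  set t := (k : G) • s with ht_def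
  have hkr := ptGen_le_stabilizer r k.2
  have ht : pairSyl p G r t = A := by rw [pairSyl_smul_right hkr]; exact hk
  have htmem : pairSyl p G r t ∈ lineSet p G r s := by rw [ht]; exact ⟨k, hk⟩
  have htne : pairSyl p G r t ≠ pairSyl p G r s := by rw [ht]; exact hAne
  have hts : t ≠ s := fun e => htne (by rw [e])
  -- a second point `t'` on the line of `t`
  set t' := (k : G) • v with ht'_def
  have ht' : pairSyl p G r t' = pairSyl p G r t := by
    rw [ht'_def, ht_def, pairSyl_smul_right hkr, pairSyl_smul_right hkr,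
      show pairSyl p G r v = pairSyl p G r s from hv]
  have htt : t' ≠ t := fun e => hvs (MulAction.injective (k : G) e)
  have hts' : t' ≠ s := fun e => htne (by rw [← ht', e])
  have hrel := (h.rel_of_off_line hp hN hts htmem htne).1
  have hrel' := (h.rel_of_off_line hp hN hts' (by rw [ht']; exact htmem)
    (by rw [ht']; exact htne)).1
  have hT := h.centres_eq_orbit hp hN hc' hts htmem hrel
  have hT' := h.centres_eq_orbit hp hN hc' hts' (by rw [ht']; exact htmem) hrel'
  -- a centre on another line at `s`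
  obtain ⟨l, hl, hlne⟩ := Set.exists_ne_of_one_lt_ncard (s := lineSet p G s r)
    (by rw [hN'.card]; omega) (pairSyl p G s r)
  obtain ⟨g, hg⟩ := hl
  change (g : G) • pairSyl p G s r = l at hg
  set r' := (g : G) • r with hr'_def
  have hr' : pairSyl p G s r' = l := by
    rw [hr'_def, pairSyl_smul_right (ptGen_le_stabilizer s g.2)]; exact hg
  have hr't : r' ∈ centres p G r s t := by rw [hT]; exact ⟨g, rfl⟩
  have hr't' : r' ∈ centres p G r s t' := by rw [hT']; exact ⟨g, rfl⟩
  have hN'' := h.natPair_at_centre hN hr't.1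
  have hr'r : r' ≠ r := fun e => hlne (by rw [← hr', e])
  -- `r'` is not coupled with `r` through `s`
  have hclosed : pairSyl p G r r' ∈ lineSet p G r s → pairSyl p G r r' = pairSyl p G r s := by
    intro hmem
    by_contra hne'
    exact h.not_coupled hp hN (hN''.ne).symm hmem hne' hr't.1
  have hNt : NatPair p G (p - 1) r' t :=
    hR r' t (h.ne_of_mem_lineSet hN''.ne hr't.2)
      (rel_of_mem_lineSet (h.rel_of_natPair hN'') hr't.2)
  have hNrt : NatPair p G (p - 1) r t :=
    hR r t (h.ne_of_mem_lineSet hN.ne htmem) (rel_of_mem_lineSet (h.rel_of_natPair hN) htmem)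
  have e1 : pairSyl p G t t' = pairSyl p G t r := h.line_eq_three hR hNrt htt ht'
  have hdiff : pairSyl p G r' t' ≠ pairSyl p G r' t := by
    intro e
    have e2 : pairSyl p G t t' = pairSyl p G t r' := h.line_eq_three hR hNt htt e
    have hNtr := hR t r hNrt.ne.symm (h.rel_comm.1 (h.rel_of_natPair hNrt))
    have e3 : pairSyl p G r r' = pairSyl p G r t :=
      h.line_eq_three hR hNtr hr'r (e2.symm.trans e1)
    exact htne (e3.symm.trans (hclosed (e3 ▸ htmem)))
  have hmem : pairSyl p G r' t' ∈ lineSet p G r' t := by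
    rw [show lineSet p G r' t = lineSet p G r' s from lineSet_eq hr't.2]
    exact hr't'.2
  have hRtt : Rel p G (p - 1) t t' := by
    rw [Rel, e1]
    exact h.rel_comm.1 (h.rel_of_natPair hNrt)
  exact h.not_coupled hp hNt htt hmem hdiff (h.coupled_of_rel hR hNt htt hmem hdiff hRtt)

/-- For odd `p` there is no natural pair with parameter `p - 1`. -/
theorem no_exact (hp : p ≠ 2) (r₀ s₀ : Ω) : ¬ NatPair p G (p - 1) r₀ s₀ := by
  classical
  intro hN₀
  have hR := h.relNatural_exact
  have hp2 := (Fact.out : p.Prime).two_le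
  set q := p + (p - 1) with hq
  have hcard : ∀ r s : Ω, NatPair p G (p - 1) r s → (bundle p G r s).ncard = q := by
    intro r s hN
    rw [h.ncard_bundle_eq hN.ne, hN.card, h.lineCls_eq_one hp hN, mul_one]
  have hinj : ∀ r s v w : Ω, NatPair p G (p - 1) r s → v ∈ bundle p G r s →
      pairSyl p G r w = pairSyl p G r v → w = v := by
    intro r s v w hN hv e
    have hNv := hR r v (h.ne_of_mem_lineSet hN.ne hv)
      (rel_of_mem_lineSet (h.rel_of_natPair hN) hv)
    obtain ⟨a, ha⟩ := Set.ncard_eq_one.1 (h.lineCls_eq_one hp hNv)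
    have h1 : w ∈ lineCls p G r v := e
    have h2 : v ∈ lineCls p G r v := rfl
    rw [ha, Set.mem_singleton_iff] at h1 h2
    exact h1.trans h2.symm
  have hrelmem : ∀ r s v : Ω, NatPair p G (p - 1) r s → v ∈ bundle p G r s →
      Rel p G (p - 1) r v := fun r s v hN hv => rel_of_mem_lineSet (h.rel_of_natPair hN) hv
  -- the bundle of `s` at a centre does not depend on the centre
  have hsub : ∀ r v s : Ω, NatPair p G (p - 1) r s → NatPair p G (p - 1) v s →
      bundle p G r s ⊆ bundle p G v s := by
    intro r v s hr hv t ht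
    rcases eq_or_ne t s with rfl | hts
    · exact mem_lineSet_self v t
    have htne : pairSyl p G r t ≠ pairSyl p G r s := fun e =>
      hts (hinj r s s t hr (mem_lineSet_self r s) e)
    obtain ⟨hind, hnrel⟩ := h.rel_of_off_line hp hr hts ht htne
    rcases eq_or_ne v r with rfl | hvr
    · exact ht
    have hsr := hR s r hr.ne.symm (h.rel_comm.1 (h.rel_of_natPair hr))
    by_cases hb : pairSyl p G s v ∈ lineSet p G s r
    · obtain ⟨-, htr⟩ := (h.coupled_or_uniform hsr hts).resolve_left fun e => hnrel
        (rel_of_mem_lineSet (h.rel_of_natPair hsr) e)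
      obtain ⟨g, hg, hgv⟩ := htr (h.nonempty_of_rel (by omega) hind) _ (mem_lineSet_self s r) _ hb
      have hgs : g ∈ stabilizer G s := (sylGen_le_iff.2 fun P hP => hP.1 : _ ≤ stabilizer G s) hg
      have hgt : g ∈ stabilizer G t := (sylGen_le_iff.2 fun P hP => hP.2 : _ ≤ stabilizer G t) hg
      have hgr : g • r = v := hinj s r v (g • r) hsr hb (by rw [pairSyl_smul_right hgs, hgv])
      have := smul_lineSet_mem g (ht : pairSyl p G r t ∈ lineSet p G r s)
      rwa [smul_pairSyl, mem_stabilizer_iff.1 hgs, mem_stabilizer_iff.1 hgt, hgr] at this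
    · have hsv : Rel p G (p - 1) s v := h.rel_comm.1 (h.rel_of_natPair hv)
      have hrv : Rel p G (p - 1) r v :=
        h.triangle_diff hR hsr hvr hv.ne.symm hsv hb
      -- at `r`, the points `s` and `v` are in different bundles
      have hnb : pairSyl p G r v ∉ lineSet p G r s := fun hm =>
        h.not_coupled hp hr hv.ne.symm hm (fun e => hv.ne.symm (hinj r s s v hr
          (mem_lineSet_self r s) e)) (h.coupled_of_rel hR hr hv.ne.symm hm (fun e => hv.ne.symm
          (hinj r s s v hr (mem_lineSet_self r s) e)) hsv)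
      have hrt := hR r t (h.ne_of_mem_lineSet hr.ne ht) (hrelmem r s t hr ht)
      have hnb' : pairSyl p G r v ∉ lineSet p G r t := by
        rwa [show lineSet p G r t = lineSet p G r s from lineSet_eq ht]
      have hvt : v ≠ t := fun e => hnb (e ▸ ht)
      have htv : Rel p G (p - 1) t v := h.triangle_diff hR hrt hvt hvr hrv hnb'
      by_contra hnot
      exact hnrel (h.triangle_diff hR hv hts hvt.symm (h.rel_comm.1 htv) hnot)
  have hΓ : ∀ r v s : Ω, NatPair p G (p - 1) r s → NatPair p G (p - 1) v s →
      bundle p G r s = bundle p G v s := fun r v s hr hv =>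
    Set.Subset.antisymm (hsub r v s hr hv) (hsub v r s hv hr)
  set Γ := bundle p G r₀ s₀ with hΓdef
  have hblock : IsBlock G Γ := by
    rw [isBlock_iff_smul_eq_of_mem]
    intro g a ha hga
    set b := g • a with hb
    have hNa := hR r₀ a (h.ne_of_mem_lineSet hN₀.ne ha) (hrelmem r₀ s₀ a hN₀ ha)
    have hNb := hR r₀ b (h.ne_of_mem_lineSet hN₀.ne hga) (hrelmem r₀ s₀ b hN₀ hga)
    have hNg : NatPair p G (p - 1) (g • r₀) b := by
      refine hR _ _ ?_ (h.adm.rel_smul g (h.rel_of_natPair hNa))
      exact fun e => hNa.ne (MulAction.injective g e)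
    have eb : Γ = bundle p G r₀ b := by
      simp only [hΓdef, bundle, lineSet_eq (hga : pairSyl p G r₀ b ∈ lineSet p G r₀ s₀)]
    have ea : Γ = bundle p G r₀ a := by
      simp only [hΓdef, bundle, lineSet_eq (ha : pairSyl p G r₀ a ∈ lineSet p G r₀ s₀)]
    suffices g • bundle p G r₀ a = bundle p G (g • r₀) b by
      rw [← ea, ← hΓ r₀ (g • r₀) b hNb hNg, ← eb] at this
      exact this
    ext x
    rw [Set.mem_smul_set_iff_inv_smul_mem]
    show pairSyl p G r₀ (g⁻¹ • x) ∈ lineSet p G r₀ a ↔
      pairSyl p G (g • r₀) x ∈ lineSet p G (g • r₀) b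
    constructor
    · intro hx
      have := smul_lineSet_mem g hx
      rwa [smul_pairSyl, smul_inv_smul] at this
    · intro hx
      have := smul_lineSet_mem g⁻¹ hx
      rwa [smul_pairSyl, inv_smul_smul, hb, inv_smul_smul] at this
  rcases h.isPreprimitive.isTrivialBlock_of_isBlock hblock with hs | hu
  · have h2 : 1 < Γ.ncard := by rw [hΓdef, hcard r₀ s₀ hN₀]; omega
    obtain ⟨a, ha, b, hb, hab⟩ := Set.one_lt_ncard_iff_nontrivial.1 h2
    exact hab (hs ha hb)
  · exact h.ne_of_mem_lineSet hN₀.ne (hu ▸ Set.mem_univ r₀ : r₀ ∈ Γ) rfl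

end Small

end CfsgLib.SylowFix
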