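import Cfsg.Agent.Lib.SylowFix.Quotient

/-!
The inductive statement: the slack is nonnegative, and actions of small slack are natural up to
class size or have `cycNum` congruent to a negative residue of small absolute value.
-/

set_option autoImplicit false

open MulAction
open scoped Pointwise

namespace CfsgLib.SylowFix

universe u v

variable (p : ℕ) (G : Type u) [Group G] (Ω : Type v) [MulAction G Ω]

/-- Quotient of degree `p + j` with `p`-cycles. -/
def Natural : Prop :=
  (fixNum p G Ω = 0 ∧ cycNum p G Ω = 1) ∨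
    (0 < fixNum p G Ω ∧ ∀ r : Ω, {v : Ω | sylAt p G v = sylAt p G r}.ncard = cycNum p G Ω)

/-- `cycNum` is congruent to `-a` for some `a` smaller than the slack. -/
def Residue : Prop := ∃ a : ℕ, (a : ℤ) < slack p G Ω ∧ p ∣ cycNum p G Ω + a

/-- The statement proved by induction on the degree. -/
def Good : Prop :=
  0 ≤ slack p G Ω ∧ (slack p G Ω ≤ (p : ℤ) - 1 → Natural p G Ω ∨ Residue p G Ω)

variable {p G Ω}

section

variable [Finite G] [Finite Ω] [Fact p.Prime]

/-- Weakened residue condition. -/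
theorem residue_of_le (hA : Admissible p G Ω) (hf : 0 < fixNum p G Ω) {a : ℕ}
    (ha : (a : ℤ) ≤ slack p G Ω) (hd : p ∣ cycNum p G Ω + a) : Residue p G Ω := by
  rcases lt_or_eq_of_le ha with h | h
  · exact ⟨a, h, hd⟩
  · exfalso
    refine hA.not_dvd_fixNum hf ?_
    have h1 : (p : ℤ) ∣ (cycNum p G Ω : ℤ) + a := by exact_mod_cast hd
    have h2 : (fixNum p G Ω : ℤ) = (p : ℤ) * cycNum p G Ω - ((cycNum p G Ω : ℤ) + a) := by
      rw [slack] at h; linarith
    have h3 : (p : ℤ) ∣ (fixNum p G Ω : ℤ) := h2 ▸ dvd_sub (Dvd.intro _ rfl) h1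
    exact_mod_cast h3

/-- With no fixed point and one cycle the action is natural; larger ones have large slack. -/
theorem good_of_fixNum_eq_zero (hA : Admissible p G Ω) (hf : fixNum p G Ω = 0) : Good p G Ω := by
  have hp : (2 : ℤ) ≤ p := by exact_mod_cast (Fact.out : p.Prime).two_le
  have hs : slack p G Ω = ((p : ℤ) - 1) * cycNum p G Ω := by simp [slack, hf]
  have hk : (1 : ℤ) ≤ cycNum p G Ω := by exact_mod_cast hA.cycNum_pos
  refine ⟨by rw [hs]; nlinarith, fun h => Or.inl (Or.inl ⟨hf, ?_⟩)⟩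
  rw [hs] at h
  have : (cycNum p G Ω : ℤ) ≤ 1 := by nlinarith
  have := hA.cycNum_pos
  omega

namespace Admissible

variable (hA : Admissible p G Ω) (hf : 0 < fixNum p G Ω)
include hA hf

theorem pat_fixNum (r : Ω) :
    fixNum p G Ω = {v : Ω | sylAt p G v = sylAt p G r}.ncard * fixNum p G (Pat p G Ω) := by
  have P : Sylow p G := Classical.arbitrary _
  rw [← ncard_sylFix (Ω := Ω) P, ← ncard_sylFix (Ω := Pat p G Ω) P, ← hA.ncard_preimage r]
  congr 1
  ext v
  rw [Set.mem_preimage, mem_sylFix, mem_sylFix]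
  exact (Set.ext_iff.1 (hA.sylAt_patOf hf v) P).symm

theorem pat_admissible : Admissible p G (Pat p G Ω) := by
  refine ⟨hA.pat_trans, hA.gen, ?_⟩
  by_contra hc
  have hs : Subsingleton (Pat p G Ω) := Finite.card_le_one_iff_subsingleton.1 (by omega)
  have hne : Nonempty Ω := (Nat.card_pos_iff.1 (by have := hA.two; omega)).1
  obtain ⟨r⟩ := hne
  obtain ⟨P, hP⟩ := hA.sylAt_nonempty hf r
  have : sylFix (Ω := Ω) P = Set.univ := Set.eq_univ_of_forall fun v => by
    have := patOf_eq_iff.1 (Subsingleton.elim (patOf (p := p) (G := G) v) (patOf r))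
    exact (Set.ext_iff.1 this P).2 hP
  have h1 := ncard_sylFix (Ω := Ω) P
  rw [this, Set.ncard_univ] at h1
  exact hA.fixNum_lt.ne' h1

theorem pat_card (r : Ω) :
    Nat.card Ω = {v : Ω | sylAt p G v = sylAt p G r}.ncard * Nat.card (Pat p G Ω) := by
  rw [← Set.ncard_univ (Pat p G Ω), ← hA.ncard_preimage r, Set.preimage_univ, Set.ncard_univ]

theorem pat_cycNum (r : Ω) :
    cycNum p G Ω = {v : Ω | sylAt p G v = sylAt p G r}.ncard * cycNum p G (Pat p G Ω) := by
  have h1 := hA.pat_card hf r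
  have h2 := hA.pat_fixNum hf r
  rw [card_eq_fixNum_add (p := p) (G := G) (Ω := Ω),
    card_eq_fixNum_add (p := p) (G := G) (Ω := Pat p G Ω), h2, Nat.mul_add, Nat.mul_left_comm] at h1
  exact Nat.eq_of_mul_eq_mul_left (Fact.out : p.Prime).pos (Nat.add_left_cancel h1)

theorem pat_slack (r : Ω) :
    slack p G Ω = {v : Ω | sylAt p G v = sylAt p G r}.ncard * slack p G (Pat p G Ω) := by
  simp only [slack]
  rw [hA.pat_cycNum hf r, hA.pat_fixNum hf r]
  push_cast
  ring

/-- Goodness passes from the quotient to the action. -/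
theorem good_of_pat (h : Good p G (Pat p G Ω)) : Good p G Ω := by
  have hne : Nonempty Ω := (Nat.card_pos_iff.1 (by have := hA.two; omega)).1
  obtain ⟨r⟩ := hne
  set c := {v : Ω | sylAt p G v = sylAt p G r}.ncard with hc
  have hc1 : 1 ≤ c := (Set.ncard_pos (Set.toFinite _)).2 ⟨r, rfl⟩
  have hs := hA.pat_slack hf r
  refine ⟨by rw [hs]; exact mul_nonneg (by positivity) h.1, fun hle => ?_⟩
  have hle' : slack p G (Pat p G Ω) ≤ (p : ℤ) - 1 := by
    refine le_trans ?_ hle
    rw [hs]
    exact le_mul_of_one_le_left h.1 (by exact_mod_cast hc1)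
  rcases h.2 hle' with hn | ⟨a, ha, hd⟩
  · rcases hn with ⟨h0, _⟩ | ⟨h0, hcl⟩
    · exact absurd (hA.pat_fixNum hf r) (by rw [h0, mul_zero]; exact hf.ne')
    · refine Or.inl (Or.inr ⟨hf, fun v => ?_⟩)
      have hk : cycNum p G (Pat p G Ω) = 1 := by
        rw [← hcl (patOf r)]
        have : {x : Pat p G Ω | sylAt p G x = sylAt p G (patOf (p := p) (G := G) r)} =
            {patOf r} := by
          ext x
          simp only [Set.mem_setOf_eq, Set.mem_singleton_iff]
          exact ⟨fun h => hA.pat_separated hf h, fun h => by rw [h]⟩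
        rw [this, Set.ncard_singleton]
      rw [hA.pat_cycNum hf r, hk, mul_one]
      exact hA.ncard_class_eq v r
  · refine Or.inr ⟨c * a, ?_, ?_⟩
    · rw [hs]
      push_cast
      exact mul_lt_mul_of_pos_left ha (by exact_mod_cast hc1)
    · rw [hA.pat_cycNum hf r, ← Nat.mul_add]
      exact Dvd.dvd.mul_left hd _

end Admissible

end

end CfsgLib.SylowFix
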