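import Cfsg.Agent.Lib.SylowFix.NoExact
import Cfsg.Agent.Lib.SylowFix.Centres
import Mathlib.Logic.Relation

/-!
For `p = 2` there are no natural pairs with parameter `1` in a primitive action of small slack with
at least two cycles.
-/

set_option autoImplicit false

open MulAction
open scoped Pointwise

namespace CfsgLib.SylowFix

universe u

variable {G : Type u} [Group G] [Finite G] {Ω : Type u} [MulAction G Ω] [Finite Ω]

namespace Small

variable [Fact (Nat.Prime 2)] (h : Small 2 G Ω)
include h

/-- All orbits have slack at most one. -/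
theorem slack_le_one {r t : Ω} (ht : t ≠ r) :
    slack 2 (ptGen 2 G r) (orbit (ptGen 2 G r) t) ≤ 1 := by
  have := h.slack_orbit_le ht
  have := h.small
  push_cast at *
  linarith

/-- A pair without common Sylow subgroup gives an orbit of size two. -/
theorem free_orbit {r t : Ω} (ht : t ≠ r) (he : pairSyl 2 G r t = ∅) :
    (orbit (ptGen 2 G r) t).ncard = 2 ∧
      slack 2 (ptGen 2 G r) (orbit (ptGen 2 G r) t) = 1 := by
  have hf : fixNum 2 (ptGen 2 G r) (orbit (ptGen 2 G r) t) = 0 := by
    by_contra hne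
    exact Set.not_nonempty_iff_eq_empty.2 he ((h.fixNum_pos_iff ht).1 (by omega))
  have hk := (h.orbit_adm ht).cycNum_pos
  have hle := h.slack_le_one ht
  have e := card_eq_fixNum_add (p := 2) (G := ptGen 2 G r) (Ω := orbit (ptGen 2 G r) t)
  have es : slack 2 (ptGen 2 G r) (orbit (ptGen 2 G r) t) =
      cycNum 2 (ptGen 2 G r) (orbit (ptGen 2 G r) t) := by
    simp [slack, hf]
  rw [Nat.card_coe_set_eq, hf] at e
  constructor <;> omega

/-- If some pair has no common Sylow subgroup, every orbit has at most two points. -/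
theorem no_empty_pair {r₀ s₀ : Ω} (hN₀ : NatPair 2 G 1 r₀ s₀) :
    ∀ r s : Ω, s ≠ r → (pairSyl 2 G r s).Nonempty := by
  classical
  intro a₀ b₀ hab₀
  by_contra hemp
  rw [Set.not_nonempty_iff_eq_empty] at hemp
  -- every point has exactly two neighbours
  let E : Ω → Ω → Prop := fun x y => y ≠ x ∧ pairSyl 2 G x y = ∅
  have hEs : ∀ x y : Ω, E x y → E y x := fun x y hxy => ⟨hxy.1.symm, by rw [pairSyl_comm]; exact hxy.2⟩
  have hEg : ∀ (g : G) (x y : Ω), E x y → E (g • x) (g • y) := fun g x y hxy =>
    ⟨fun e => hxy.1 (MulAction.injective g e), by rw [← smul_pairSyl, hxy.2, Set.smul_set_empty]⟩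
  have hEex : ∀ x, ∃ y, E x y := by
    intro x
    obtain ⟨g, rfl⟩ := h.adm.trans.exists_smul_eq a₀ x
    exact ⟨g • b₀, hEg g a₀ b₀ ⟨hab₀, hemp⟩⟩
  have hE2 : ∀ x y : Ω, E x y → {z | E x z} = orbit (ptGen 2 G x) y := by
    intro x y hxy
    refine Set.Subset.antisymm ?_ ?_
    · intro z hz
      by_contra hzo
      set T := orbReps (ptGen 2 G x) ({x}ᶜ : Set Ω) with hT
      have hy' : orbRep (ptGen 2 G x) y ∈ T := Finset.mem_image_of_mem _ (by simpa using hxy.1)
      have hz' : orbRep (ptGen 2 G x) z ∈ T := Finset.mem_image_of_mem _ (by simpa using hz.1)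
      have hne : orbRep (ptGen 2 G x) y ≠ orbRep (ptGen 2 G x) z := fun e => hzo (by
        rw [← orbit_orbRep (K := ptGen 2 G x) y, e, orbit_orbRep (K := ptGen 2 G x) z]
        exact mem_orbit_self z)
      have hsum := h.sum_slack x
      rw [← hT] at hsum
      have hle : ∑ t ∈ {orbRep (ptGen 2 G x) y, orbRep (ptGen 2 G x) z},
          slack 2 (ptGen 2 G x) (orbit (ptGen 2 G x) t) ≤
          ∑ t ∈ T, slack 2 (ptGen 2 G x) (orbit (ptGen 2 G x) t) :=
        Finset.sum_le_sum_of_subset_of_nonneg
          (by intro t ht; simp only [Finset.mem_insert, Finset.mem_singleton] at ht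
              rcases ht with rfl | rfl <;> assumption)
          (fun t ht _ => h.slack_orbit_nonneg (h.ne_of_mem_reps ht))
      rw [Finset.sum_pair hne, h.slack_orbit_congr (orbit_orbRep (K := ptGen 2 G x) y),
        h.slack_orbit_congr (orbit_orbRep (K := ptGen 2 G x) z), (h.free_orbit hxy.1 hxy.2).2,
        (h.free_orbit hz.1 hz.2).2, hsum] at hle
      have := h.small
      push_cast at this
      linarith
    · rintro _ ⟨k, rfl⟩
      have := hEg (k : G) x y hxy
      rwa [mem_stabilizer_iff.1 (ptGen_le_stabilizer x k.2)] at this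
  -- an element fixing a point and one neighbour is trivial
  have htriv : ∀ (g : G) (x y : Ω), E x y → g • x = x → g • y = y → ∀ z : Ω, g • z = z := by
    intro g x y hxy hgx hgy
    -- a third neighbour does not exist
    have hfix : ∀ a b c : Ω, E a b → g • a = a → g • b = b → E a c → g • c = c := by
      intro a b c hab hga hgb hac
      by_contra hgc
      have hgac : E a (g • c) := by
        have := hEg g a c hac
        rwa [hga] at this
      have hbc : b ≠ c := fun e => hgc (e ▸ hgb)
      have hbgc : b ≠ g • c := fun e => hbc (MulAction.injective g (hgb.trans e))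
      have hsub : ({b, c, g • c} : Set Ω) ⊆ orbit (ptGen 2 G a) b := by
        rw [← hE2 a b hab]
        rintro z (rfl | rfl | rfl) <;> assumption
      have := Set.ncard_le_ncard hsub
      rw [(h.free_orbit hab.1 hab.2).1, Set.ncard_insert_of_notMem (by
        simp [hbc, hbgc]), Set.ncard_pair (Ne.symm hgc)] at this
      omega
    set S : Set Ω := {a | g • a = a ∧ ∀ b, E a b → g • b = b} with hS
    have hxS : x ∈ S := ⟨hgx, fun b hb => hfix x y b hxy hgx hgy hb⟩
    have hclosed : ∀ a b, E a b → a ∈ S → b ∈ S := fun a b hab ha =>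
      ⟨ha.2 b hab, fun c hc => hfix b a c (hEs a b hab) (ha.2 b hab) ha.1 hc⟩
    set B : Set Ω := {z | Relation.ReflTransGen E x z} with hB
    have hsymm : ∀ a b, Relation.ReflTransGen E a b → Relation.ReflTransGen E b a := fun a b hab =>
      by
        induction hab with
        | refl => exact Relation.ReflTransGen.refl
        | tail _ hbc ih => exact ih.head (hEs _ _ hbc)
    have hblock : IsBlock G B := by
      rw [isBlock_iff_smul_eq_of_mem]
      intro k a ha hka
      have hmap : ∀ (k : G) a b, Relation.ReflTransGen E a b →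
          Relation.ReflTransGen E (k • a) (k • b) := fun k a b hab =>
        hab.lift (k • ·) (hEg k)
      ext z
      rw [Set.mem_smul_set_iff_inv_smul_mem]
      constructor
      · intro hz
        have := hmap k _ _ ((hsymm _ _ ha).trans hz)
        rw [smul_inv_smul] at this
        exact hka.trans this
      · intro hz
        have := hmap k⁻¹ _ _ ((hsymm _ _ hka).trans hz)
        rw [inv_smul_smul] at this
        exact ha.trans this
    rcases h.isPreprimitive.isTrivialBlock_of_isBlock hblock with hs | hu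
    · exact absurd (hs (Relation.ReflTransGen.single hxy) Relation.ReflTransGen.refl) hxy.1
    · intro z
      have hz : Relation.ReflTransGen E x z := (hu ▸ Set.mem_univ z : z ∈ B)
      have : z ∈ S := by
        induction hz with
        | refl => exact hxS
        | tail _ hbc ih => exact hclosed _ _ hbc ih
      exact this.1
  -- so every orbit at `r₀` has at most two points
  obtain ⟨t, ht⟩ := hEex r₀
  obtain ⟨t', ht', htt⟩ := Set.exists_ne_of_one_lt_ncard
    (show 1 < (orbit (ptGen 2 G r₀) t).ncard by rw [(h.free_orbit ht.1 ht.2).1]; omega) t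
  obtain ⟨g₁, hg₁⟩ := ht'
  change (g₁ : G) • t = t' at hg₁
  have hsub : orbit (ptGen 2 G r₀) s₀ ⊆ {s₀, (g₁ : G) • s₀} := by
    rintro _ ⟨g, rfl⟩
    show (g : G) • s₀ ∈ _
    have hgr := mem_stabilizer_iff.1 (ptGen_le_stabilizer r₀ g.2)
    have hg₁r := mem_stabilizer_iff.1 (ptGen_le_stabilizer r₀ g₁.2)
    rcases eq_or_ne ((g : G) • t) t with hgt | hgt
    · exact Or.inl (htriv g r₀ t ht hgr hgt s₀)
    · right
      have hcase : (g : G) • t = t' := by
        by_contra hne
        have hsub : ({t, t', (g : G) • t} : Set Ω) ⊆ orbit (ptGen 2 G r₀) t := by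
          rintro z (rfl | rfl | rfl)
          · exact mem_orbit_self _
          · exact ⟨g₁, hg₁⟩
          · exact ⟨g, rfl⟩
        have := Set.ncard_le_ncard hsub
        rw [(h.free_orbit ht.1 ht.2).1, Set.ncard_insert_of_notMem (by
          simp [htt.symm, hgt.symm]), Set.ncard_pair (Ne.symm hne)] at this
        omega
      have := htriv ((g₁ : G)⁻¹ * g) r₀ t ht
        (by rw [mul_smul, hgr, inv_smul_eq_iff, hg₁r])
        (by rw [mul_smul, hcase, inv_smul_eq_iff, hg₁]) s₀
      rw [mul_smul, inv_smul_eq_iff] at this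
      exact this
  have himg : lineSet 2 G r₀ s₀ ⊆ pairSyl 2 G r₀ '' orbit (ptGen 2 G r₀) s₀ := by
    rintro _ ⟨k, rfl⟩
    exact ⟨(k : G) • s₀, ⟨k, rfl⟩, pairSyl_smul_right (ptGen_le_stabilizer r₀ k.2) s₀⟩
  have := (Set.ncard_le_ncard himg).trans ((Set.ncard_image_le (Set.toFinite _)).trans
    (Set.ncard_le_ncard hsub))
  have h2 : ({s₀, (g₁ : G) • s₀} : Set Ω).ncard ≤ 2 :=
    (Set.ncard_insert_le _ _).trans (by rw [Set.ncard_singleton])
  rw [hN₀.card] at this
  omega

/-- For `p = 2` there is no natural pair with parameter `1`. -/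
theorem no_exact_two (hk : 2 ≤ cycNum 2 G Ω) (r₀ s₀ : Ω) : ¬ NatPair 2 G 1 r₀ s₀ := by
  classical
  intro hN₀
  have hne := h.no_empty_pair hN₀
  have hR : RelNatural 2 G Ω 1 := h.relNatural_exact
  have hnoind : ∀ s t : Ω, t ≠ s → ¬ Rel 2 G (1 - 1) s t := by
    intro s t hts h0
    rw [Rel, Nat.sub_self, mul_zero] at h0
    have hp : 0 < (pairSyl 2 G s t).ncard := (Set.ncard_pos (Set.toFinite _)).2 (hne s t hts)
    omega
  have hall := h.rel_all hR hnoind hN₀
  have hnat : ∀ x y : Ω, y ≠ x → NatPair 2 G 1 x y := fun x y hxy => hR x y hxy (hall x y hxy)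
  -- the invariants
  have hJ : slack 2 G Ω = -1 := by
    have e := h.sum_slack r₀
    rw [Finset.sum_eq_zero fun t ht => by
      rw [h.slack_of_rel (h.ne_of_mem_reps ht) (hall r₀ t (h.ne_of_mem_reps ht))]; simp] at e
    linarith
  have hf : fixNum 2 G Ω = cycNum 2 G Ω + 1 := by
    rw [slack] at hJ
    push_cast at hJ
    omega
  -- a bundle and its centre form one set for all of its points
  have hbun : ∀ r s u : Ω, s ≠ r → u ∈ bundle 2 G r s →
      insert r (bundle 2 G r s) ⊆ insert u (bundle 2 G u r) := by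
    intro r s u hs hu v hv
    have hur : u ≠ r := h.ne_of_mem_lineSet hs hu
    rcases hv with rfl | hv
    · exact Or.inr (mem_lineSet_self u v)
    rcases eq_or_ne v u with rfl | hvu
    · exact Or.inl rfl
    right
    have hN := hnat r u hur
    have hv' : pairSyl 2 G r v ∈ lineSet 2 G r u := by rw [lineSet_eq hu]; exact hv
    show pairSyl 2 G u v ∈ lineSet 2 G u r
    by_cases hl : pairSyl 2 G r v = pairSyl 2 G r u
    · rw [h.line_eq_three hR hN hvu hl]
      exact mem_lineSet_self u r
    · exact (h.triangle_same hR hN hvu hv' hl).resolve_right (hnoind u v hvu)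
  have hW : ∀ r s u : Ω, s ≠ r → u ∈ bundle 2 G r s →
      insert u (bundle 2 G u r) = insert r (bundle 2 G r s) := by
    intro r s u hs hu
    refine Set.Subset.antisymm ?_ (hbun r s u hs hu)
    have hur : u ≠ r := h.ne_of_mem_lineSet hs hu
    have h1 := hbun u r r hur.symm (mem_lineSet_self u r)
    rwa [show bundle 2 G r u = bundle 2 G r s by simp only [bundle, lineSet_eq hu]] at h1
  -- every bundle is everything
  have huniv : ∀ r s : Ω, s ≠ r → insert r (bundle 2 G r s) = Set.univ := by
    intro r s hs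
    by_contra hprop
    set W := insert r (bundle 2 G r s) with hWdef
    set S : Set (Sylow 2 G) := ⋃ u ∈ W, sylAt 2 G u with hS
    obtain ⟨P, hP⟩ := h.sylAt_nonempty r
    have hPS : P ∈ S := Set.mem_biUnion (Set.mem_insert r _) hP
    set H := sylGen S with hH
    have hinv : ∀ g ∈ H, g ∈ stabilizer G W := by
      intro g hg
      refine (sylGen_le_iff.2 ?_ : H ≤ stabilizer G W) hg
      intro Q hQ k hk
      simp only [S, Set.mem_iUnion] at hQ
      obtain ⟨u, hu, hQu⟩ := hQ
      have hb : ∀ a b : Ω, (Q : Subgroup G) ≤ ptGen 2 G a →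
          k • insert a (bundle 2 G a b) = insert a (bundle 2 G a b) := by
        intro a b hQa
        have hbmem : ∀ k ∈ ptGen 2 G a, ∀ v ∈ bundle 2 G a b, k • v ∈ bundle 2 G a b :=
          fun k hk v hv => by
            show pairSyl 2 G a (k • v) ∈ lineSet 2 G a b
            rw [pairSyl_smul_right (ptGen_le_stabilizer a hk)]
            exact smul_mem_lineSet hk hv
        rw [Set.smul_set_insert, mem_stabilizer_iff.1 (ptGen_le_stabilizer a (hQa hk))]
        congr 1
        ext v
        rw [Set.mem_smul_set_iff_inv_smul_mem]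
        exact ⟨fun hv => by simpa using hbmem k (hQa hk) _ hv,
          hbmem k⁻¹ (inv_mem (hQa hk)) v⟩
      rcases hu with rfl | hu
      · exact mem_stabilizer_iff.2 (hb u s (le_sylGen hQu))
      · rw [mem_stabilizer_iff, hWdef, ← hW r s u hs hu]
        exact hb u r (le_sylGen hQu)
    have hK : SylGenerated 2 H := sylGenerated_sylGen ⟨P, hPS⟩
    have hmem : ∀ k ∈ H, ∀ y ∈ W, k • y ∈ W := fun k hk y hy => by
      rw [← mem_stabilizer_iff.1 (hinv k hk)]
      exact Set.smul_mem_smul_set hy
    have hmov : ∀ y ∈ W, ¬ H ≤ stabilizer G y := by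
      intro y hy hle
      obtain ⟨u, hu, huy⟩ : ∃ u ∈ W, u ≠ y := by
        rcases eq_or_ne y r with rfl | hyr
        · exact ⟨s, Or.inr (mem_lineSet_self y s), hs⟩
        · exact ⟨r, Set.mem_insert r _, hyr.symm⟩
      exact h.moved huy.symm ((sylGen_le_iff.2 fun Q hQ =>
        le_sylGen (Set.mem_biUnion hu hQ) : ptGen 2 G u ≤ H).trans hle)
    have hlt : W.ncard < Nat.card Ω := by
      rw [← Set.ncard_univ]
      exact Set.ncard_lt_ncard (Set.ssubset_univ_iff.2 hprop)
    have hb := bound_of_goodBelow h.ih hK hmem hmov hlt (le_sylGen hPS)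
    -- a line fixed by `P` gives too many fixed points
    obtain ⟨A, hA, hPA⟩ : {A | A ∈ lineSet 2 G r s ∧ P ∈ A}.Nonempty :=
      (Set.ncard_pos (Set.toFinite _)).1 (by rw [(hnat r s hs).fix P hP]; exact Nat.one_pos)
    obtain ⟨k, hk⟩ := hA
    change (k : G) • pairSyl 2 G r s = A at hk
    set u := (k : G) • s with hu
    have hru : pairSyl 2 G r u = A := by
      rw [hu, pairSyl_smul_right (ptGen_le_stabilizer r k.2), hk]
    have hub : u ∈ bundle 2 G r s := by
      show pairSyl 2 G r u ∈ lineSet 2 G r s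
      rw [hru]; exact ⟨k, hk⟩
    have hsub : insert r (lineCls 2 G r u) ⊆ W ∩ sylFix P := by
      rintro v (rfl | hv)
      · exact ⟨Set.mem_insert v _, hP⟩
      · have e : pairSyl 2 G r v = pairSyl 2 G r u := hv
        refine ⟨Or.inr ?_, ?_⟩
        · show pairSyl 2 G r v ∈ lineSet 2 G r s
          rw [e]; exact hub
        · have : P ∈ pairSyl 2 G r v := by rw [e, hru]; exact hPA
          exact this.2
    have hc1 := Set.ncard_le_ncard hsub
    have hr1 : r ∉ lineCls 2 G r u := fun e =>
      h.ne_of_mem_lineSet (h.ne_of_mem_lineSet hs hub) (h.lineCls_subset_bundle e) rfl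
    rw [Set.ncard_insert_of_notMem hr1] at hc1
    have hbu : bundle 2 G r u = bundle 2 G r s := by simp only [bundle, lineSet_eq hub]
    have hWc : W.ncard = 3 * (lineCls 2 G r u).ncard + 1 := by
      rw [hWdef, Set.ncard_insert_of_notMem (show r ∉ bundle 2 G r s from fun e => h.ne_of_mem_lineSet hs e rfl), ← hbu,
        h.ncard_bundle_eq (h.ne_of_mem_lineSet hs hub),
        (hnat r u (h.ne_of_mem_lineSet hs hub)).card]
    push_cast at hb
    omega
  -- hence all lines have `k` points besides the centre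
  have hn := card_eq_fixNum_add (p := 2) (G := G) (Ω := Ω)
  have hcls : ∀ r s : Ω, s ≠ r → (lineCls 2 G r s).ncard = cycNum 2 G Ω := by
    intro r s hs
    have e := congrArg Set.ncard (huniv r s hs)
    rw [Set.ncard_univ, Set.ncard_insert_of_notMem (show r ∉ bundle 2 G r s from fun e => h.ne_of_mem_lineSet hs e rfl),
      h.ncard_bundle_eq hs, (hnat r s hs).card] at e
    omega
  have hlines : ∀ r s v : Ω, s ≠ r → v ≠ r → pairSyl 2 G r v ∈ lineSet 2 G r s := by
    intro r s v hs hv
    have : v ∈ insert r (bundle 2 G r s) := (huniv r s hs).symm ▸ Set.mem_univ v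
    exact this.resolve_left hv
  obtain ⟨P, hP⟩ := h.sylAt_nonempty r₀
  have hFc : (sylFix (Ω := Ω) P).ncard = cycNum 2 G Ω + 1 := by rw [ncard_sylFix, hf]
  -- at most three fixed points
  have hline : ∀ a ∈ sylFix (Ω := Ω) P, ∀ x, x ∉ sylFix (Ω := Ω) P →
      ∀ b ∈ sylFix (Ω := Ω) P, pairSyl 2 G x a = pairSyl 2 G x b → a = b := by
    intro a ha x hx b hb e
    by_contra hab
    have hax : a ≠ x := fun e' => hx (e' ▸ ha)
    have h3 := h.line_eq_three hR (hnat x a hax) (Ne.symm hab) e.symm
    have : P ∈ pairSyl 2 G a x := by rw [← h3]; exact ⟨ha, hb⟩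
    exact hx this.2
  have hk2 : cycNum 2 G Ω = 2 := by
    obtain ⟨x, hx⟩ := (Set.ne_univ_iff_exists_notMem (sylFix (Ω := Ω) P)).1 (fun e => by
      rw [e, Set.ncard_univ] at hFc; omega)
    have hxr : r₀ ≠ x := fun e => hx (e ▸ hP)
    have hle : (sylFix (Ω := Ω) P).ncard ≤ (lineSet 2 G x r₀).ncard :=
      Set.ncard_le_ncard_of_injOn (fun a => pairSyl 2 G x a)
        (fun a ha => hlines x r₀ a hxr (fun e => hx (e ▸ ha)))
        (fun a ha b hb e => hline a ha x hx b hb e)
    rw [hFc, (hnat x r₀ hxr).card] at hle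
    omega
  -- the stabiliser of a line and a point on it fixes the line pointwise
  have hpt : ∀ (g : G) (a x : Ω), x ≠ a → g • a = a → g • pairSyl 2 G a x = pairSyl 2 G a x →
      g • x = x := by
    intro g a x hxa hga hgA
    set A := pairSyl 2 G a x with hA
    set M := stabilizer G a ⊓ stabilizer G A with hM
    obtain ⟨Q, hQ⟩ := hne a x hxa
    have hQM : (Q : Subgroup G) ≤ M := le_inf hQ.1 (pairSyl_le_stabilizer hQ)
    have hsub : orbit M x ⊆ lineCls 2 G a x := by
      rintro _ ⟨m, rfl⟩
      show pairSyl 2 G a ((m : G) • x) = pairSyl 2 G a x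
      rw [pairSyl_smul_right m.2.1]
      exact mem_stabilizer_iff.1 m.2.2
    have hodd : ¬ 2 ∣ (orbit M x).ncard := by
      rw [← index_stabilizer]
      exact fun h2 => (Q.subtype hQM).not_dvd_index
        (h2.trans (Subgroup.index_dvd_of_le fun m hm => hQ.2 hm))
    have hle := Set.ncard_le_ncard hsub
    rw [hcls a x hxa, hk2] at hle
    have hpos : 0 < (orbit M x).ncard := (Set.ncard_pos (Set.toFinite _)).2 ⟨x, mem_orbit_self x⟩
    obtain ⟨w, hw⟩ := Set.ncard_eq_one.1 (show (orbit M x).ncard = 1 by omega)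
    have h1 : (⟨g, mem_stabilizer_iff.2 hga, mem_stabilizer_iff.2 hgA⟩ : M) • x ∈ orbit M x :=
      mem_orbit _ _
    have h2 : x ∈ orbit M x := mem_orbit_self x
    rw [hw, Set.mem_singleton_iff] at h1 h2
    exact h1.trans h2.symm
  obtain ⟨x, g, hg, hgx⟩ : ∃ (x : Ω) (g : G), g ∈ P ∧ g • x ≠ x := by
    by_contra hall'
    push Not at hall'
    have : sylFix (Ω := Ω) P = Set.univ := Set.eq_univ_of_forall fun x g hg =>
      mem_stabilizer_iff.2 (hall' x g hg)
    rw [this, Set.ncard_univ] at hFc
    omega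
  have hgfix : ∀ a ∈ sylFix (Ω := Ω) P, g • a = a := fun a ha => mem_stabilizer_iff.1 (ha hg)
  have hxF : x ∉ sylFix (Ω := Ω) P := fun hx => hgx (hgfix x hx)
  have hxr : x ≠ r₀ := fun e => hxF (e ▸ hP)
  -- `g` fixes one line at `r₀` and exchanges the other two
  have hthree : ∀ a ∈ sylFix (Ω := Ω) P, ∀ v, v ≠ a → v ∉ sylFix (Ω := Ω) P →
      g • pairSyl 2 G a v = pairSyl 2 G a v → ∀ w, w ≠ a → g • pairSyl 2 G a w = pairSyl 2 G a w := by
    intro a ha v hva hvF hgv w hwa
    obtain ⟨b, hb, hba⟩ := Set.exists_ne_of_one_lt_ncard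
      (show 1 < (sylFix (Ω := Ω) P).ncard by omega) a
    have hgb : g • pairSyl 2 G a b = pairSyl 2 G a b := by
      rw [smul_pairSyl, hgfix a ha, hgfix b hb]
    have hdiff : pairSyl 2 G a b ≠ pairSyl 2 G a v := fun e => hvF (by
      have : P ∈ pairSyl 2 G a v := e ▸ ⟨ha, hb⟩
      exact this.2)
    by_contra hgw
    have hgmem : g ∈ ptGen 2 G a := le_sylGen ha hg
    have hsub : ({pairSyl 2 G a b, pairSyl 2 G a v, pairSyl 2 G a w, g • pairSyl 2 G a w} :
        Set (Set (Sylow 2 G))) ⊆ lineSet 2 G a b := by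
      rintro z (rfl | rfl | rfl | rfl)
      · exact mem_lineSet_self a b
      · exact hlines a b v hba hva
      · exact hlines a b w hba hwa
      · exact smul_mem_lineSet hgmem (hlines a b w hba hwa)
    have := Set.ncard_le_ncard hsub
    rw [(hnat a b hba).card, Set.ncard_insert_of_notMem, Set.ncard_insert_of_notMem,
      Set.ncard_pair (Ne.symm hgw)] at this
    · omega
    · simp only [Set.mem_insert_iff, Set.mem_singleton_iff, not_or]
      exact ⟨fun e => hgw (e ▸ hgv), fun e => hgw (by
        have e' := MulAction.injective g (hgv.trans e)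
        rw [← e']; exact hgv)⟩
    · simp only [Set.mem_insert_iff, Set.mem_singleton_iff, not_or]
      exact ⟨hdiff, fun e => hgw (e ▸ hgb), fun e => hgw (by
        have e' := MulAction.injective g (hgb.trans e)
        rw [← e']; exact hgb)⟩
  have hgx' : g • x ∉ sylFix (Ω := Ω) P := fun hx => hgx (MulAction.injective g (hgfix _ hx))
  have hmv : g • pairSyl 2 G r₀ x ≠ pairSyl 2 G r₀ x := fun e =>
    hgx (hpt g r₀ x hxr (hgfix r₀ hP) e)
  have hg2 : g • g • x = x := by
    have hgg : (g * g) • pairSyl 2 G r₀ x = pairSyl 2 G r₀ x := by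
      obtain ⟨b, hb, hba⟩ := Set.exists_ne_of_one_lt_ncard
        (show 1 < (sylFix (Ω := Ω) P).ncard by omega) r₀
      have hgb : g • pairSyl 2 G r₀ b = pairSyl 2 G r₀ b := by
        rw [smul_pairSyl, hgfix r₀ hP, hgfix b hb]
      have hgmem : g ∈ ptGen 2 G r₀ := le_sylGen hP hg
      rw [mul_smul]
      by_contra hne2
      have hxl := hlines r₀ b x hba hxr
      have hsub : ({pairSyl 2 G r₀ b, pairSyl 2 G r₀ x, g • pairSyl 2 G r₀ x,
          g • g • pairSyl 2 G r₀ x} : Set (Set (Sylow 2 G))) ⊆ lineSet 2 G r₀ b := by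
        rintro z (rfl | rfl | rfl | rfl)
        · exact mem_lineSet_self r₀ b
        · exact hxl
        · exact smul_mem_lineSet hgmem hxl
        · exact smul_mem_lineSet hgmem (smul_mem_lineSet hgmem hxl)
      have hbx : pairSyl 2 G r₀ b ≠ pairSyl 2 G r₀ x := fun e => hxF (by
        have : P ∈ pairSyl 2 G r₀ x := e ▸ ⟨hP, hb⟩
        exact this.2)
      have := Set.ncard_le_ncard hsub
      rw [(hnat r₀ b hba).card, Set.ncard_insert_of_notMem, Set.ncard_insert_of_notMem,
        Set.ncard_pair (fun e => hmv (MulAction.injective g e).symm)] at this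
      · omega
      · simp only [Set.mem_insert_iff, Set.mem_singleton_iff, not_or]
        exact ⟨fun e => hmv e.symm, fun e => hne2 e.symm⟩
      · simp only [Set.mem_insert_iff, Set.mem_singleton_iff, not_or]
        refine ⟨hbx, fun e => hbx ?_, fun e => hbx ?_⟩
        · exact MulAction.injective g (hgb.trans e)
        · exact MulAction.injective g (hgb.trans (MulAction.injective g (hgb.trans e)))
    have := hpt (g * g) r₀ x hxr (by rw [mul_smul, hgfix r₀ hP, hgfix r₀ hP]) hgg
    rwa [mul_smul] at this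
  -- the third point of the line through `x` and `g • x`
  set x' := g • x with hx'
  have hxx : x' ≠ x := hgx
  obtain ⟨a, ha, hax⟩ := Set.exists_ne_of_one_lt_ncard
    (show 1 < (lineCls 2 G x x').ncard by rw [hcls x x' hxx, hk2]; omega) x'
  have hax0 : a ≠ x := h.ne_of_mem_lineSet hxx (h.lineCls_subset_bundle ha)
  have hxa : pairSyl 2 G x a = pairSyl 2 G x x' := ha
  have hga : g • a = a := by
    by_contra hne'
    have e1 : pairSyl 2 G x' (g • a) = pairSyl 2 G x' x := by
      have := congrArg (g • ·) hxa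
      simp only [smul_pairSyl, hg2, ← hx'] at this
      exact this
    have hgax : g • a ≠ x := fun e => hax (MulAction.injective g (e.trans hg2.symm))
    have e2 : pairSyl 2 G x (g • a) = pairSyl 2 G x x' :=
      h.line_eq_three hR (hnat x' x hxx.symm) hgax e1
    have hgax' : g • a ≠ x' := fun e => hax0 (MulAction.injective g e)
    have hsub : ({x', a, g • a} : Set Ω) ⊆ lineCls 2 G x x' := by
      rintro z (rfl | rfl | rfl)
      · exact rfl
      · exact hxa
      · exact e2
    have := Set.ncard_le_ncard hsub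
    rw [hcls x x' hxx, hk2, Set.ncard_insert_of_notMem (by
      simp [hax.symm, hgax'.symm]), Set.ncard_pair (Ne.symm hne')] at this
    omega
  have haF : a ∈ sylFix (Ω := Ω) P := by
    by_contra haF
    have har : a ≠ r₀ := fun e => haF (e ▸ hP)
    refine hmv (hthree r₀ hP a har haF ?_ x hxr)
    rw [smul_pairSyl, hgfix r₀ hP, hga]
  have e : pairSyl 2 G a x' = pairSyl 2 G a x :=
    h.line_eq_three hR (hnat x a hax0) hax.symm hxa.symm
  refine hgx (hpt g a x hax0.symm hga ?_)
  rw [smul_pairSyl, hga, ← hx', e]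

end Small

end CfsgLib.SylowFix
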