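import Cfsg.Agent.Lib.SylowFix.Exact
import Cfsg.Agent.Lib.SylowFix.TwoCase

/-!
Praeger's bound on the fixed points of a Sylow subgroup: if a transitive group of degree `n > 1` is
generated by its `p`-elements, a Sylow `p`-subgroup fixes at most `(p - 1) n / (2p - 1)` points.
-/

set_option autoImplicit false

open MulAction
open scoped Pointwise

namespace CfsgLib.SylowFix

universe u

variable {p : ℕ} [Fact p.Prime]

/-- The primitive case. -/
theorem Small.good {G : Type u} [Group G] [Finite G] {Ω : Type u} [MulAction G Ω] [Finite Ω]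
    (h : Small p G Ω) : Natural p G Ω ∨ Residue p G Ω := by
  by_cases hk : 2 ≤ cycNum p G Ω
  · by_cases hnat : ∃ (r s : Ω) (j : ℕ), NatPair p G j r s
    · refine Or.inr (h.good_of_no_exact hk (fun r s hN => ?_) hnat)
      rcases eq_or_ne p 2 with rfl | hp
      · exact h.no_exact_two hk r s hN
      · exact h.no_exact hp r s hN
    · push Not at hnat
      exact h.good_of_no_natPair hnat
  · refine Or.inl (Or.inr ⟨h.fpos, fun v => ?_⟩)
    have := h.adm.cycNum_pos
    rw [show cycNum p G Ω = 1 by omega, Set.ncard_eq_one]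
    exact ⟨v, Set.ext fun w => ⟨fun hw => h.sep hw, fun hw => congrArg (sylAt p G) hw⟩⟩

theorem good_of_goodBelow {G Ω : Type u} [Group G] [MulAction G Ω] [Finite G] [Finite Ω]
    (hA : Admissible p G Ω) (ih : GoodBelow.{u} p (Nat.card Ω)) : Good p G Ω := by
  rcases Nat.eq_zero_or_pos (fixNum p G Ω) with hf | hf
  · exact good_of_fixNum_eq_zero hA hf
  by_cases hsep : Separated p G Ω
  swap
  · refine hA.good_of_pat hf (ih G (Pat p G Ω) (hA.pat_admissible hf) ?_)
    refine lt_of_le_of_ne (Nat.card_le_card_of_surjective _ patOf_surjective) fun e => hsep ?_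
    have hb := (Nat.bijective_iff_surjective_and_card (patOf (p := p) (G := G) (Ω := Ω))).2
      ⟨patOf_surjective, e.symm⟩
    exact fun a b hab => hb.1 (patOf_eq_iff.2 hab)
  have hp2 : (2 : ℤ) ≤ p := by exact_mod_cast (Fact.out : p.Prime).two_le
  rcases lt_trichotomy (slack p G Ω) ((p : ℤ) - 1) with hlt | heq | hgt
  · have h : Small p G Ω := ⟨hA, hf, hsep, by omega, ih⟩
    have hgood := h.good
    refine ⟨?_, fun _ => hgood⟩
    rcases hgood with hN | ⟨a, ha, -⟩
    · obtain ⟨r⟩ : Nonempty Ω := (Nat.card_pos_iff.1 (by have := hA.two; omega)).1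
      have hge : 0 ≤ slack p G Ω + 1 := by
        rw [← h.sum_slack r]
        exact Finset.sum_nonneg fun t ht => h.slack_orbit_nonneg (h.ne_of_mem_reps ht)
      rcases hN with ⟨h0, -⟩ | ⟨-, hc⟩
      · omega
      have hk : cycNum p G Ω = 1 := by
        rw [← hc r, Set.ncard_eq_one]
        exact ⟨r, Set.ext fun w => ⟨fun hw => hsep hw, fun hw => congrArg (sylAt p G) hw⟩⟩
      have hne : fixNum p G Ω ≠ p := fun e => hA.not_dvd_fixNum hf (dvd_of_eq e.symm)
      simp only [slack, hk, Nat.cast_one, mul_one] at hge ⊢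
      omega
    · exact (Int.natCast_nonneg a).trans ha.le
  · refine ⟨by omega, fun _ => Or.inr ?_⟩
    have hp := (Fact.out : p.Prime).pos
    refine residue_of_le hA hf (a := (p - cycNum p G Ω % p) % p) ?_ ?_
    · have := Nat.mod_lt (p - cycNum p G Ω % p) hp
      omega
    · rw [Nat.dvd_iff_mod_eq_zero, Nat.add_mod, Nat.mod_mod]
      rcases Nat.eq_zero_or_pos (cycNum p G Ω % p) with h0 | h0
      · simp [h0]
      · have h1 := Nat.mod_lt (cycNum p G Ω) hp
        rw [Nat.mod_eq_of_lt (show p - cycNum p G Ω % p < p by omega),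
          show cycNum p G Ω % p + (p - cycNum p G Ω % p) = p by omega, Nat.mod_self]
  · exact ⟨by linarith, fun hle => absurd hle (not_le.2 hgt)⟩

theorem goodBelow_all : ∀ n : ℕ, GoodBelow.{u} p n
  | 0 => fun _ _ _ _ _ _ _ h => absurd h (Nat.not_lt_zero _)
  | n + 1 => fun _ _ _ _ _ _ hA hlt =>
    good_of_goodBelow hA ((goodBelow_all n).mono (Nat.lt_succ_iff.1 hlt))

/-- Praeger's bound. -/
theorem fixNum_bound {G Ω : Type u} [Group G] [MulAction G Ω] [Finite G] [Finite Ω]
    (hA : Admissible p G Ω) :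
    (2 * p - 1) * fixNum p G Ω ≤ (p - 1) * Nat.card Ω := by
  have hg := (good_of_goodBelow hA (goodBelow_all _)).1
  have e := mul_slack (p := p) G Ω
  have h0 : 0 ≤ (p : ℤ) * slack p G Ω := mul_nonneg (Int.natCast_nonneg p) hg
  have hp := (Fact.out : p.Prime).two_le
  zify [show 1 ≤ 2 * p by omega, show 1 ≤ p by omega]
  linarith

/-- The Sylow subgroups generate a group generated by its `p`-elements. -/
theorem iSup_sylow_of_closure {G : Type u} [Group G]
    (h : Subgroup.closure {g : G | ∃ k : ℕ, orderOf g = p ^ k} = ⊤) :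
    ⨆ P : Sylow p G, (P : Subgroup G) = ⊤ := by
  refine top_le_iff.1 (h ▸ (Subgroup.closure_le _).2 ?_)
  rintro g ⟨k, hk⟩
  have hz : IsPGroup p (Subgroup.zpowers g) :=
    IsPGroup.of_card (n := k) (by rw [Nat.card_zpowers, hk])
  obtain ⟨P, hP⟩ := hz.exists_le_sylow
  exact le_iSup (fun P : Sylow p G => (P : Subgroup G)) P (hP (Subgroup.mem_zpowers g))

theorem ncard_sylIn_eq_card {G : Type u} [Group G] [Finite G] {H : Subgroup G}
    (hne : (sylIn p H).Nonempty) : (sylIn p H).ncard = Nat.card (Sylow p H) := by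
  rw [← Set.ncard_univ]
  refine Set.ncard_congr (fun P hP => P.subtype hP) (fun _ _ => Set.mem_univ _)
    (fun P Q hP hQ e => Sylow.subtype_injective e) fun Q _ => ?_
  obtain ⟨P₀, h0⟩ := hne
  have h0' : (P₀ : Subgroup G) ≤ H := h0
  obtain ⟨k, hk⟩ := MulAction.exists_smul_eq H (P₀.subtype h0') Q
  rw [Sylow.smul_subtype] at hk
  exact ⟨_, Subgroup.conj_smul_le_of_le h0' k, hk⟩

/-- The number of Sylow subgroups of a proper subgroup containing one. -/
theorem sylow_number_bound {G : Type u} [Group G] [Finite G]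
    (hgen : Subgroup.closure {g : G | ∃ k : ℕ, orderOf g = p ^ k} = ⊤)
    (H : Subgroup G) (hH : H ≠ ⊤) (P : Sylow p G) (hP : (P : Subgroup G) ≤ H) :
    (2 * p - 1) * Nat.card (Sylow p H) ≤ (p - 1) * Nat.card (Sylow p G) := by
  have hA : Admissible p G (G ⧸ H) := ⟨inferInstance, iSup_sylow_of_closure hgen,
    Subgroup.one_lt_index_of_ne_top hH⟩
  have hb := fixNum_bound hA
  have e := hA.ncard_sylAt_mul ((1 : G) : G ⧸ H)
  have hs : sylAt p G ((1 : G) : G ⧸ H) = sylIn p H := by
    ext Q
    rw [mem_sylAt, mem_sylIn, MulAction.stabilizer_quotient]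
  rw [hs, ncard_sylIn_eq_card ⟨P, hP⟩] at e
  have hn : 0 < Nat.card (G ⧸ H) := by have := hA.two; omega
  refine Nat.le_of_mul_le_mul_right ?_ hn
  calc (2 * p - 1) * Nat.card (Sylow p H) * Nat.card (G ⧸ H)
      = ((2 * p - 1) * fixNum p G (G ⧸ H)) * Nat.card (Sylow p G) := by
        rw [mul_assoc, e]; ring
    _ ≤ ((p - 1) * Nat.card (G ⧸ H)) * Nat.card (Sylow p G) := Nat.mul_le_mul_right _ hb
    _ = _ := by ring

/-- The number of orbits of a Sylow subgroup in a transitive group in which it moves some point. -/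
theorem orbit_count_bound {G Ω : Type u} [Group G] [MulAction G Ω] [Finite G] [Finite Ω]
    [IsPretransitive G Ω] (P : Sylow p G) {x₀ : Ω} (hx₀ : ¬ (P : Subgroup G) ≤ stabilizer G x₀) :
    (2 * p - 1) * Nat.card (orbitRel.Quotient (P : Subgroup G) Ω) ≤ p * Nat.card Ω := by
  classical
  set K := sylGen (Set.univ : Set (Sylow p G)) with hK
  have hmov : ∀ y ∈ (Set.univ : Set Ω), ¬ K ≤ stabilizer G y := by
    intro y _ hle
    obtain ⟨g, rfl⟩ := exists_smul_eq G x₀ y
    refine hx₀ ?_
    exact (sylow_le_conj_iff g P x₀).1 ((le_sylGen (Set.mem_univ (g • P))).trans hle)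
  have hb := bound_of_goodBelow (goodBelow_all.{u} (p := p) (Nat.card Ω + 1))
    (sylGenerated_sylGen ⟨P, Set.mem_univ P⟩) (W := Set.univ) (fun _ _ _ _ => Set.mem_univ _) hmov
    (by rw [Set.ncard_univ]; omega) (le_sylGen (Set.mem_univ P))
  rw [Set.univ_inter, Set.ncard_univ] at hb
  have := Fintype.ofFinite (orbitRel.Quotient (P : Subgroup G) Ω)
  have := Fintype.ofFinite Ω
  have hsum : Nat.card Ω =
      ∑ o : orbitRel.Quotient (P : Subgroup G) Ω, Nat.card (orbit (P : Subgroup G) o.out) := by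
    rw [Nat.card_congr (MulAction.selfEquivSigmaOrbits (P : Subgroup G) Ω), Nat.card_sigma]
  have hfix : ((Finset.univ : Finset (orbitRel.Quotient (P : Subgroup G) Ω)).filter
      fun o => Nat.card (orbit (P : Subgroup G) o.out) = 1).card ≤
        (sylFix (Ω := Ω) P).ncard := by
    rw [Set.ncard_eq_toFinset_card']
    refine Finset.card_le_card_of_injOn Quotient.out (fun o ho => ?_) (Quotient.out_injective.injOn)
    simp only [Finset.coe_filter, Finset.mem_univ, true_and, Set.mem_setOf_eq,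
      Nat.card_coe_set_eq, Set.ncard_eq_one] at ho
    simp only [Finset.mem_coe, Set.mem_toFinset, mem_sylFix]
    intro g hg
    obtain ⟨w, hw⟩ := ho
    have h1 : (⟨g, hg⟩ : (P : Subgroup G)) • o.out ∈ orbit (P : Subgroup G) o.out := mem_orbit _ _
    have h2 : o.out ∈ orbit (P : Subgroup G) o.out := mem_orbit_self _
    rw [hw, Set.mem_singleton_iff] at h1 h2
    exact mem_stabilizer_iff.2 (h1.trans h2.symm)
  have hp := (Fact.out : p.Prime).two_le
  have hcount : p * Nat.card (orbitRel.Quotient (P : Subgroup G) Ω) ≤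
      Nat.card Ω + (p - 1) * (sylFix (Ω := Ω) P).ncard := by
    refine le_trans ?_ (Nat.add_le_add_left (Nat.mul_le_mul_left (p - 1) hfix) _)
    rw [hsum, Nat.card_eq_fintype_card, ← Finset.card_univ, mul_comm, ← smul_eq_mul,
      ← Finset.sum_const, mul_comm (p - 1), ← smul_eq_mul (a := Finset.card _), ← Finset.sum_const,
      Finset.sum_filter, ← Finset.sum_add_distrib]
    refine Finset.sum_le_sum fun o _ => ?_
    obtain ⟨e, he⟩ := P.2.card_orbit o.out
    rw [he]
    rcases Nat.eq_zero_or_pos e with h0 | h0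
    · simp only [h0, pow_zero, if_true]; omega
    · exact le_add_right (Nat.le_self_pow h0.ne' p)
  generalize Nat.card (orbitRel.Quotient (P : Subgroup G) Ω) = q at hcount ⊢
  generalize (sylFix (Ω := Ω) P).ncard = f at hcount hb
  generalize Nat.card Ω = n at hcount hb ⊢
  zify [show 1 ≤ 2 * p by omega, show 1 ≤ p by omega] at hcount ⊢
  have hp' : (2 : ℤ) ≤ p := by exact_mod_cast hp
  have h1 : (p : ℤ) * ((2 * p - 1) * q) ≤ p * (p * n) := by
    calc (p : ℤ) * ((2 * p - 1) * q) = (2 * p - 1) * (p * q) := by ring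
      _ ≤ (2 * p - 1) * (n + (p - 1) * f) := mul_le_mul_of_nonneg_left hcount (by linarith)
      _ = (2 * p - 1) * n + (p - 1) * ((2 * p - 1) * f) := by ring
      _ ≤ (2 * p - 1) * n + (p - 1) * ((p - 1) * n) := by
        gcongr
        linarith
      _ = _ := by ring
  exact le_of_mul_le_mul_left h1 (by linarith)

end CfsgLib.SylowFix
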