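import Cfsg.Agent.Lib.SylowFix.PointOrbits
import Cfsg.Agent.Lib.SmallGroups.Perm

/-!
Natural pairs: `ptGen r` permutes the `p + j` lines of the bundle of `s`, every Sylow subgroup at `r`
fixing `j` of them. This action is primitive, hence `(j + 1)`-transitive by Jordan's theorem.
-/

set_option autoImplicit false

open MulAction
open scoped Pointwise

namespace CfsgLib.SylowFix

universe u

variable {p : ℕ} {G : Type u} [Group G] {Ω : Type u} [MulAction G Ω]

variable (p G) in
/-- The relation `|pairSyl r s| / |sylAt r| = j / (p + j)`. -/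
def Rel (j : ℕ) (r s : Ω) : Prop :=
  (pairSyl p G r s).ncard * (p + j) = (sylAt p G r).ncard * j

variable (p G) in
/-- `ptGen r` acts on the lines of the bundle of `s` naturally, with parameter `j`. -/
structure NatPair (j : ℕ) (r s : Ω) : Prop where
  ne : s ≠ r
  one_le : 1 ≤ j
  lt : j < p
  card : (lineSet p G r s).ncard = p + j
  fix : ∀ P ∈ sylAt p G r, {A | A ∈ lineSet p G r s ∧ P ∈ A}.ncard = j

variable [Finite G] [Finite Ω] [Fact p.Prime]

theorem Admissible.rel_comm (hA : Admissible p G Ω) {j : ℕ} {r s : Ω} :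
    Rel p G j r s ↔ Rel p G j s r := by
  rw [Rel, Rel, pairSyl_comm, hA.ncard_sylAt_eq r s]

namespace Small

variable (h : Small p G Ω)
include h

theorem rel_comm {j : ℕ} {r s : Ω} : Rel p G j r s ↔ Rel p G j s r := h.adm.rel_comm

theorem nonempty_of_rel {j : ℕ} (hj : 1 ≤ j) {r s : Ω} (hR : Rel p G j r s) :
    (pairSyl p G r s).Nonempty := by
  rw [← Set.ncard_pos (Set.toFinite _)]
  have hν : 0 < (sylAt p G r).ncard := (Set.ncard_pos (Set.toFinite _)).2 (h.sylAt_nonempty r)
  have := Nat.mul_pos hν hj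
  rw [← hR] at this
  exact Nat.pos_of_mul_pos_right this

theorem fixNum_of_rel {j : ℕ} {r s : Ω} (hrs : s ≠ r) (hR : Rel p G j r s) :
    fixNum p (ptGen p G r) (orbit (ptGen p G r) s) =
      j * cycNum p (ptGen p G r) (orbit (ptGen p G r) s) := by
  have e := h.ncard_pairSyl_mul hrs
  have hν : 0 < (sylAt p G r).ncard := (Set.ncard_pos (Set.toFinite _)).2 (h.sylAt_nonempty r)
  rw [Rel] at hR
  rw [card_eq_fixNum_add (p := p) (G := ptGen p G r) (Ω := orbit (ptGen p G r) s)] at e
  generalize fixNum p (ptGen p G r) (orbit (ptGen p G r) s) = f at e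
  generalize cycNum p (ptGen p G r) (orbit (ptGen p G r) s) = k at e
  generalize (pairSyl p G r s).ncard = a at e hR
  generalize (sylAt p G r).ncard = ν at e hR hν
  have e1 : ν * (f * (p + j)) = ν * (j * (f + p * k)) := by
    calc ν * (f * (p + j)) = (ν * f) * (p + j) := by ring
      _ = (a * (f + p * k)) * (p + j) := by rw [e]
      _ = (a * (p + j)) * (f + p * k) := by ring
      _ = (ν * j) * (f + p * k) := by rw [hR]
      _ = _ := by ring
  have e2 := Nat.eq_of_mul_eq_mul_left hν e1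
  have e3 : p * f = p * (j * k) := by rw [mul_add, mul_add] at e2; linarith
  exact Nat.eq_of_mul_eq_mul_left (Fact.out : p.Prime).pos e3

theorem slack_of_rel {j : ℕ} {r s : Ω} (hrs : s ≠ r) (hR : Rel p G j r s) :
    slack p (ptGen p G r) (orbit (ptGen p G r) s) =
      ((p : ℤ) - 1 - j) * cycNum p (ptGen p G r) (orbit (ptGen p G r) s) := by
  rw [slack, h.fixNum_of_rel hrs hR]
  push_cast
  ring

/-- A natural orbit with fixed points gives a natural pair. -/
theorem natPair_of_natural {r s : Ω} (hrs : s ≠ r) (hne : (pairSyl p G r s).Nonempty)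
    (hN : Natural p (ptGen p G r) (orbit (ptGen p G r) s)) :
    ∃ j, NatPair p G j r s ∧ Rel p G j r s := by
  have hf := (h.fixNum_pos_iff hrs).2 hne
  obtain ⟨hs1, hs2⟩ := h.orbit_scale hrs hne
  obtain ⟨P₀, hP₀⟩ := h.sylAt_nonempty r
  set j := {A | A ∈ lineSet p G r s ∧ P₀ ∈ A}.ncard with hjdef
  set c := (orbit (ptGen p G r) s ∩ {v | pairSyl p G r v = pairSyl p G r s}).ncard with hcdef
  have hck : c = cycNum p (ptGen p G r) (orbit (ptGen p G r) s) := by
    rcases hN with ⟨h0, _⟩ | ⟨_, hc⟩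
    · omega
    · rw [← hc ⟨s, mem_orbit_self s⟩, h.ncard_class]
  have hc0 : 0 < c := by
    rw [hck]; exact (h.orbit_adm hrs).cycNum_pos
  have hfj := hs2 P₀ hP₀
  rw [← hjdef] at hfj
  have hN' := card_eq_fixNum_add (p := p) (G := ptGen p G r) (Ω := orbit (ptGen p G r) s)
  rw [hs1, ← hck, hfj] at hN'
  have hcard : (lineSet p G r s).ncard = p + j := by
    have e : c * (lineSet p G r s).ncard = c * (p + j) := by rw [hN']; ring
    exact Nat.eq_of_mul_eq_mul_left hc0 e
  have hj1 : 1 ≤ j := by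
    rw [hfj] at hf
    exact Nat.pos_of_mul_pos_left hf
  have hjlt : j < p := by
    have e := h.slack_orbit_nonneg hrs
    rw [slack, hfj, ← hck] at e
    push_cast at e
    have hc0' : (0 : ℤ) < c := by exact_mod_cast hc0
    by_contra hge
    have : (p : ℤ) ≤ j := by exact_mod_cast not_lt.1 hge
    nlinarith
  refine ⟨j, ⟨hrs, hj1, hjlt, hcard, fun P hP => ?_⟩, ?_⟩
  · exact Nat.eq_of_mul_eq_mul_left hc0 ((hs2 P hP).symm.trans hfj)
  · have e := h.ncard_pairSyl_mul hrs
    rw [hs1, hcard, hfj] at e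
    refine Nat.eq_of_mul_eq_mul_left hc0 ?_
    linarith

theorem natPair_nonempty {j : ℕ} {r s : Ω} (hN : NatPair p G j r s) :
    (pairSyl p G r s).Nonempty := by
  obtain ⟨P, hP⟩ := h.sylAt_nonempty r
  obtain ⟨A, ⟨k, rfl⟩, hPA⟩ : {A | A ∈ lineSet p G r s ∧ P ∈ A}.Nonempty :=
    (Set.ncard_pos (Set.toFinite _)).1 (by rw [hN.fix P hP]; exact hN.one_le)
  exact Set.smul_set_nonempty.1 ⟨P, hPA⟩

theorem rel_of_natPair {j : ℕ} {r s : Ω} (hN : NatPair p G j r s) : Rel p G j r s := by
  have hne := h.natPair_nonempty hN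
  obtain ⟨P₀, hP₀⟩ := h.sylAt_nonempty r
  obtain ⟨hs1, hs2⟩ := h.orbit_scale hN.ne hne
  have e := h.ncard_pairSyl_mul hN.ne
  rw [hs1, hN.card, hs2 P₀ hP₀, hN.fix P₀ hP₀] at e
  set c := (orbit (ptGen p G r) s ∩ {v | pairSyl p G r v = pairSyl p G r s}).ncard with hcdef
  have hc0 : 0 < c := (Set.ncard_pos (Set.toFinite _)).2 ⟨s, mem_orbit_self s, rfl⟩
  refine Nat.eq_of_mul_eq_mul_left hc0 ?_
  linarith

omit h [Finite G] [Finite Ω] [Fact p.Prime] in
theorem natPair_congr {j : ℕ} {r s v : Ω} (hN : NatPair p G j r s) (hv : v ≠ r)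
    (e : pairSyl p G r v ∈ lineSet p G r s) : NatPair p G j r v := by
  have e' := lineSet_eq e
  exact ⟨hv, hN.one_le, hN.lt, by rw [e']; exact hN.card, fun P hP => by rw [e']; exact hN.fix P hP⟩

/-- A Sylow subgroup stabilising a line contains it. -/
theorem mem_of_le_stabilizer_line {r s : Ω} (hne : (pairSyl p G r s).Nonempty)
    {A : Set (Sylow p G)} (hA : A ∈ lineSet p G r s) {P : Sylow p G}
    (hP : (P : Subgroup G) ≤ stabilizer G A) : P ∈ A := by
  refine mem_of_le_stabilizer ?_ (fun Q hQ => le_stabilizer_of_mem_lineSet hA hQ) hP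
  obtain ⟨k, rfl⟩ := hA
  exact Set.Nonempty.smul_set hne

theorem line_nonempty {r s : Ω} (hne : (pairSyl p G r s).Nonempty) {A : Set (Sylow p G)}
    (hA : A ∈ lineSet p G r s) : A.Nonempty := by
  obtain ⟨k, rfl⟩ := hA
  exact Set.Nonempty.smul_set hne

omit h [Finite Ω] in
theorem sylIn_inter_sylAt_line {r s : Ω} {A : Set (Sylow p G)} (hA : A ∈ lineSet p G r s)
    (hne : A.Nonempty) : sylIn p (ptGen p G r) ∩ sylAt p G A = A := by
  rw [sylIn_ptGen]
  exact Set.Subset.antisymm
    (fun P hP => mem_of_le_stabilizer hne (fun Q hQ => le_stabilizer_of_mem_lineSet hA hQ) hP.2)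
    fun P hP => ⟨subset_sylAt_of_mem_lineSet hA hP, le_stabilizer_of_mem_lineSet hA hP⟩

theorem line_adm {r s : Ω} (hrs : s ≠ r) (hne : (pairSyl p G r s).Nonempty) :
    Admissible p (ptGen p G r) (lineSet p G r s) := by
  refine (h.sylGenerated r).admissible_orbit fun hle => hrs ?_
  exact (h.eq_of_sylAt_subset fun P hP => (h.mem_of_le_stabilizer_line hne (mem_lineSet_self r s)
    ((le_sylGen hP).trans hle)).2).symm

theorem line_separated {r s : Ω} (hne : (pairSyl p G r s).Nonempty) :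
    Separated p (ptGen p G r) (lineSet p G r s) := by
  intro A B e
  have := ((h.sylGenerated r).sylAt_orbit_eq_iff (α := Set (Sylow p G)) A B).1 e
  rw [sylIn_inter_sylAt_line A.2 (h.line_nonempty hne A.2),
    sylIn_inter_sylAt_line B.2 (h.line_nonempty hne B.2)] at this
  exact Subtype.ext this

theorem line_fixNum {r s : Ω} (hne : (pairSyl p G r s).Nonempty) {P : Sylow p G}
    (hP : P ∈ sylAt p G r) :
    fixNum p (ptGen p G r) (lineSet p G r s) = {A | A ∈ lineSet p G r s ∧ P ∈ A}.ncard := by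
  rw [(h.sylGenerated r).fixNum_orbit (α := Set (Sylow p G)) (le_sylGen hP)]
  congr 1
  ext A
  exact and_congr_right fun hA =>
    ⟨fun hle => h.mem_of_le_stabilizer_line hne hA hle,
      fun hPA => le_stabilizer_of_mem_lineSet hA hPA⟩

theorem card_lineSet_le {r s : Ω} (hrs : s ≠ r) :
    Nat.card (lineSet p G r s) ≤ Nat.card Ω := by
  refine le_trans ?_ (h.orbit_lt hrs).le
  refine Nat.card_le_card_of_surjective
    (fun v => ⟨pairSyl p G r v.1, pairSyl_mem_lineSet v.2⟩) ?_
  rintro ⟨A, k, rfl⟩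
  exact ⟨⟨(k : G) • s, k, rfl⟩, Subtype.ext (pairSyl_smul_right (ptGen_le_stabilizer r k.2) s)⟩

theorem natPair_primitive {j : ℕ} {r s : Ω} (hN : NatPair p G j r s) :
    IsPreprimitive (ptGen p G r) (lineSet p G r s) := by
  have hne := h.natPair_nonempty hN
  obtain ⟨P, hP⟩ := h.sylAt_nonempty r
  have hf : fixNum p (ptGen p G r) (lineSet p G r s) = j := by
    rw [h.line_fixNum hne hP, hN.fix P hP]
  refine (h.line_adm hN.ne hne).isPreprimitive (h.ih.mono (h.card_lineSet_le hN.ne))
    (by rw [hf]; exact hN.one_le) (h.line_separated hne) ?_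
  have e := mul_slack (p := p) (ptGen p G r) (lineSet p G r s)
  rw [hf, Nat.card_coe_set_eq, hN.card] at e
  push_cast at e
  have hp : (0 : ℤ) < p := by exact_mod_cast (Fact.out : p.Prime).pos
  have : slack p (ptGen p G r) (lineSet p G r s) = (p : ℤ) - 1 - j := by
    apply mul_left_cancel₀ hp.ne'
    rw [e]; ring
  linarith [Int.natCast_nonneg j]

theorem natPair_transitive {j : ℕ} {r s : Ω} (hN : NatPair p G j r s) :
    IsMultiplyPretransitive (ptGen p G r) (lineSet p G r s) (j + 1) := by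
  classical
  have hne := h.natPair_nonempty hN
  have hprim := h.natPair_primitive hN
  obtain ⟨P, hP⟩ := h.sylAt_nonempty r
  set S : Set (lineSet p G r s) := {A | P ∈ A.1} with hSdef
  have hS : S.ncard = j := by
    rw [← hN.fix P hP, ← Set.ncard_image_of_injective _ Subtype.val_injective]
    congr 1
    ext A
    exact ⟨fun ⟨B, hB, e⟩ => e ▸ ⟨B.2, hB⟩, fun hA => ⟨⟨A, hA.1⟩, hA.2, rfl⟩⟩
  have hcard : Nat.card (lineSet p G r s) = p + j := by rw [Nat.card_coe_set_eq, hN.card]
  have hPX : (P : Subgroup G) ≤ ptGen p G r := le_sylGen hP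
  -- the `P`-orbit of a line outside `S` fills the complement
  have hfixS : ∀ A ∈ S, ∀ g : ptGen p G r, (g : G) ∈ P → g • A = A := fun A hA g hg =>
    Subtype.ext (mem_stabilizer_iff.1 (le_stabilizer_of_mem_lineSet A.2 hA hg))
  set P' : Subgroup (ptGen p G r) := (P : Subgroup G).subgroupOf (ptGen p G r) with hP'def
  have hP'fix : P' ≤ fixingSubgroup (ptGen p G r) S := fun g hg => by
    rw [mem_fixingSubgroup_iff]
    exact fun A hA => hfixS A hA g hg
  have hpg : IsPGroup p P' := P.2.of_equiv (Subgroup.subgroupOfEquivOfLe hPX).symm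
  have horb : ∀ A, A ∉ S → orbit P' A = Sᶜ := by
    intro A hA
    have hsub : orbit P' A ⊆ Sᶜ := by
      rintro _ ⟨g, rfl⟩ hmem
      apply hA
      have e := hfixS _ hmem ((g : ptGen p G r)⁻¹) (inv_mem g.2)
      change (g : ptGen p G r)⁻¹ • (g : ptGen p G r) • A = (g : ptGen p G r) • A at e
      rw [inv_smul_smul] at e
      rwa [e]
    refine Set.eq_of_subset_of_ncard_le hsub ?_
    have hc : Sᶜ.ncard = p := by
      have := Set.ncard_add_ncard_compl S
      omega
    obtain ⟨e, he⟩ := hpg.card_orbit A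
    rw [Nat.card_coe_set_eq] at he
    rw [hc, he]
    rcases Nat.eq_zero_or_pos e with h0 | h0
    · exfalso
      rw [h0, pow_zero, Set.ncard_eq_one] at he
      obtain ⟨B, hB⟩ := he
      apply hA
      refine h.mem_of_le_stabilizer_line hne A.2 fun g hg => ?_
      have h1 : (⟨⟨g, hPX hg⟩, hg⟩ : P') • A ∈ orbit P' A := mem_orbit _ _
      have h2 : A ∈ orbit P' A := mem_orbit_self A
      rw [hB, Set.mem_singleton_iff] at h1 h2
      exact mem_stabilizer_iff.2 (congrArg Subtype.val (h1.trans h2.symm))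
    · exact Nat.le_self_pow h0.ne' p
  have htr : IsPretransitive (fixingSubgroup (ptGen p G r) S)
      (SubMulAction.ofFixingSubgroup (ptGen p G r) S) := by
    refine ⟨fun A B => ?_⟩
    have hA : A.1 ∉ S := A.2
    have hB : B.1 ∈ orbit P' A.1 := by rw [horb A.1 hA]; exact B.2
    obtain ⟨g, hg⟩ := hB
    exact ⟨⟨g.1, hP'fix g.2⟩, Subtype.ext hg⟩
  have hprime : IsPreprimitive (fixingSubgroup (ptGen p G r) S)
      (SubMulAction.ofFixingSubgroup (ptGen p G r) S) := by
    refine IsPreprimitive.of_prime_card ?_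
    have : Nat.card (SubMulAction.ofFixingSubgroup (ptGen p G r) S) = p := by
      have e : Nat.card (SubMulAction.ofFixingSubgroup (ptGen p G r) S) = Sᶜ.ncard :=
        Nat.card_coe_set_eq (Sᶜ : Set (lineSet p G r s))
      have := Set.ncard_add_ncard_compl S
      omega
    rw [this]
    exact Fact.out
  obtain ⟨m, hm⟩ := Nat.exists_eq_add_of_le' hN.one_le
  have := hprim.isMultiplyPreprimitive (s := S) (n := m) (by rw [hS, hm]) (by
    have := (Fact.out : p.Prime).two_le
    omega) hprime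
  have e : m + 2 = j + 1 := by omega
  rw [e] at this
  exact IsMultiplyPreprimitive.isMultiplyPretransitive _ _ _

/-- Any injective map on at most `j + 1` lines is induced by `ptGen r`. -/
theorem exists_smul_lines {j : ℕ} {r s : Ω} (hN : NatPair p G j r s)
    (T : Finset (Set (Sylow p G))) (hT : ∀ A ∈ T, A ∈ lineSet p G r s) (hcard : T.card ≤ j + 1)
    (f : Set (Sylow p G) → Set (Sylow p G)) (hf : ∀ A ∈ T, f A ∈ lineSet p G r s)
    (hinj : Set.InjOn f T) : ∃ g ∈ ptGen p G r, ∀ A ∈ T, g • A = f A := by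
  classical
  let F : lineSet p G r s → lineSet p G r s := fun A =>
    if hA : A.1 ∈ T then ⟨f A.1, hf _ hA⟩ else A
  obtain ⟨g, hg⟩ := SmallGroups.exists_smul_eq_on_finset (h.natPair_transitive hN)
    (by rw [Nat.card_coe_set_eq, hN.card]; have := (Fact.out : p.Prime).two_le; omega)
    (T.subtype (· ∈ lineSet p G r s))
    (by rw [Finset.card_subtype, Finset.filter_true_of_mem hT]; exact hcard) F (by
      intro A hA B hB e
      simp only [Finset.mem_coe, Finset.mem_subtype] at hA hB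
      simp only [F, dif_pos hA, dif_pos hB] at e
      exact Subtype.ext (hinj hA hB (congrArg Subtype.val e)))
  refine ⟨g, g.2, fun A hA => ?_⟩
  have := congrArg Subtype.val (hg ⟨A, hT A hA⟩ (by simpa using hA))
  simp only [F, dif_pos hA] at this
  exact this

/-- Some Sylow subgroup at `r` fixes up to `j` given lines and moves another given one. -/
theorem exists_fixing_lines {j : ℕ} {r s : Ω} (hN : NatPair p G j r s)
    (T : Finset (Set (Sylow p G))) (hT : ∀ A ∈ T, A ∈ lineSet p G r s) (hcard : T.card ≤ j)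
    {C : Set (Sylow p G)} (hC : C ∈ lineSet p G r s) (hCT : C ∉ T) :
    ∃ P ∈ sylAt p G r, (∀ A ∈ T, P ∈ A) ∧ P ∉ C := by
  classical
  obtain ⟨P₀, hP₀⟩ := h.sylAt_nonempty r
  set S := (Set.toFinite {A | A ∈ lineSet p G r s ∧ P₀ ∈ A}).toFinset with hSdef
  have hS : S.card = j := by rw [← Set.ncard_eq_toFinset_card _, hN.fix P₀ hP₀]
  obtain ⟨T₀, hT₀, hT₀c⟩ := Finset.exists_subset_card_eq (hcard.trans hS.ge)
  obtain ⟨C₀, hC₀, hC₀'⟩ : ∃ C₀ ∈ lineSet p G r s, P₀ ∉ C₀ := by
    by_contra hall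
    push Not at hall
    have e : {A | A ∈ lineSet p G r s ∧ P₀ ∈ A} = lineSet p G r s :=
      Set.ext fun A => ⟨fun hA => hA.1, fun hA => ⟨hA, hall A hA⟩⟩
    have := hN.fix P₀ hP₀
    rw [e, hN.card] at this
    have := (Fact.out : p.Prime).pos
    omega
  have hS' : ∀ A ∈ T₀, A ∈ lineSet p G r s ∧ P₀ ∈ A := fun A hA => by
    simpa [S] using hT₀ hA
  have hC₀T : C₀ ∉ T₀ := fun hm => hC₀' (hS' _ hm).2
  have e := Finset.equivOfCardEq hT₀c
  let f : Set (Sylow p G) → Set (Sylow p G) := fun A => if hA : A ∈ T₀ then (e ⟨A, hA⟩).1 else C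
  obtain ⟨g, hg, hgf⟩ := h.exists_smul_lines hN (insert C₀ T₀) (by
      intro A hA
      rcases Finset.mem_insert.1 hA with rfl | hA
      · exact hC₀
      · exact (hS' A hA).1)
    (by rw [Finset.card_insert_of_notMem hC₀T, hT₀c]; omega) f (by
      intro A hA
      by_cases hA' : A ∈ T₀
      · simp only [f, dif_pos hA']; exact hT _ (e ⟨A, hA'⟩).2
      · simp only [f, dif_neg hA']; exact hC) (by
      intro A hA B hB hAB
      simp only [Finset.coe_insert, Set.mem_insert_iff, Finset.mem_coe] at hA hB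
      simp only [f] at hAB
      by_cases hA' : A ∈ T₀ <;> by_cases hB' : B ∈ T₀ <;>
        simp only [hA', hB', dif_pos, dif_neg, not_false_eq_true] at hAB
      · exact congrArg Subtype.val (e.injective (Subtype.ext hAB))
      · exact absurd (hAB ▸ (e ⟨A, hA'⟩).2) hCT
      · exact absurd (hAB.symm ▸ (e ⟨B, hB'⟩).2) hCT
      · rcases hA with rfl | hA
        · rcases hB with rfl | hB
          · rfl
          · exact absurd hB hB'
        · exact absurd hA hA')
  refine ⟨g • P₀, ?_, fun A hA => ?_, fun hmem => ?_⟩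
  · rw [← sylIn_ptGen]; exact smul_mem_sylIn hg (le_sylGen hP₀)
  · have hA' : g • (e.symm ⟨A, hA⟩).1 = A := by
      rw [hgf _ (Finset.mem_insert_of_mem (e.symm ⟨A, hA⟩).2)]
      simp [f, (e.symm ⟨A, hA⟩).2]
    rw [← hA']
    exact Set.smul_mem_smul_set (hS' _ (e.symm ⟨A, hA⟩).2).2
  · have hC' : g • C₀ = C := by
      rw [hgf _ (Finset.mem_insert_self _ _)]
      simp [f, hC₀T]
    rw [← hC', Set.smul_mem_smul_set_iff] at hmem
    exact hC₀' hmem

end Small

end CfsgLib.SylowFix
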