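import Cfsg.Agent.Lib.SylowFix.Triangle

/-!
The primitive case without natural pairs of parameter `p - 1`: the action is natural or a residue
action.
-/

set_option autoImplicit false

open MulAction
open scoped Pointwise

namespace CfsgLib.SylowFix

universe u

variable {p : ℕ} {G : Type u} [Group G] {Ω : Type u} [MulAction G Ω]

variable (p G) in
/-- The points of the bundle of `s` at `r`. -/
def bundle (r s : Ω) : Set Ω := {v | pairSyl p G r v ∈ lineSet p G r s}

theorem orbRep_congr {K : Subgroup G} [Finite Ω] {a b : Ω} (e : orbit K a = orbit K b) :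
    orbRep K a = orbRep K b := by
  simp only [orbRep, e]

variable [Finite G] [Finite Ω] [Fact p.Prime]

theorem Admissible.rel_smul (hA : Admissible p G Ω) {j : ℕ} {r s : Ω} (g : G)
    (hR : Rel p G j r s) : Rel p G j (g • r) (g • s) := by
  rw [Rel, ← smul_pairSyl, Set.ncard_smul_set, hA.ncard_sylAt_eq (g • r) r]
  exact hR

namespace Small

variable (h : Small p G Ω)
include h

theorem ne_of_mem_reps {r t : Ω} (ht : t ∈ orbReps (ptGen p G r) ({r}ᶜ : Set Ω)) : t ≠ r :=
  mem_of_mem_orbReps (h.compl_invariant r) ht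

theorem reps_nonempty (r : Ω) : (orbReps (ptGen p G r) ({r}ᶜ : Set Ω)).Nonempty := by
  classical
  have := h.adm.two
  have : Nontrivial Ω := Finite.one_lt_card_iff_nontrivial.1 (by omega)
  obtain ⟨s, hs⟩ := exists_ne r
  exact ⟨_, Finset.mem_image_of_mem _ (show s ∈ (Set.toFinite ({r}ᶜ : Set Ω)).toFinset by
    simpa using hs)⟩

omit [Finite Ω] in
theorem int_one_le : (1 : ℤ) ≤ (p : ℤ) - 1 := by
  have : (2 : ℤ) ≤ p := by exact_mod_cast (Fact.out : p.Prime).two_le
  linarith

/-- An orbit without fixed points that is natural carries the whole slack. -/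
theorem slack_of_free {r s : Ω} (hs : s ≠ r)
    (hf : fixNum p (ptGen p G r) (orbit (ptGen p G r) s) = 0)
    (hk : cycNum p (ptGen p G r) (orbit (ptGen p G r) s) = 1) :
    slack p (ptGen p G r) (orbit (ptGen p G r) s) = (p : ℤ) - 1 ∧
      ∀ t ∈ orbReps (ptGen p G r) ({r}ᶜ : Set Ω),
        t ≠ orbRep (ptGen p G r) s → slack p (ptGen p G r) (orbit (ptGen p G r) t) = 0 := by
  classical
  have e : slack p (ptGen p G r) (orbit (ptGen p G r) s) = (p : ℤ) - 1 := by
    simp [slack, hf, hk]
  refine ⟨e, fun t ht hne => ?_⟩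
  have hmem : orbRep (ptGen p G r) s ∈ orbReps (ptGen p G r) ({r}ᶜ : Set Ω) :=
    Finset.mem_image_of_mem _ (by simpa using hs)
  have hsum := h.sum_slack r
  rw [← Finset.add_sum_erase _ _ hmem,
    h.slack_orbit_congr (orbit_orbRep (K := ptGen p G r) s), e] at hsum
  have hle := h.small
  have h0 : ∑ x ∈ (orbReps (ptGen p G r) ({r}ᶜ : Set Ω)).erase (orbRep (ptGen p G r) s),
      slack p (ptGen p G r) (orbit (ptGen p G r) x) ≤ 0 := by linarith
  refine le_antisymm (le_trans ?_ h0) (h.slack_orbit_nonneg (h.ne_of_mem_reps ht))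
  exact Finset.single_le_sum
    (fun x hx => h.slack_orbit_nonneg (h.ne_of_mem_reps (Finset.mem_of_mem_erase hx)))
    (Finset.mem_erase.2 ⟨hne, ht⟩)

/-- An orbit with slack zero is a natural pair with parameter `p - 1`. -/
theorem exact_of_slack_eq_zero {r s : Ω} (hs : s ≠ r)
    (h0 : slack p (ptGen p G r) (orbit (ptGen p G r) s) = 0) :
    NatPair p G (p - 1) r s := by
  have hN : Natural p (ptGen p G r) (orbit (ptGen p G r) s) := by
    rcases h.natural_or_residue hs with hN | ⟨a, ha, -⟩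
    · exact hN
    · rw [h0] at ha
      exact absurd ha (not_lt.2 (Int.natCast_nonneg a))
  have hk := (h.orbit_adm hs).cycNum_pos
  have hne : (pairSyl p G r s).Nonempty := by
    rw [← h.fixNum_pos_iff hs]
    by_contra hf
    rw [Nat.pos_iff_ne_zero, not_not] at hf
    rw [slack, hf] at h0
    push_cast at h0
    have : (0 : ℤ) < ((p : ℤ) - 1) * cycNum p (ptGen p G r) (orbit (ptGen p G r) s) :=
      mul_pos (by linarith [h.int_one_le]) (by exact_mod_cast hk)
    linarith
  obtain ⟨j, hj, hR⟩ := h.natPair_of_natural hs hne hN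
  have e := h.slack_of_rel hs hR
  rw [h0] at e
  rcases mul_eq_zero.1 e.symm with e1 | e1
  · have hj' : p - 1 = j := by have := hj.lt; omega
    rw [hj']
    exact hj
  · have : cycNum p (ptGen p G r) (orbit (ptGen p G r) s) = 0 := by exact_mod_cast e1
    omega

/-- `Rel (p - 1)` pairs are natural. -/
theorem relNatural_exact : RelNatural p G Ω (p - 1) := by
  intro r s hs hR
  refine h.exact_of_slack_eq_zero hs ?_
  rw [h.slack_of_rel hs hR]
  have : ((p - 1 : ℕ) : ℤ) = (p : ℤ) - 1 := by
    have := (Fact.out : p.Prime).pos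
    omega
  rw [this, sub_self, zero_mul]

/-- Without natural pairs the action is natural or a residue action. -/
theorem good_of_no_natPair (hnat : ∀ r s : Ω, ∀ j, ¬ NatPair p G j r s) :
    Natural p G Ω ∨ Residue p G Ω := by
  classical
  obtain ⟨r⟩ : Nonempty Ω := (Nat.card_pos_iff.1 (by have := h.adm.two; omega)).1
  set T := orbReps (ptGen p G r) ({r}ᶜ : Set Ω) with hT
  by_cases hfree : ∃ t ∈ T, fixNum p (ptGen p G r) (orbit (ptGen p G r) t) = 0 ∧
      cycNum p (ptGen p G r) (orbit (ptGen p G r) t) = 1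
  · obtain ⟨t, ht, hf, hk⟩ := hfree
    obtain ⟨-, h0⟩ := h.slack_of_free (h.ne_of_mem_reps ht) hf hk
    obtain ⟨y, hy, rfl⟩ := Finset.mem_image.1 ht
    have hTt : T = {orbRep (ptGen p G r) y} := by
      refine Finset.eq_singleton_iff_unique_mem.2 ⟨ht, fun x hx => ?_⟩
      by_contra hne
      have e : orbRep (ptGen p G r) (orbRep (ptGen p G r) y) = orbRep (ptGen p G r) y := by
        exact orbRep_congr (orbit_orbRep (K := ptGen p G r) y)
      exact hnat r x _ (h.exact_of_slack_eq_zero (h.ne_of_mem_reps hx) (h0 x hx (by rwa [e])))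
    have e := h.sum_cycNum_eq r
    rw [← hT, hTt, Finset.sum_singleton, hk] at e
    refine Or.inl (Or.inr ⟨h.fpos, fun v => ?_⟩)
    rw [← e, Set.ncard_eq_one]
    exact ⟨v, Set.ext fun w => ⟨fun hw => h.sep hw, fun hw => congrArg (sylAt p G) hw⟩⟩
  push Not at hfree
  have hres : ∀ t ∈ T, Residue p (ptGen p G r) (orbit (ptGen p G r) t) := by
    intro t ht
    rcases h.natural_or_residue (h.ne_of_mem_reps ht) with hN | hR
    · exfalso
      rcases hN with ⟨hf, hk⟩ | hN'
      · exact hfree t ht hf hk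
      · obtain ⟨j, hj, -⟩ := h.natPair_of_natural (h.ne_of_mem_reps ht)
          ((h.fixNum_pos_iff (h.ne_of_mem_reps ht)).1 hN'.1) (Or.inr hN')
        exact hnat r t j hj
    · exact hR
  choose a ha hd using hres
  refine Or.inr (residue_of_le h.adm h.fpos (a := ∑ t ∈ T.attach, a t.1 t.2) ?_ ?_)
  · have e := h.sum_slack r
    rw [← hT, ← Finset.sum_attach] at e
    have h1 : ∑ t ∈ T.attach, ((a t.1 t.2 : ℤ) + 1) ≤ ∑ t ∈ T.attach,
        slack p (ptGen p G r) (orbit (ptGen p G r) t.1) :=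
      Finset.sum_le_sum fun t _ => ha t.1 t.2
    rw [Finset.sum_add_distrib, Finset.sum_const, Finset.card_attach, e] at h1
    have : (1 : ℤ) ≤ T.card := by exact_mod_cast Finset.Nonempty.card_pos (h.reps_nonempty r)
    push_cast at h1 ⊢
    simp only [nsmul_eq_mul, mul_one] at h1
    linarith
  · rw [← h.sum_cycNum_eq r, ← hT, ← Finset.sum_attach, ← Finset.sum_add_distrib]
    exact Finset.dvd_sum fun t _ => hd t.1 t.2

/-- One residue orbit with `cycNum ≤ slack` gives a residue action, if every natural orbit has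
`cycNum ≤ slack`. -/
theorem residue_of_small_residue {r s : Ω} (hs : s ≠ r)
    (hR : Residue p (ptGen p G r) (orbit (ptGen p G r) s))
    (hks : (cycNum p (ptGen p G r) (orbit (ptGen p G r) s) : ℤ) ≤
      slack p (ptGen p G r) (orbit (ptGen p G r) s))
    (hnat : ∀ t, t ≠ r → Natural p (ptGen p G r) (orbit (ptGen p G r) t) →
      (cycNum p (ptGen p G r) (orbit (ptGen p G r) t) : ℤ) ≤
        slack p (ptGen p G r) (orbit (ptGen p G r) t)) :
    Residue p G Ω := by
  classical
  set T := orbReps (ptGen p G r) ({r}ᶜ : Set Ω) with hT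
  set t₀ := orbRep (ptGen p G r) s
  have ht₀ : t₀ ∈ T := Finset.mem_image_of_mem _ (by simpa using hs)
  set J := fun t : Ω => slack p (ptGen p G r) (orbit (ptGen p G r) t)
  set k := fun t : Ω => cycNum p (ptGen p G r) (orbit (ptGen p G r) t)
  have eJ : J t₀ = J s := h.slack_orbit_congr (orbit_orbRep (K := ptGen p G r) s)
  have ek : k t₀ = k s := by
    obtain ⟨P, hP⟩ := h.sylAt_nonempty r
    simp only [k, cycNum, Nat.card_coe_set_eq,
      (h.sylGenerated r).fixNum_orbit (le_sylGen hP), t₀, orbit_orbRep (K := ptGen p G r)]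
  -- a weight for every other orbit
  have hw : ∀ t ∈ T, ∃ w : ℤ, (p : ℤ) ∣ (k t : ℤ) + w ∧ -(J t) ≤ w ∧ w ≤ J t := by
    intro t ht
    have htr := h.ne_of_mem_reps ht
    rcases h.natural_or_residue htr with hN | ⟨a, ha, hd⟩
    · exact ⟨-(k t : ℤ), by simp, neg_le_neg (hnat t htr hN),
        le_trans (neg_nonpos.2 (Int.natCast_nonneg _)) (h.slack_orbit_nonneg htr)⟩
    · exact ⟨a, by exact_mod_cast hd,
        le_trans (neg_nonpos.2 (h.slack_orbit_nonneg htr)) (Int.natCast_nonneg a), ha.le⟩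
  choose! w hw1 hw2 hw3 using hw
  obtain ⟨a₀, ha₀, hd₀⟩ := hR
  change (a₀ : ℤ) < J s at ha₀
  change (k s : ℤ) ≤ J s at hks
  have hk1 : 1 ≤ k s := (h.orbit_adm hs).cycNum_pos
  have hpk : p ≤ k s + a₀ := Nat.le_of_dvd (by omega) hd₀
  have hsum := h.sum_slack r
  rw [← hT, ← Finset.add_sum_erase _ _ ht₀] at hsum
  change J t₀ + ∑ t ∈ T.erase t₀, J t = slack p G Ω + 1 at hsum
  rw [eJ] at hsum
  set w₁ := ∑ t ∈ T.erase t₀, w t
  have hlo : -(∑ t ∈ T.erase t₀, J t) ≤ w₁ := by
    rw [← Finset.sum_neg_distrib]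
    exact Finset.sum_le_sum fun t ht => hw2 t (Finset.mem_of_mem_erase ht)
  have hhi : w₁ ≤ ∑ t ∈ T.erase t₀, J t :=
    Finset.sum_le_sum fun t ht => hw3 t (Finset.mem_of_mem_erase ht)
  have hsm := h.small
  have hpk' : (p : ℤ) ≤ (k s : ℤ) + a₀ := by exact_mod_cast hpk
  have hnn : 0 ≤ (a₀ : ℤ) + w₁ := by linarith
  obtain ⟨a, ha⟩ := Int.eq_ofNat_of_zero_le hnn
  refine residue_of_le h.adm h.fpos (a := a) (by rw [← ha]; linarith) ?_
  have hd : (p : ℤ) ∣ (cycNum p G Ω : ℤ) + ((a₀ : ℤ) + w₁) := by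
    rw [← h.sum_cycNum_eq r, ← hT, ← Finset.add_sum_erase _ _ ht₀]
    change (p : ℤ) ∣ ((k t₀ + ∑ t ∈ T.erase t₀, k t : ℕ) : ℤ) + ((a₀ : ℤ) + w₁)
    rw [ek]
    push_cast
    rw [add_add_add_comm]
    refine dvd_add (by exact_mod_cast hd₀) ?_
    rw [← Finset.sum_add_distrib]
    exact Finset.dvd_sum fun t ht => hw1 t (Finset.mem_of_mem_erase ht)
  rw [ha] at hd
  exact_mod_cast hd

/-- `Rel j` holds between all points if it cannot drop to `j - 1`. -/
theorem rel_all {j : ℕ} (hRN : RelNatural p G Ω j)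
    (hnoind : ∀ s t : Ω, t ≠ s → ¬ Rel p G (j - 1) s t) {r₀ s₀ : Ω} (hN₀ : NatPair p G j r₀ s₀) :
    ∀ r s : Ω, s ≠ r → Rel p G j r s := by
  -- `Rel j` is an equivalence relation
  have hclose : ∀ r s t : Ω, s ≠ r → t ≠ r → t ≠ s → Rel p G j r s → Rel p G j r t →
      Rel p G j s t := by
    intro r s t hsr htr hts hrs hrt
    have hN := hRN r s hsr hrs
    by_cases hb : pairSyl p G r t ∈ lineSet p G r s
    · by_cases hl : pairSyl p G r t = pairSyl p G r s
      · rw [Rel, h.line_eq_three hRN hN hts hl]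
        exact h.rel_comm.1 hrs
      · exact rel_of_mem_lineSet (h.rel_comm.1 hrs)
          ((h.triangle_same hRN hN hts hb hl).resolve_right (hnoind s t hts))
    · exact h.triangle_diff hRN hN hts htr hrt hb
  have hprim := h.isPreprimitive
  set B : Set Ω := {v | v = r₀ ∨ Rel p G j r₀ v} with hB
  have hcl : ∀ x ∈ B, ∀ y ∈ B, y ≠ x → Rel p G j x y := by
    intro x hx y hy hyx
    rcases eq_or_ne x r₀ with rfl | hx0
    · rcases hy with rfl | hy
      · exact absurd rfl hyx
      · exact hy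
    rcases eq_or_ne y r₀ with rfl | hy0
    · exact h.rel_comm.1 (hx.resolve_left hx0)
    exact hclose r₀ x y hx0 hy0 hyx (hx.resolve_left hx0) (hy.resolve_left hy0)
  have hin : ∀ x ∈ B, ∀ y, Rel p G j x y → y ∈ B := by
    intro x hx y hy
    rcases eq_or_ne y r₀ with rfl | hy0
    · exact Or.inl rfl
    rcases eq_or_ne x r₀ with rfl | hx0
    · exact Or.inr hy
    rcases eq_or_ne y x with rfl | hyx
    · exact hx
    exact Or.inr (hclose x r₀ y hx0.symm hyx hy0 (h.rel_comm.1 (hx.resolve_left hx0)) hy)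
  have hblock : IsBlock G B := by
    rw [isBlock_iff_smul_eq_of_mem]
    intro g a ha hga
    ext x
    rw [Set.mem_smul_set_iff_inv_smul_mem]
    rcases eq_or_ne x (g • a) with rfl | hxa
    · simp [ha, hga]
    have hxa' : g⁻¹ • x ≠ a := fun e => hxa (by rw [← e, smul_inv_smul])
    constructor
    · intro hx
      refine hin _ hga x ?_
      have := h.adm.rel_smul g (hcl a ha _ hx hxa')
      rwa [smul_inv_smul] at this
    · intro hx
      refine hin a ha _ ?_
      have := h.adm.rel_smul g⁻¹ (hcl _ hga x hx hxa)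
      rwa [inv_smul_smul] at this
  rcases hprim.isTrivialBlock_of_isBlock hblock with hs | hu
  · exact absurd (hs (Or.inr (h.rel_of_natPair hN₀)) (Or.inl rfl)) hN₀.ne
  · intro r s hs
    exact hcl r (hu ▸ Set.mem_univ r) s (hu ▸ Set.mem_univ s) hs

/-- The case where some pairs are natural, none with parameter `p - 1`. -/
theorem good_of_no_exact (hk : 2 ≤ cycNum p G Ω)
    (hex : ∀ r s : Ω, ¬ NatPair p G (p - 1) r s) (hnat : ∃ (r s : Ω) (j : ℕ), NatPair p G j r s) :
    Residue p G Ω := by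
  classical
  have hfree : ∀ r s : Ω, s ≠ r → fixNum p (ptGen p G r) (orbit (ptGen p G r) s) = 0 →
      cycNum p (ptGen p G r) (orbit (ptGen p G r) s) ≠ 1 := by
    intro r s hs hf hk1
    obtain ⟨-, h0⟩ := h.slack_of_free hs hf hk1
    have hT : orbReps (ptGen p G r) ({r}ᶜ : Set Ω) = {orbRep (ptGen p G r) s} := by
      refine Finset.eq_singleton_iff_unique_mem.2
        ⟨Finset.mem_image_of_mem _ (by simpa using hs), fun x hx => ?_⟩
      by_contra hne
      exact hex r x (h.exact_of_slack_eq_zero (h.ne_of_mem_reps hx) (h0 x hx hne))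
    have e := h.sum_cycNum_eq r
    rw [hT, Finset.sum_singleton] at e
    obtain ⟨P, hP⟩ := h.sylAt_nonempty r
    have e2 : cycNum p (ptGen p G r) (orbit (ptGen p G r) (orbRep (ptGen p G r) s)) =
        cycNum p (ptGen p G r) (orbit (ptGen p G r) s) := by
      simp only [cycNum, Nat.card_coe_set_eq,
        (h.sylGenerated r).fixNum_orbit (le_sylGen hP), orbit_orbRep]
    rw [e2, hk1] at e
    omega
  have hkJ : ∀ r t : Ω, t ≠ r → Natural p (ptGen p G r) (orbit (ptGen p G r) t) →
      (cycNum p (ptGen p G r) (orbit (ptGen p G r) t) : ℤ) ≤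
        slack p (ptGen p G r) (orbit (ptGen p G r) t) := by
    intro r t ht hN
    rcases hN with ⟨hf, hk1⟩ | hN'
    · exact absurd hk1 (hfree r t ht hf)
    obtain ⟨j, hj, hR⟩ := h.natPair_of_natural ht ((h.fixNum_pos_iff ht).1 hN'.1) (Or.inr hN')
    rw [h.slack_of_rel ht hR]
    have h1 : j ≠ p - 1 := fun e => hex r t (e ▸ hj)
    have h2 := hj.lt
    refine le_mul_of_one_le_left (Int.natCast_nonneg _) ?_
    omega
  by_cases hsmall : ∃ r s : Ω, s ≠ r ∧ Residue p (ptGen p G r) (orbit (ptGen p G r) s) ∧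
      (cycNum p (ptGen p G r) (orbit (ptGen p G r) s) : ℤ) ≤
        slack p (ptGen p G r) (orbit (ptGen p G r) s)
  · obtain ⟨r, s, hs, hR, hle⟩ := hsmall
    exact h.residue_of_small_residue hs hR hle (hkJ r)
  push Not at hsmall
  exfalso
  -- the smallest parameter
  have hex' : ∃ j, ∃ r s : Ω, NatPair p G j r s := by
    obtain ⟨r, s, j, hj⟩ := hnat; exact ⟨j, r, s, hj⟩
  set j := Nat.find hex' with hjdef
  obtain ⟨r₀, s₀, hN₀⟩ := Nat.find_spec hex'
  rw [← hjdef] at hN₀
  have hj1 := hN₀.one_le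
  have hjp : j + 2 ≤ p := by
    have h1 : j ≠ p - 1 := fun e => hex r₀ s₀ (e ▸ hN₀)
    have := hN₀.lt
    omega
  have hnatural : ∀ i, i + 2 ≤ p → ∀ r s : Ω, s ≠ r → Rel p G i r s →
      Natural p (ptGen p G r) (orbit (ptGen p G r) s) := by
    intro i hi r s hs hR
    rcases h.natural_or_residue hs with hN | hRes
    · exact hN
    · have := hsmall r s hs hRes
      rw [h.slack_of_rel hs hR] at this
      have : ((cycNum p (ptGen p G r) (orbit (ptGen p G r) s) : ℤ)) ≤
          ((p : ℤ) - 1 - i) * cycNum p (ptGen p G r) (orbit (ptGen p G r) s) :=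
        le_mul_of_one_le_left (Int.natCast_nonneg _) (by omega)
      linarith
  have hRN : RelNatural p G Ω j := by
    intro r s hs hR
    obtain ⟨i, hi, hRi⟩ := h.natPair_of_natural hs (h.nonempty_of_rel hj1 hR)
      (hnatural j hjp r s hs hR)
    have : i = j := by
      by_contra hne
      exact h.not_rel_two hne hRi hR
    exact this ▸ hi
  have hnoind : ∀ s t : Ω, t ≠ s → ¬ Rel p G (j - 1) s t := by
    intro s t ht hR
    have hN := hnatural (j - 1) (by omega) s t ht hR
    rcases hN with ⟨hf, hk1⟩ | hN'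
    · exact hfree s t ht hf hk1
    obtain ⟨i, hi, hRi⟩ := h.natPair_of_natural ht ((h.fixNum_pos_iff ht).1 hN'.1) (Or.inr hN')
    have hij : i = j - 1 := by
      by_contra hne
      exact h.not_rel_two hne hRi hR
    have := Nat.find_min' hex' ⟨s, t, hi⟩
    have := hi.one_le
    omega
  have hall := h.rel_all hRN hnoind hN₀
  -- the invariants
  obtain ⟨P, hP⟩ := h.sylAt_nonempty r₀
  have hks := h.sum_cycNum_eq r₀
  set T := orbReps (ptGen p G r₀) ({r₀}ᶜ : Set Ω) with hT
  have hJ : slack p G Ω + 1 = ((p : ℤ) - 1 - j) * cycNum p G Ω := by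
    rw [← h.sum_slack r₀, ← hks, ← hT]
    push_cast
    rw [Finset.mul_sum]
    exact Finset.sum_congr rfl fun t ht =>
      h.slack_of_rel (h.ne_of_mem_reps ht) (hall r₀ t (h.ne_of_mem_reps ht))
  have hfix : (fixNum p G Ω : ℤ) = 1 + j * cycNum p G Ω := by
    rw [slack] at hJ
    linarith
  have hfix' : fixNum p G Ω = 1 + j * cycNum p G Ω := by exact_mod_cast hfix
  rcases Nat.lt_or_ge j 2 with hj2 | hj2
  · have hj : j = 1 := by omega
    have hsm := h.small
    have hp3 : (p : ℤ) ≤ 3 := by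
      have hk' : (2 : ℤ) ≤ cycNum p G Ω := by exact_mod_cast hk
      have hjp' : (1 : ℤ) ≤ (p : ℤ) - 1 - j := by omega
      rw [hj] at hJ hjp'
      push_cast at hJ hjp'
      nlinarith
    have hp : p = 3 := by omega
    have hk2 : cycNum p G Ω = 2 := by
      rw [hj, hp] at hJ
      rw [hp] at hsm
      push_cast at hJ hsm
      have : (cycNum p G Ω : ℤ) ≤ 2 := by rw [hp]; linarith
      omega
    exact h.adm.not_dvd_fixNum h.fpos (by rw [hfix', hj, hk2, hp])
  -- every line has a single point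
  have hinj : ∀ r z v : Ω, z ≠ r → v ≠ r → pairSyl p G r v = pairSyl p G r z → v = z := by
    intro r z v hz hv e
    by_contra hvz
    have hN := hRN r z hz (hall r z hz)
    obtain ⟨A, hA, hAne⟩ := Set.exists_ne_of_one_lt_ncard (s := lineSet p G r z)
      (by rw [hN.card]; have := (Fact.out : p.Prime).two_le; omega) (pairSyl p G r z)
    obtain ⟨k, hkA⟩ := hA
    set b := (k : G) • z with hb
    have hpb : pairSyl p G r b = A := by
      rw [← hkA, hb]; exact pairSyl_smul_right (ptGen_le_stabilizer r k.2) z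
    have hbr : b ≠ r := h.orbit_subset hz ⟨k, rfl⟩
    have hzb : pairSyl p G r b ∈ lineSet p G r z := by rw [hpb]; exact ⟨k, hkA⟩
    have hNb := hRN r b hbr (hall r b hbr)
    have hzin : pairSyl p G r z ∈ lineSet p G r b := by
      rw [lineSet_eq hzb]; exact mem_lineSet_self r z
    have hcoupled : ∀ y : Ω, y ≠ r → pairSyl p G r y = pairSyl p G r z →
        pairSyl p G b y ∈ lineSet p G b r := by
      intro y hy hyz
      have hyb : y ≠ b := fun e => hAne (by rw [← hpb, ← e, hyz])
      exact (h.triangle_same hRN hNb hyb (by rw [hyz]; exact hzin)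
        (by rw [hyz, hpb]; exact hAne.symm)).resolve_right (hnoind b y hyb)
    exact h.no_closed_long_line hRN hNb hj2 (fun e' => hvz e'.symm) hzin
      (by rw [hpb]; exact hAne.symm) e (hcoupled z hz rfl) (hcoupled v hv e)
  -- a bundle and its centre
  set W : Set Ω := insert r₀ (bundle p G r₀ s₀) with hW
  have hbcard : ∀ r s : Ω, s ≠ r → (bundle p G r s).ncard = p + j := by
    intro r s hs
    have hN := hRN r s hs (hall r s hs)
    rw [← hN.card]
    refine Set.ncard_congr (fun v _ => pairSyl p G r v) (fun v hv => hv) ?_ ?_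
    · intro v v' hv hv' e
      exact hinj r v' v (h.ne_of_mem_lineSet hs hv') (h.ne_of_mem_lineSet hs hv) e
    · rintro _ ⟨k, rfl⟩
      exact ⟨(k : G) • s, pairSyl_mem_lineSet ⟨k, rfl⟩,
        pairSyl_smul_right (ptGen_le_stabilizer r k.2) s⟩
  have hr0 : r₀ ∉ bundle p G r₀ s₀ := fun e => h.ne_of_mem_lineSet hN₀.ne e rfl
  have hWc : W.ncard = p + j + 1 := by
    rw [hW, Set.ncard_insert_of_notMem hr0, hbcard r₀ s₀ hN₀.ne]
  -- `W` is the bundle at each of its points
  have hWb : ∀ u ∈ W, ∀ u' ∈ W, u' ≠ u → ∀ x, pairSyl p G u x ∈ lineSet p G u u' → x ∈ W := by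
    intro u hu u' hu' hne x hx
    rcases eq_or_ne u r₀ with rfl | hu0
    · right
      have hu'b : pairSyl p G u u' ∈ lineSet p G u s₀ := hu'.resolve_left hne
      show pairSyl p G u x ∈ lineSet p G u s₀
      rwa [← lineSet_eq hu'b]
    have hub : pairSyl p G r₀ u ∈ lineSet p G r₀ s₀ := hu.resolve_left hu0
    have hNu := hRN r₀ u hu0 (hall r₀ u hu0)
    -- the bundle of `r₀` at `u` is the rest of `W`
    have hsub : W \ {u} ⊆ bundle p G u r₀ := by
      rintro y ⟨hy, hyu : y ≠ u⟩
      rcases eq_or_ne y r₀ with rfl | hy0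
      · exact mem_lineSet_self u y
      have hyb : pairSyl p G r₀ y ∈ lineSet p G r₀ u := by
        rw [lineSet_eq hub]; exact hy.resolve_left hy0
      refine (h.triangle_same hRN hNu hyu hyb fun e => hyu ?_).resolve_right (hnoind u y hyu)
      exact hinj r₀ u y hu0 hy0 e
    have heq : W \ {u} = bundle p G u r₀ := Set.eq_of_subset_of_ncard_le hsub (by
      have := Set.ncard_diff_singleton_add_one hu
      rw [hbcard u r₀ hu0.symm]
      omega)
    have h1 : pairSyl p G u u' ∈ lineSet p G u r₀ := hsub ⟨hu', hne⟩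
    have h2 : x ∈ bundle p G u r₀ := by
      show pairSyl p G u x ∈ lineSet p G u r₀
      rwa [← lineSet_eq h1]
    rw [← heq] at h2
    exact h2.1
  have hWu : W = Set.univ := by
    by_contra hne
    obtain ⟨x, hx⟩ := (Set.ne_univ_iff_exists_notMem W).1 hne
    have hxW : ∀ u ∈ W, u ≠ x := fun u hu e => hx (e ▸ hu)
    -- at most `k` bundles at `x`
    set Tx := orbReps (ptGen p G x) ({x}ᶜ : Set Ω) with hTx
    set Bs := Tx.image (fun t => lineSet p G x t) with hBs
    have hBs' : ∀ u, u ≠ x → lineSet p G x u ∈ Bs := fun u hu => by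
      refine Finset.mem_image.2 ⟨orbRep (ptGen p G x) u,
        Finset.mem_image_of_mem _ (by simpa using hu), lineSet_eq (pairSyl_mem_lineSet ?_)⟩
      exact (orbit_orbRep (K := ptGen p G x) u).le (mem_orbit_self _)
    have hTk : Tx.card ≤ cycNum p G Ω := by
      rw [← h.sum_cycNum_eq x, Finset.card_eq_sum_ones]
      exact Finset.sum_le_sum fun t ht => (h.orbit_adm (h.ne_of_mem_reps ht)).cycNum_pos
    have hkp : cycNum p G Ω ≤ p - 1 := by
      have hsm := h.small
      have h1 : (cycNum p G Ω : ℤ) ≤ ((p : ℤ) - 1 - j) * cycNum p G Ω :=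
        le_mul_of_one_le_left (Int.natCast_nonneg _) (by omega)
      omega
    obtain ⟨u, hu, u', hu', huu, e⟩ := Finset.exists_ne_map_eq_of_card_lt_of_maps_to
      (s := (Set.toFinite W).toFinset) (t := Bs) (by
        rw [← Set.ncard_eq_toFinset_card, hWc]
        have := Finset.card_image_le (s := Tx) (f := fun t => lineSet p G x t)
        rw [← hBs] at this
        omega) (f := fun u => lineSet p G x u)
      (fun u hu => hBs' u (hxW u ((Set.Finite.mem_toFinset _).1 hu)))
    simp only [Set.Finite.mem_toFinset] at hu hu'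
    have hux := hxW u hu
    have hu'x := hxW u' hu'
    have hN := hRN x u hux (hall x u hux)
    have h1 : pairSyl p G x u' ∈ lineSet p G x u := by
      rw [e]
      exact mem_lineSet_self x u'
    have h2 := (h.triangle_same hRN hN huu.symm h1
      (fun e' => huu (hinj x u u' hux hu'x e').symm)).resolve_right (hnoind u u' huu.symm)
    refine hx (hWb u hu u' hu' huu.symm x ?_)
    rw [lineSet_eq h2]
    exact mem_lineSet_self u x
  have hn := card_eq_fixNum_add (p := p) (G := G) (Ω := Ω)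
  rw [← Set.ncard_univ, ← hWu, hWc, hfix'] at hn
  have : (p + j) * 1 = (p + j) * cycNum p G Ω := by rw [mul_one, add_mul]; omega
  have := Nat.eq_of_mul_eq_mul_left (by omega) this
  omega

end Small

end CfsgLib.SylowFix
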