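import Cfsg.Agent.Lib.SylowFix.Good

/-!
Orbits of subgroups generated by Sylow subgroups.

If `K` is generated by some Sylow `p`-subgroups of `G` and `x` is moved by `K`, the action of `K`
on the orbit of `x` is admissible; its invariants are read off from the action of `G`.
-/

set_option autoImplicit false

open MulAction
open scoped Pointwise

namespace CfsgLib.SylowFix

universe u v w

variable {p : ℕ} {G : Type u} [Group G] {α : Type v} [MulAction G α]

/-- The subgroup generated by a set of Sylow subgroups. -/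
def sylGen (S : Set (Sylow p G)) : Subgroup G := ⨆ P ∈ S, (P : Subgroup G)

variable (p) in
/-- The Sylow subgroups of `G` lying in `K`. -/
def sylIn (K : Subgroup G) : Set (Sylow p G) := {P | (P : Subgroup G) ≤ K}

@[simp] theorem mem_sylIn {K : Subgroup G} {P : Sylow p G} :
    P ∈ sylIn p K ↔ (P : Subgroup G) ≤ K := Iff.rfl

theorem sylGen_le_iff {S : Set (Sylow p G)} {K : Subgroup G} :
    sylGen S ≤ K ↔ ∀ P ∈ S, (P : Subgroup G) ≤ K := by
  simp [sylGen, iSup_le_iff]

theorem le_sylGen {S : Set (Sylow p G)} {P : Sylow p G} (h : P ∈ S) :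
    (P : Subgroup G) ≤ sylGen S :=
  (sylGen_le_iff.1 le_rfl) P h

variable (p) in
/-- A subgroup generated by the Sylow subgroups of `G` it contains, at least one. -/
structure SylGenerated (K : Subgroup G) : Prop where
  nonempty : (sylIn p K).Nonempty
  gen : K ≤ sylGen (sylIn p K)

theorem sylGenerated_sylGen {S : Set (Sylow p G)} (hS : S.Nonempty) :
    SylGenerated p (sylGen S) := by
  obtain ⟨P, hP⟩ := hS
  exact ⟨⟨P, le_sylGen hP⟩, sylGen_le_iff.2 fun Q hQ => le_sylGen (le_sylGen hQ)⟩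

theorem smul_mem_sylIn {K : Subgroup G} {k : G} (hk : k ∈ K) {P : Sylow p G}
    (hP : P ∈ sylIn p K) : k • P ∈ sylIn p K :=
  Subgroup.conj_smul_le_of_le hP ⟨k, hk⟩

theorem sylGen_smul (g : G) (S : Set (Sylow p G)) {K : Subgroup G}
    (h : sylGen S ≤ K) : sylGen (g • S) ≤ MulAut.conj g • K := by
  rw [sylGen_le_iff]
  rintro _ ⟨P, hP, rfl⟩
  exact Subgroup.pointwise_smul_le_pointwise_smul_iff.2 ((sylGen_le_iff.1 h) P hP)

/-- A Sylow subgroup stabilising a set of Sylow subgroups that are all contained in its stabiliser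
belongs to it. -/
theorem mem_of_le_stabilizer [Finite G] [Fact p.Prime] {A : Set (Sylow p G)} (hA : A.Nonempty)
    (hAA : ∀ P ∈ A, (P : Subgroup G) ≤ stabilizer G A) {P : Sylow p G}
    (hP : (P : Subgroup G) ≤ stabilizer G A) : P ∈ A := by
  obtain ⟨P₀, h0⟩ := hA
  obtain ⟨h, hh⟩ := MulAction.exists_smul_eq (stabilizer G A) (P₀.subtype (hAA P₀ h0))
    (P.subtype hP)
  rw [Sylow.smul_subtype] at hh
  rw [← Sylow.subtype_injective hh]
  have h1 : (h : G) • P₀ ∈ (h : G) • A := Set.smul_mem_smul_set h0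
  rw [mem_stabilizer_iff.1 h.2] at h1
  exact h1

namespace SylGenerated

variable [Finite G] [Fact p.Prime] {K : Subgroup G} (hK : SylGenerated p K)
include hK

theorem exists_subtype_eq (Q : Sylow p K) :
    ∃ (P : Sylow p G) (h : (P : Subgroup G) ≤ K), P.subtype h = Q := by
  obtain ⟨P₀, h0⟩ := hK.nonempty
  have h0' : (P₀ : Subgroup G) ≤ K := h0
  obtain ⟨k, hk⟩ := MulAction.exists_smul_eq K (P₀.subtype h0') Q
  rw [Sylow.smul_subtype] at hk
  exact ⟨_, _, hk⟩

theorem iSup_sylow_eq_top : ⨆ Q : Sylow p K, (Q : Subgroup K) = ⊤ := by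
  refine Subgroup.map_injective K.subtype_injective (le_antisymm ?_ ?_)
  · exact Subgroup.map_mono le_top
  · rw [← MonoidHom.range_eq_map, Subgroup.range_subtype]
    refine hK.gen.trans (sylGen_le_iff.2 fun P hP => ?_)
    intro x hx
    exact ⟨⟨x, hP hx⟩, le_iSup (fun Q : Sylow p K => (Q : Subgroup K)) (P.subtype hP) hx, rfl⟩

omit hK [Finite G] [Fact p.Prime] in
theorem subtype_le_stabilizer {P : Sylow p G} (h : (P : Subgroup G) ≤ K) {x : α}
    (y : orbit K x) :
    ((P.subtype h : Sylow p K) : Subgroup K) ≤ stabilizer K y ↔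
      (P : Subgroup G) ≤ stabilizer G (y : α) := by
  constructor
  · intro hle g hg
    have := hle (show (⟨g, h hg⟩ : K) ∈ (P.subtype h : Subgroup K) from hg)
    exact mem_stabilizer_iff.2 (congrArg Subtype.val (mem_stabilizer_iff.1 this))
  · intro hle g hg
    exact mem_stabilizer_iff.2 (Subtype.ext (mem_stabilizer_iff.1 (hle hg) :))

theorem ncard_sylAt_orbit {x : α} (y : orbit K x) :
    (sylAt p K y).ncard = (sylIn p K ∩ sylAt p G (y : α)).ncard := by
  refine (Set.ncard_congr (fun P hP => P.subtype hP.1) ?_ ?_ ?_).symm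
  · exact fun P hP => (subtype_le_stabilizer hP.1 y).2 hP.2
  · exact fun P Q hP hQ h => Sylow.subtype_injective h
  · intro Q hQ
    obtain ⟨P, h, rfl⟩ := hK.exists_subtype_eq Q
    exact ⟨P, ⟨h, (subtype_le_stabilizer h y).1 hQ⟩, rfl⟩

theorem sylAt_orbit_eq_iff {x : α} (y z : orbit K x) :
    sylAt p K y = sylAt p K z ↔
      sylIn p K ∩ sylAt p G (y : α) = sylIn p K ∩ sylAt p G (z : α) := by
  constructor
  · intro h
    ext P
    constructor
    · exact fun hP => ⟨hP.1, (subtype_le_stabilizer hP.1 z).1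
        ((Set.ext_iff.1 h (P.subtype hP.1)).1 ((subtype_le_stabilizer hP.1 y).2 hP.2))⟩
    · exact fun hP => ⟨hP.1, (subtype_le_stabilizer hP.1 y).1
        ((Set.ext_iff.1 h (P.subtype hP.1)).2 ((subtype_le_stabilizer hP.1 z).2 hP.2))⟩
  · intro h
    ext Q
    obtain ⟨P, hP, rfl⟩ := hK.exists_subtype_eq Q
    rw [mem_sylAt, mem_sylAt, subtype_le_stabilizer hP y, subtype_le_stabilizer hP z]
    simpa [hP] using Set.ext_iff.1 h P

/-- An orbit with at least two points is admissible. -/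
theorem admissible_orbit [Finite α] {x : α} (hx : ¬ K ≤ stabilizer G x) :
    Admissible p K (orbit K x) := by
  refine ⟨inferInstance, hK.iSup_sylow_eq_top, ?_⟩
  obtain ⟨k, hk, hkx⟩ := SetLike.not_le_iff_exists.1 hx
  have : Nontrivial (orbit K x) :=
    ⟨⟨x, mem_orbit_self x⟩, ⟨k • x, mem_orbit x (⟨k, hk⟩ : K)⟩,
      fun h => hkx (congrArg Subtype.val h).symm⟩
  exact Finite.one_lt_card

theorem fixNum_orbit [Finite α] {P : Sylow p G} (hP : (P : Subgroup G) ≤ K) (x : α) :
    fixNum p K (orbit K x) = (orbit K x ∩ sylFix P).ncard := by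
  rw [← ncard_sylFix (P.subtype hP), ← Set.ncard_image_of_injective _ Subtype.val_injective]
  congr 1
  ext v
  constructor
  · rintro ⟨y, hy, rfl⟩
    exact ⟨y.2, (subtype_le_stabilizer hP y).1 hy⟩
  · intro hv
    exact ⟨⟨v, hv.1⟩, (subtype_le_stabilizer hP ⟨v, hv.1⟩).2 hv.2, rfl⟩

end SylGenerated

/-! ### Sums over the orbits in an invariant set -/

section Reps

variable (K : Subgroup G) [Finite α]

/-- A point of the orbit of `y` depending only on the orbit. -/
noncomputable def orbRep (y : α) : α :=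
  Set.Nonempty.some (s := orbit K y) ⟨y, mem_orbit_self y⟩

/-- Representatives of the orbits meeting `W`. -/
noncomputable def orbReps (W : Set α) : Finset α :=
  letI := Classical.decEq α
  (Set.toFinite W).toFinset.image (orbRep K)

variable {K}

omit [Finite α] in
theorem orbit_orbRep (y : α) : orbit K (orbRep K y) = orbit K y :=
  orbit_eq_iff.2 (Set.Nonempty.some_mem _)

theorem mem_of_mem_orbReps {W : Set α} (hW : ∀ k ∈ K, ∀ y ∈ W, k • y ∈ W) {t : α}
    (ht : t ∈ orbReps K W) : t ∈ W := by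
  classical
  obtain ⟨y, hy, rfl⟩ := Finset.mem_image.1 ht
  obtain ⟨k, hk⟩ : orbRep K y ∈ orbit K y := Set.Nonempty.some_mem _
  simp only at hk
  rw [← hk]
  exact hW k.1 k.2 y (by simpa using hy)

theorem sum_orbReps {W : Set α} (hW : ∀ k ∈ K, ∀ y ∈ W, k • y ∈ W) (S : Set α) :
    (W ∩ S).ncard = ∑ t ∈ orbReps K W, (orbit K t ∩ S).ncard := by
  classical
  have := Fintype.ofFinite α
  rw [Set.ncard_eq_toFinset_card', Finset.card_eq_sum_card_fiberwise (f := orbRep K)
    (t := orbReps K W) (fun y hy => Finset.mem_image_of_mem _ (by simpa using (show y ∈ W from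
      (by simpa using hy : y ∈ W ∧ y ∈ S).1)))]
  refine Finset.sum_congr rfl fun t ht => ?_
  rw [Set.ncard_eq_toFinset_card']
  congr 1
  have htW := mem_of_mem_orbReps hW ht
  obtain ⟨y, -, rfl⟩ := Finset.mem_image.1 ht
  ext z
  simp only [Finset.mem_filter, Set.mem_toFinset, Set.mem_inter_iff]
  constructor
  · rintro ⟨hz, he⟩
    refine ⟨?_, hz.2⟩
    rw [← he, orbit_orbRep]
    exact mem_orbit_self z
  · rintro ⟨hzo, hzS⟩
    have h1 : orbit K z = orbit K y := by
      rw [orbit_eq_iff.2 hzo, orbit_orbRep]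
    refine ⟨⟨?_, hzS⟩, ?_⟩
    · obtain ⟨k, rfl⟩ := hzo
      exact hW k.1 k.2 _ htW
    · show orbRep K z = orbRep K y
      simp only [orbRep, h1]

theorem card_eq_sum_orbReps {W : Set α} (hW : ∀ k ∈ K, ∀ y ∈ W, k • y ∈ W) :
    W.ncard = ∑ t ∈ orbReps K W, (orbit K t).ncard := by
  simpa using sum_orbReps hW Set.univ

variable [Finite G] [Fact p.Prime]

/-- The slack of the orbits in an invariant set. -/
theorem mul_sum_slack (hK : SylGenerated p K) {W : Set α}
    (hW : ∀ k ∈ K, ∀ y ∈ W, k • y ∈ W) {P : Sylow p G} (hP : (P : Subgroup G) ≤ K) :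
    (p : ℤ) * ∑ t ∈ orbReps K W, slack p K (orbit K t) =
      ((p : ℤ) - 1) * W.ncard - (2 * p - 1) * (W ∩ sylFix P).ncard := by
  rw [card_eq_sum_orbReps hW, sum_orbReps hW (sylFix P)]
  push_cast
  rw [Finset.mul_sum, Finset.mul_sum, Finset.mul_sum, ← Finset.sum_sub_distrib]
  refine Finset.sum_congr rfl fun t _ => ?_
  rw [← hK.fixNum_orbit hP t]
  have h := card_eq_fixNum_add (p := p) (G := K) (Ω := orbit K t)
  rw [Nat.card_coe_set_eq] at h
  rw [h, slack]
  push_cast
  ring

theorem sum_cycNum (hK : SylGenerated p K) {W : Set α}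
    (hW : ∀ k ∈ K, ∀ y ∈ W, k • y ∈ W) {P : Sylow p G} (hP : (P : Subgroup G) ≤ K) :
    W.ncard = (W ∩ sylFix P).ncard + p * ∑ t ∈ orbReps K W, cycNum p K (orbit K t) := by
  rw [card_eq_sum_orbReps hW, sum_orbReps hW (sylFix P), Finset.mul_sum, ← Finset.sum_add_distrib]
  refine Finset.sum_congr rfl fun t _ => ?_
  rw [← hK.fixNum_orbit hP t]
  have h := card_eq_fixNum_add (p := p) (G := K) (Ω := orbit K t)
  rwa [Nat.card_coe_set_eq] at h

end Reps

/-! ### Equivariant images of orbits -/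

section Image

variable {K : Subgroup G} {β : Type w} [MulAction G β] [Finite α] [Finite β] {f : α → β}
  (hf : ∀ k ∈ K, ∀ y, f (k • y) = k • f y)
include hf

theorem ncard_orbit_inter_preimage (x : α) (S : Set β) :
    (orbit K x ∩ f ⁻¹' S).ncard =
      (orbit K x ∩ f ⁻¹' {f x}).ncard * (orbit K (f x) ∩ S).ncard := by
  classical
  have := Fintype.ofFinite α
  have := Fintype.ofFinite β
  rw [Set.ncard_eq_toFinset_card' (orbit K x ∩ f ⁻¹' S),
    Finset.card_eq_sum_card_fiberwise (f := f) (t := (orbit K (f x) ∩ S).toFinset) ?_,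
    Set.ncard_eq_toFinset_card' (orbit K (f x) ∩ S), mul_comm, ← smul_eq_mul, ← Finset.sum_const]
  · refine Finset.sum_congr rfl fun y hy => ?_
    obtain ⟨⟨k, rfl⟩, hyS⟩ := Set.mem_toFinset.1 hy
    have e : (orbit K x ∩ f ⁻¹' {(k : G) • f x}) = (k : G) • (orbit K x ∩ f ⁻¹' {f x}) := by
      ext z
      rw [Set.mem_smul_set_iff_inv_smul_mem]
      constructor
      · rintro ⟨hz, he⟩
        refine ⟨mem_orbit_of_mem_orbit k⁻¹ hz, ?_⟩
        show f ((k : G)⁻¹ • z) = f x
        rw [hf _ (inv_mem k.2), he, inv_smul_smul]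
      · rintro ⟨hz, he⟩
        refine ⟨?_, ?_⟩
        · rw [← smul_inv_smul (k : G) z]
          exact mem_orbit_of_mem_orbit k hz
        · show f z = _
          rw [← smul_inv_smul (k : G) z, hf _ k.2, he]
    rw [← Set.ncard_smul_set (k : G) (orbit K x ∩ f ⁻¹' {f x}), ← e,
      Set.ncard_eq_toFinset_card']
    congr 1
    ext z
    simp only [Finset.mem_filter, Set.mem_toFinset, Set.mem_inter_iff, Set.mem_preimage,
      Set.mem_singleton_iff]
    refine ⟨fun h => ⟨h.1.1, h.2⟩, fun h => ⟨⟨h.1, ?_⟩, h.2⟩⟩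
    rw [h.2]
    exact hyS
  · intro z hz
    simp only [Set.coe_toFinset, Set.mem_inter_iff, Set.mem_preimage] at hz ⊢
    obtain ⟨⟨k, rfl⟩, hzS⟩ := hz
    exact ⟨⟨k, (hf _ k.2 x).symm⟩, hzS⟩

theorem ncard_orbit_eq_mul (x : α) :
    (orbit K x).ncard = (orbit K x ∩ f ⁻¹' {f x}).ncard * (orbit K (f x)).ncard := by
  simpa using ncard_orbit_inter_preimage hf x Set.univ

end Image

end CfsgLib.SylowFix
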