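import Cfsg.Agent.Lib.SylowFix.Blocks

/-!
The orbits of the subgroup generated by the Sylow subgroups fixing a point.

In a separated action the only fixed point of `ptGen r` is `r`; the orbits on the other points are
admissible, and their slacks add up to the slack of the whole action plus one.
-/

set_option autoImplicit false

open MulAction
open scoped Pointwise

namespace CfsgLib.SylowFix

universe u

variable {p : ℕ} {G : Type u} [Group G] {Ω : Type u} [MulAction G Ω]

variable (p G) in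
/-- The subgroup generated by the Sylow subgroups fixing `r`. -/
def ptGen (r : Ω) : Subgroup G := sylGen (sylAt p G r)

variable (p G) in
/-- The Sylow subgroups fixing `r` and `s`. -/
def pairSyl (r s : Ω) : Set (Sylow p G) := sylAt p G r ∩ sylAt p G s

variable (p G) in
/-- The patterns of the points in the orbit of `s` under `ptGen r`. -/
abbrev lineSet (r s : Ω) : Set (Set (Sylow p G)) := orbit (ptGen p G r) (pairSyl p G r s)

theorem pairSyl_comm (r s : Ω) : pairSyl p G r s = pairSyl p G s r := Set.inter_comm _ _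

theorem pairSyl_subset_left (r s : Ω) : pairSyl p G r s ⊆ sylAt p G r := Set.inter_subset_left

theorem ptGen_le_stabilizer (r : Ω) : ptGen p G r ≤ stabilizer G r :=
  sylGen_le_iff.2 fun _ h => h

theorem smul_pairSyl (g : G) (r s : Ω) :
    g • pairSyl p G r s = pairSyl p G (g • r) (g • s) := by
  rw [pairSyl, Set.smul_set_inter, ← sylAt_smul, ← sylAt_smul]
  rfl

theorem pairSyl_smul_right {r : Ω} {k : G} (hk : k ∈ stabilizer G r) (s : Ω) :
    pairSyl p G r (k • s) = k • pairSyl p G r s := by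
  rw [smul_pairSyl, mem_stabilizer_iff.1 hk]

theorem sylIn_ptGen (r : Ω) : sylIn p (ptGen p G r) = sylAt p G r :=
  Set.Subset.antisymm (fun _ hP => (hP : _ ≤ ptGen p G r).trans (ptGen_le_stabilizer r))
    fun _ hP => le_sylGen hP

theorem smul_sylAt_of_mem {r : Ω} {k : G} (hk : k ∈ stabilizer G r) :
    k • sylAt p G r = sylAt p G r := by
  rw [← sylAt_smul, mem_stabilizer_iff.1 hk]

theorem pairSyl_le_stabilizer {r s : Ω} {P : Sylow p G} (hP : P ∈ pairSyl p G r s) :
    (P : Subgroup G) ≤ stabilizer G (pairSyl p G r s) := fun g hg => by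
  rw [mem_stabilizer_iff, smul_pairSyl, mem_stabilizer_iff.1 (hP.1 hg),
    mem_stabilizer_iff.1 (hP.2 hg)]

theorem subset_sylAt_of_mem_lineSet {r s : Ω} {A : Set (Sylow p G)} (hA : A ∈ lineSet p G r s) :
    A ⊆ sylAt p G r := by
  obtain ⟨k, rfl⟩ := hA
  intro P hP
  have h := Set.smul_set_mono (a := (k : G)) (pairSyl_subset_left r s) hP
  rwa [smul_sylAt_of_mem (ptGen_le_stabilizer r k.2)] at h

theorem le_stabilizer_of_mem_lineSet {r s : Ω} {A : Set (Sylow p G)} (hA : A ∈ lineSet p G r s)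
    {P : Sylow p G} (hP : P ∈ A) : (P : Subgroup G) ≤ stabilizer G A := by
  obtain ⟨k, rfl⟩ := hA
  have h : pairSyl p G r ((k : G) • s) = (k : G) • pairSyl p G r s :=
    pairSyl_smul_right (ptGen_le_stabilizer r k.2) s
  change P ∈ (k : G) • pairSyl p G r s at hP
  show (P : Subgroup G) ≤ stabilizer G ((k : G) • pairSyl p G r s)
  rw [← h] at hP ⊢
  exact pairSyl_le_stabilizer hP

theorem mem_lineSet_self (r s : Ω) : pairSyl p G r s ∈ lineSet p G r s := mem_orbit_self _

theorem pairSyl_mem_lineSet {r s v : Ω} (hv : v ∈ orbit (ptGen p G r) s) :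
    pairSyl p G r v ∈ lineSet p G r s := by
  obtain ⟨k, rfl⟩ := hv
  exact ⟨k, (pairSyl_smul_right (ptGen_le_stabilizer r k.2) s).symm⟩

theorem lineSet_eq {r s v : Ω} (h : pairSyl p G r v ∈ lineSet p G r s) :
    lineSet p G r v = lineSet p G r s :=
  orbit_eq_iff.2 h

variable [Finite G] [Finite Ω] [Fact p.Prime]

omit [Finite Ω] in
theorem card_sylow_eq {K : Subgroup G} (hK : SylGenerated p K) :
    Nat.card (Sylow p K) = (sylIn p K).ncard := by
  rw [← Set.ncard_univ]
  refine (Set.ncard_congr (fun P hP => P.subtype hP) ?_ ?_ ?_).symm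
  · exact fun _ _ => Set.mem_univ _
  · exact fun P Q hP hQ h => Sylow.subtype_injective h
  · intro Q _
    obtain ⟨P, h, rfl⟩ := hK.exists_subtype_eq Q
    exact ⟨P, h, rfl⟩

/-- A separated action with fixed points whose slack is at most `p - 2`, and the induction
hypothesis. -/
structure Small (p : ℕ) (G : Type u) [Group G] (Ω : Type u) [MulAction G Ω] : Prop where
  adm : Admissible p G Ω
  fpos : 0 < fixNum p G Ω
  sep : Separated p G Ω
  small : slack p G Ω ≤ (p : ℤ) - 2
  ih : GoodBelow.{u} p (Nat.card Ω)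

namespace Small

variable (h : Small p G Ω)
include h

theorem sylAt_nonempty (r : Ω) : (sylAt p G r).Nonempty := h.adm.sylAt_nonempty h.fpos r

theorem isPreprimitive : IsPreprimitive G Ω :=
  h.adm.isPreprimitive h.ih h.fpos h.sep (by linarith [h.small])

theorem sylGenerated (r : Ω) : SylGenerated p (ptGen p G r) :=
  sylGenerated_sylGen (h.sylAt_nonempty r)

theorem eq_of_sylAt_subset {r s : Ω} (hrs : sylAt p G r ⊆ sylAt p G s) : r = s :=
  h.sep (Set.eq_of_subset_of_ncard_le hrs (h.adm.ncard_sylAt_eq r s).ge)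

theorem moved {r s : Ω} (hrs : s ≠ r) : ¬ ptGen p G r ≤ stabilizer G s := fun hle =>
  hrs (h.eq_of_sylAt_subset fun _ hP => (le_sylGen hP).trans hle).symm

theorem compl_invariant (r : Ω) :
    ∀ k ∈ ptGen p G r, ∀ y ∈ ({r}ᶜ : Set Ω), k • y ∈ ({r}ᶜ : Set Ω) := by
  intro k hk y hy (e : k • y = r)
  exact hy ((MulAction.injective k) (e.trans (mem_stabilizer_iff.1 (ptGen_le_stabilizer r hk)).symm))

theorem orbit_subset {r s : Ω} (hrs : s ≠ r) : orbit (ptGen p G r) s ⊆ {r}ᶜ := by
  rintro _ ⟨k, rfl⟩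
  exact h.compl_invariant r k.1 k.2 s hrs

theorem orbit_lt {r s : Ω} (hrs : s ≠ r) :
    Nat.card (orbit (ptGen p G r) s) < Nat.card Ω := by
  rw [Nat.card_coe_set_eq, ← Set.ncard_univ]
  refine Set.ncard_lt_ncard (Set.ssubset_univ_iff.2 fun e => ?_)
  exact h.orbit_subset hrs (e ▸ Set.mem_univ r) rfl

theorem orbit_adm {r s : Ω} (hrs : s ≠ r) :
    Admissible p (ptGen p G r) (orbit (ptGen p G r) s) :=
  (h.sylGenerated r).admissible_orbit (h.moved hrs)

theorem orbit_good {r s : Ω} (hrs : s ≠ r) :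
    Good p (ptGen p G r) (orbit (ptGen p G r) s) :=
  h.ih _ _ (h.orbit_adm hrs) (h.orbit_lt hrs)

theorem sum_slack (r : Ω) :
    ∑ t ∈ orbReps (ptGen p G r) ({r}ᶜ : Set Ω), slack p (ptGen p G r) (orbit (ptGen p G r) t) =
      slack p G Ω + 1 := by
  obtain ⟨P, hP⟩ := h.sylAt_nonempty r
  have e := mul_sum_slack (h.sylGenerated r) (h.compl_invariant r) (P := P) (le_sylGen hP)
  have h1 : (({r}ᶜ : Set Ω) ∩ sylFix P).ncard + 1 = fixNum p G Ω := by
    rw [Set.inter_comm, ← Set.diff_eq,
      Set.ncard_diff_singleton_add_one (show r ∈ sylFix P from hP), ncard_sylFix]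
  have h2 : ({r}ᶜ : Set Ω).ncard + 1 = Nat.card Ω := by
    have := Set.ncard_add_ncard_compl ({r} : Set Ω)
    rw [Set.ncard_singleton] at this
    omega
  have e' := mul_slack (p := p) G Ω
  have h1' : ((({r}ᶜ : Set Ω) ∩ sylFix P).ncard : ℤ) = fixNum p G Ω - 1 := by omega
  have h2' : (({r}ᶜ : Set Ω).ncard : ℤ) = Nat.card Ω - 1 := by omega
  rw [h1', h2'] at e
  have hp : (p : ℤ) ≠ 0 := by exact_mod_cast (Fact.out : p.Prime).pos.ne'
  apply mul_left_cancel₀ hp
  rw [e, mul_add, e']
  ring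

theorem sum_cycNum_eq (r : Ω) :
    ∑ t ∈ orbReps (ptGen p G r) ({r}ᶜ : Set Ω), cycNum p (ptGen p G r) (orbit (ptGen p G r) t) =
      cycNum p G Ω := by
  obtain ⟨P, hP⟩ := h.sylAt_nonempty r
  have e := sum_cycNum (h.sylGenerated r) (h.compl_invariant r) (P := P) (le_sylGen hP)
  have h1 : (({r}ᶜ : Set Ω) ∩ sylFix P).ncard + 1 = fixNum p G Ω := by
    rw [Set.inter_comm, ← Set.diff_eq,
      Set.ncard_diff_singleton_add_one (show r ∈ sylFix P from hP), ncard_sylFix]
  have h2 := Set.ncard_add_ncard_compl ({r} : Set Ω)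
  rw [Set.ncard_singleton] at h2
  have h3 := card_eq_fixNum_add (p := p) (G := G) (Ω := Ω)
  exact Nat.eq_of_mul_eq_mul_left (Fact.out : p.Prime).pos (by omega)

theorem slack_orbit_nonneg {r s : Ω} (hrs : s ≠ r) :
    0 ≤ slack p (ptGen p G r) (orbit (ptGen p G r) s) :=
  (h.orbit_good hrs).1

theorem slack_orbit_congr {r s t : Ω} (e : orbit (ptGen p G r) t = orbit (ptGen p G r) s) :
    slack p (ptGen p G r) (orbit (ptGen p G r) t) =
      slack p (ptGen p G r) (orbit (ptGen p G r) s) := by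
  obtain ⟨P, hP⟩ := h.sylAt_nonempty r
  rw [slack, slack, cycNum, cycNum, Nat.card_coe_set_eq, Nat.card_coe_set_eq,
    (h.sylGenerated r).fixNum_orbit (le_sylGen hP) t,
    (h.sylGenerated r).fixNum_orbit (le_sylGen hP) s, e]

theorem slack_orbit_le {r s : Ω} (hrs : s ≠ r) :
    slack p (ptGen p G r) (orbit (ptGen p G r) s) ≤ slack p G Ω + 1 := by
  classical
  rw [← h.sum_slack r]
  have hmem : orbRep (ptGen p G r) s ∈ orbReps (ptGen p G r) ({r}ᶜ : Set Ω) :=
    Finset.mem_image_of_mem _ (by simpa using hrs)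
  rw [← h.slack_orbit_congr (orbit_orbRep (K := ptGen p G r) s)]
  exact Finset.single_le_sum (fun t ht => h.slack_orbit_nonneg
    (mem_of_mem_orbReps (h.compl_invariant r) ht)) hmem

theorem natural_or_residue {r s : Ω} (hrs : s ≠ r) :
    Natural p (ptGen p G r) (orbit (ptGen p G r) s) ∨
      Residue p (ptGen p G r) (orbit (ptGen p G r) s) :=
  (h.orbit_good hrs).2 (by linarith [h.slack_orbit_le hrs, h.small])

/-- The Sylow subgroups fixing a point of an orbit of `ptGen r`. -/
theorem ncard_pairSyl_mul {r s : Ω} (hrs : s ≠ r) :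
    (pairSyl p G r s).ncard * Nat.card (orbit (ptGen p G r) s) =
      (sylAt p G r).ncard * fixNum p (ptGen p G r) (orbit (ptGen p G r) s) := by
  have e := (h.orbit_adm hrs).ncard_sylAt_mul ⟨s, mem_orbit_self s⟩
  rwa [(h.sylGenerated r).ncard_sylAt_orbit, card_sylow_eq (h.sylGenerated r), sylIn_ptGen] at e

theorem fixNum_pos_iff {r s : Ω} (hrs : s ≠ r) :
    0 < fixNum p (ptGen p G r) (orbit (ptGen p G r) s) ↔ (pairSyl p G r s).Nonempty := by
  have e := h.ncard_pairSyl_mul hrs
  have hν : 0 < (sylAt p G r).ncard := (Set.ncard_pos (Set.toFinite _)).2 (h.sylAt_nonempty r)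
  have hN : 0 < Nat.card (orbit (ptGen p G r) s) := by have := (h.orbit_adm hrs).two; omega
  rw [← Set.ncard_pos (Set.toFinite _)]
  constructor
  · intro hf
    have := Nat.mul_pos hν hf
    rw [← e] at this
    exact Nat.pos_of_mul_pos_right this
  · intro hA
    have := Nat.mul_pos hA hN
    rw [e] at this
    exact Nat.pos_of_mul_pos_left this

/-- Patterns as points: the invariants scale by the class size. -/
theorem orbit_scale {r s : Ω} (hrs : s ≠ r) (hne : (pairSyl p G r s).Nonempty) :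
    let c := (orbit (ptGen p G r) s ∩ {v | pairSyl p G r v = pairSyl p G r s}).ncard
    Nat.card (orbit (ptGen p G r) s) = c * (lineSet p G r s).ncard ∧
      ∀ P ∈ sylAt p G r, fixNum p (ptGen p G r) (orbit (ptGen p G r) s) =
        c * {A | A ∈ lineSet p G r s ∧ P ∈ A}.ncard := by
  intro c
  have hf : ∀ k ∈ ptGen p G r, ∀ y, pairSyl p G r (k • y) = k • pairSyl p G r y := fun k hk y =>
    pairSyl_smul_right (ptGen_le_stabilizer r hk) y
  refine ⟨?_, fun P hP => ?_⟩
  · rw [Nat.card_coe_set_eq, ncard_orbit_eq_mul (β := Set (Sylow p G)) hf s]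
    rfl
  · rw [(h.sylGenerated r).fixNum_orbit (le_sylGen hP)]
    have e : orbit (ptGen p G r) s ∩ sylFix P =
        orbit (ptGen p G r) s ∩ (pairSyl p G r) ⁻¹' {A | P ∈ A} := by
      ext v
      simp only [Set.mem_inter_iff, mem_sylFix, Set.mem_preimage, Set.mem_setOf_eq]
      exact and_congr_right fun _ => ⟨fun hv => ⟨hP, hv⟩, fun hv => hv.2⟩
    rw [e, ncard_orbit_inter_preimage (β := Set (Sylow p G)) hf s]
    rfl

/-- The class of `s` in its orbit, as used by `Natural`. -/
theorem ncard_class {r s : Ω} :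
    {v : orbit (ptGen p G r) s | sylAt p (ptGen p G r) v =
        sylAt p (ptGen p G r) (⟨s, mem_orbit_self s⟩ : orbit (ptGen p G r) s)}.ncard =
      (orbit (ptGen p G r) s ∩ {v | pairSyl p G r v = pairSyl p G r s}).ncard := by
  rw [← Set.ncard_image_of_injective _ Subtype.val_injective]
  congr 1
  ext v
  constructor
  · rintro ⟨y, hy, rfl⟩
    have hy' := ((h.sylGenerated r).sylAt_orbit_eq_iff y ⟨s, mem_orbit_self s⟩).1 hy
    rw [sylIn_ptGen] at hy'
    exact ⟨y.2, hy'⟩
  · intro hv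
    refine ⟨⟨v, hv.1⟩, ((h.sylGenerated r).sylAt_orbit_eq_iff _ _).2 ?_, rfl⟩
    rw [sylIn_ptGen]
    exact hv.2

end Small

end CfsgLib.SylowFix
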