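import Cfsg.Agent.Lib.SylowFix.Basic

/-!
The quotient of an action by the relation "fixed by the same Sylow subgroups".

The points of the quotient are the sets `sylAt r`; this action is separated, and it carries the
invariants of the original one divided by the common class size.
-/

set_option autoImplicit false

open MulAction
open scoped Pointwise

namespace CfsgLib.SylowFix

universe u v

variable (p : ℕ) (G : Type u) [Group G] (Ω : Type v) [MulAction G Ω]

/-- The action is separated when different points have different sets of Sylow subgroups. -/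
def Separated : Prop := Function.Injective (sylAt p G : Ω → Set (Sylow p G))

/-- The patterns `sylAt r`. -/
def Pat : Type u := ↥(Set.range (sylAt p G : Ω → Set (Sylow p G)))

variable {p G Ω}

instance patMulAction : MulAction G (Pat p G Ω) where
  smul g x := ⟨g • x.1, by obtain ⟨r, hr⟩ := x.2; exact ⟨g • r, by rw [sylAt_smul, hr]⟩⟩
  one_smul x := Subtype.ext (one_smul G x.1)
  mul_smul g h x := Subtype.ext (mul_smul g h x.1)

instance patFinite [Finite G] : Finite (Pat p G Ω) :=
  inferInstanceAs (Finite ↥(Set.range (sylAt p G : Ω → Set (Sylow p G))))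

/-- The pattern of a point. -/
def patOf (r : Ω) : Pat p G Ω := ⟨sylAt p G r, r, rfl⟩

theorem patOf_smul (g : G) (r : Ω) : patOf (p := p) (g • r) = g • patOf (p := p) (G := G) r :=
  Subtype.ext (sylAt_smul g r)

theorem patOf_surjective : Function.Surjective (patOf (p := p) (G := G) (Ω := Ω)) := by
  rintro ⟨x, r, hr⟩
  exact ⟨r, Subtype.ext hr⟩

theorem patOf_eq_iff {r s : Ω} :
    patOf (p := p) (G := G) r = patOf s ↔ sylAt p G r = sylAt p G s :=
  ⟨congrArg Subtype.val, fun h => Subtype.ext h⟩

namespace Admissible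

variable [Finite G] [Finite Ω] [Fact p.Prime] (hA : Admissible p G Ω)
include hA

theorem pat_trans : IsPretransitive G (Pat p G Ω) := by
  refine ⟨fun x y => ?_⟩
  obtain ⟨r, rfl⟩ := patOf_surjective x
  obtain ⟨s, rfl⟩ := patOf_surjective y
  obtain ⟨g, hg⟩ := hA.trans.exists_smul_eq r s
  exact ⟨g, by rw [← patOf_smul, hg]⟩

/-- A Sylow subgroup stabilising the pattern of `r` fixes `r`. -/
theorem sylAt_patOf (hf : 0 < fixNum p G Ω) (r : Ω) :
    sylAt p G (patOf (p := p) (G := G) r) = sylAt p G r := by
  obtain ⟨P₀, h0⟩ := hA.sylAt_nonempty hf r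
  have hle : stabilizer G r ≤ stabilizer G (patOf (p := p) (G := G) r) := fun g hg => by
    rw [mem_stabilizer_iff, ← patOf_smul, mem_stabilizer_iff.1 hg]
  ext P
  simp only [mem_sylAt]
  refine ⟨fun hP => ?_, fun hP => hP.trans hle⟩
  obtain ⟨h, hh⟩ := MulAction.exists_smul_eq (stabilizer G (patOf (p := p) (G := G) r))
    (P₀.subtype (h0.trans hle)) (P.subtype hP)
  have hPh : P = (h : G) • P₀ := by
    rw [Sylow.smul_subtype] at hh
    exact (Sylow.subtype_injective hh).symm.trans (Subgroup.smul_def h P₀)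
  rw [hPh]
  have h1 : sylAt p G ((h : G) • r) = sylAt p G r :=
    congrArg Subtype.val ((patOf_smul (h : G) r).trans h.2)
  rw [← mem_sylAt, ← h1, mem_sylAt]
  exact (sylow_le_conj_iff (h : G) P₀ r).2 h0

theorem pat_separated (hf : 0 < fixNum p G Ω) : Separated p G (Pat p G Ω) := by
  intro x y hxy
  obtain ⟨r, rfl⟩ := patOf_surjective x
  obtain ⟨s, rfl⟩ := patOf_surjective y
  rw [hA.sylAt_patOf hf, hA.sylAt_patOf hf] at hxy
  exact patOf_eq_iff.2 hxy

/-- The size of a class. -/
theorem ncard_class_eq (r s : Ω) :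
    {v : Ω | sylAt p G v = sylAt p G r}.ncard = {v : Ω | sylAt p G v = sylAt p G s}.ncard := by
  obtain ⟨g, hg⟩ := hA.trans.exists_smul_eq r s
  have : {v : Ω | sylAt p G v = sylAt p G s} = g • {v : Ω | sylAt p G v = sylAt p G r} := by
    ext v
    rw [Set.mem_smul_set_iff_inv_smul_mem]
    simp only [Set.mem_setOf_eq, ← hg, sylAt_smul]
    exact (inv_smul_eq_iff).symm
  rw [this, Set.ncard_smul_set]

theorem ncard_preimage (r : Ω) (S : Set (Pat p G Ω)) :
    (patOf (p := p) (G := G) ⁻¹' S : Set Ω).ncard =
      {v : Ω | sylAt p G v = sylAt p G r}.ncard * S.ncard := by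
  classical
  have := Fintype.ofFinite Ω
  have := Fintype.ofFinite (Pat p G Ω)
  rw [Set.ncard_eq_toFinset_card' (patOf ⁻¹' S), Set.ncard_eq_toFinset_card' S,
    Finset.card_eq_sum_card_fiberwise (f := patOf (p := p) (G := G)) (t := S.toFinset)
      (fun v hv => by simpa using hv), mul_comm, ← smul_eq_mul, ← Finset.sum_const]
  refine Finset.sum_congr rfl fun x hx => ?_
  obtain ⟨s, rfl⟩ := patOf_surjective x
  rw [hA.ncard_class_eq r s, Set.ncard_eq_toFinset_card']
  congr 1
  ext v
  simp only [Set.mem_toFinset, Finset.mem_filter, Set.mem_preimage, Set.mem_setOf_eq]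
  constructor
  · exact fun h => patOf_eq_iff.1 h.2
  · intro h
    exact ⟨by rw [patOf_eq_iff.2 h]; simpa using hx, patOf_eq_iff.2 h⟩

end Admissible

end CfsgLib.SylowFix
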