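import Cfsg.Agent.Lib.SylowFix.Coupling

/-!
Triangles `r, s, t` in which `(r, s)` and `(r, t)` are natural pairs with parameter `j`.

`RelNatural j` says that the relation `Rel j` only occurs between natural pairs. Then lines are
determined by any two of their points, and in a triangle either the bundles match up or
`(s, t)` has the parameter `j - 1`.
-/

set_option autoImplicit false

open MulAction
open scoped Pointwise

namespace CfsgLib.SylowFix

universe u

variable {p : ℕ} {G : Type u} [Group G] {Ω : Type u} [MulAction G Ω]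

variable (p G Ω) in
/-- Pairs in relation `Rel j` are natural. -/
def RelNatural (j : ℕ) : Prop :=
  ∀ r s : Ω, s ≠ r → Rel p G j r s → NatPair p G j r s

theorem ncard_of_mem_lineSet {r s : Ω} {A : Set (Sylow p G)} (hA : A ∈ lineSet p G r s) :
    A.ncard = (pairSyl p G r s).ncard := by
  obtain ⟨k, rfl⟩ := hA
  exact Set.ncard_smul_set (k : G) (pairSyl p G r s)

theorem rel_of_mem_lineSet {j : ℕ} {r s v : Ω} (hR : Rel p G j r s)
    (hv : pairSyl p G r v ∈ lineSet p G r s) : Rel p G j r v := by
  rw [Rel, ncard_of_mem_lineSet hv]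
  exact hR

variable [Finite G] [Finite Ω] [Fact p.Prime]

namespace Small

variable (h : Small p G Ω)
include h

theorem sylAt_ncard_pos (r : Ω) : 0 < (sylAt p G r).ncard :=
  (Set.ncard_pos (Set.toFinite _)).2 (h.sylAt_nonempty r)

theorem ne_of_mem_lineSet {r s v : Ω} (hrs : s ≠ r) (hv : pairSyl p G r v ∈ lineSet p G r s) :
    v ≠ r := by
  rintro rfl
  apply hrs
  refine (h.eq_of_sylAt_subset fun P hP => ?_).symm
  have e := ncard_of_mem_lineSet hv
  rw [show pairSyl p G v v = sylAt p G v from Set.inter_self _] at e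
  have := Set.eq_of_subset_of_ncard_le (pairSyl_subset_left v s) e.le
  exact ((this ▸ hP : P ∈ pairSyl p G v s)).2

theorem not_rel_two {i j : ℕ} (hij : i ≠ j) {r s : Ω} (hi : Rel p G i r s) :
    ¬ Rel p G j r s := by
  intro hj
  rw [Rel] at hi hj
  have hν := h.sylAt_ncard_pos r
  rcases Nat.eq_zero_or_pos (pairSyl p G r s).ncard with h0 | h0
  · rw [h0, zero_mul] at hi hj
    rcases Nat.mul_eq_zero.1 hi.symm with h1 | h1 <;>
      rcases Nat.mul_eq_zero.1 hj.symm with h2 | h2 <;> omega
  · apply hij
    have e : (pairSyl p G r s).ncard * ((p + i) * j) = (pairSyl p G r s).ncard * ((p + j) * i) := by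
      calc (pairSyl p G r s).ncard * ((p + i) * j)
          = ((pairSyl p G r s).ncard * (p + i)) * j := by ring
        _ = ((sylAt p G r).ncard * j) * i := by rw [hi]; ring
        _ = ((pairSyl p G r s).ncard * (p + j)) * i := by rw [hj]
        _ = _ := by ring
    have e2 := Nat.eq_of_mul_eq_mul_left h0 e
    have e3 : p * j = p * i := by rw [add_mul, add_mul, mul_comm i j] at e2; omega
    exact (Nat.eq_of_mul_eq_mul_left (Fact.out : p.Prime).pos e3).symm

/-- A point fixed by all of `pairSyl r s` lies on the line of `s`. -/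
theorem pairSyl_eq_of_subset {j : ℕ} {r s t : Ω} (hN : NatPair p G j r s) (ht : t ≠ r)
    (hsub : pairSyl p G r s ⊆ sylAt p G t) : pairSyl p G r t = pairSyl p G r s := by
  have hsub' : pairSyl p G r s ⊆ pairSyl p G r t := fun P hP => ⟨hP.1, hsub hP⟩
  rcases h.coupled_or_uniform hN ht with hl | ⟨hu, _⟩
  · exact (Set.eq_of_subset_of_ncard_le hsub' (ncard_of_mem_lineSet hl).le).symm
  · exfalso
    have e := hu _ (mem_lineSet_self r s)
    rw [Set.inter_eq_left.2 hsub', h.rel_of_natPair hN] at e
    have hj : 0 < j := hN.one_le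
    have e2 := Nat.eq_of_mul_eq_mul_right hj e
    exact ht (h.eq_of_sylAt_subset (r := r) (s := t) fun P hP => by
      have := Set.eq_of_subset_of_ncard_le (pairSyl_subset_left r t) e2.le
      exact ((this ▸ hP : P ∈ pairSyl p G r t)).2).symm

/-- Lines are symmetric. -/
theorem line_eq_three {j : ℕ} (hR : RelNatural p G Ω j) {r s t : Ω} (hN : NatPair p G j r s)
    (hts : t ≠ s) (e : pairSyl p G r t = pairSyl p G r s) :
    pairSyl p G s t = pairSyl p G s r := by
  refine h.pairSyl_eq_of_subset (hR s r hN.ne.symm (h.rel_comm.1 (h.rel_of_natPair hN))) hts ?_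
  rw [pairSyl_comm s r, ← e]
  exact Set.inter_subset_right

/-- The intersection of two lines. -/
theorem inter_lines_mul {j : ℕ} {r s : Ω} (hN : NatPair p G j r s) {A B : Set (Sylow p G)}
    (hA : A ∈ lineSet p G r s) (hB : B ∈ lineSet p G r s) (hAB : A ≠ B) :
    (A ∩ B).ncard * (p + j - 1) = A.ncard * (j - 1) := by
  classical
  have hsum := h.sum_inter_lines hN (S := A) (subset_sylAt_of_mem_lineSet hA)
  rw [← Finset.add_sum_erase _ _ ((Set.Finite.mem_toFinset _).2 hA), Set.inter_self,
    Finset.sum_congr rfl (g := fun _ => (A ∩ B).ncard) ?_, Finset.sum_const, smul_eq_mul,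
    Finset.card_erase_of_mem ((Set.Finite.mem_toFinset _).2 hA), ← Set.ncard_eq_toFinset_card,
    hN.card] at hsum
  · obtain ⟨m, rfl⟩ := Nat.exists_eq_add_of_le' hN.one_le
    simp only [← add_assoc, Nat.add_sub_cancel] at hsum ⊢
    linarith
  · intro C hC
    simp only [Finset.mem_erase, Set.Finite.mem_toFinset] at hC
    obtain ⟨g, hg, hgf⟩ := h.exists_smul_lines hN {A, B} (by
        simp only [Finset.mem_insert, Finset.mem_singleton]; rintro X (rfl | rfl) <;> assumption)
      ((Finset.card_le_two).trans (by have := hN.one_le; omega))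
      (fun X => if X = A then A else C) (fun X _ => by
        show (if X = A then A else C) ∈ _
        split_ifs
        exacts [hA, hC.2]) (by
        intro X hX Y hY e
        simp only [Finset.coe_insert, Finset.coe_singleton, Set.mem_insert_iff,
          Set.mem_singleton_iff] at hX hY
        rcases hX with rfl | rfl <;> rcases hY with rfl | rfl <;>
          simp [hAB.symm] at e <;>
          first
            | rfl
            | exact absurd e.symm hC.1
            | exact absurd e hC.1)
    have h1 := hgf A (by simp)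
    have h2 := hgf B (by simp)
    simp [hAB.symm] at h1 h2
    rw [← Set.ncard_smul_set g (A ∩ B), Set.smul_set_inter, h1, h2, Set.inter_comm]

/-- Two points in one bundle at `r`, on different lines. -/
theorem triangle_same {j : ℕ} (hR : RelNatural p G Ω j) {r s t : Ω} (hN : NatPair p G j r s)
    (hts : t ≠ s) (ht : pairSyl p G r t ∈ lineSet p G r s)
    (hne : pairSyl p G r t ≠ pairSyl p G r s) :
    pairSyl p G s t ∈ lineSet p G s r ∨ Rel p G (j - 1) s t := by
  have hN' := hR s r hN.ne.symm (h.rel_comm.1 (h.rel_of_natPair hN))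
  rcases h.coupled_or_uniform hN' hts with hl | ⟨hu, _⟩
  · exact Or.inl hl
  right
  have hx := h.inter_lines_mul hN (mem_lineSet_self r s) ht hne.symm
  have e := hu _ (mem_lineSet_self s r)
  have hsame : pairSyl p G s r ∩ pairSyl p G s t = pairSyl p G r s ∩ pairSyl p G r t := by
    ext P
    simp only [pairSyl, Set.mem_inter_iff]
    tauto
  rw [hsame] at e
  set x := (pairSyl p G r s ∩ pairSyl p G r t).ncard
  have hrel := h.rel_of_natPair hN
  rw [Rel] at hrel ⊢
  rw [← h.adm.ncard_sylAt_eq r s]
  have hj := hN.one_le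
  rw [show p + (j - 1) = p + j - 1 by omega]
  refine Nat.eq_of_mul_eq_mul_right (show 0 < j by omega) ?_
  calc (pairSyl p G s t).ncard * (p + j - 1) * j
      = ((pairSyl p G s t).ncard * j) * (p + j - 1) := by ring
    _ = (x * (p + j)) * (p + j - 1) := by rw [e]
    _ = (x * (p + j - 1)) * (p + j) := by ring
    _ = ((pairSyl p G r s).ncard * (j - 1)) * (p + j) := by rw [hx]
    _ = ((pairSyl p G r s).ncard * (p + j)) * (j - 1) := by ring
    _ = _ := by rw [hrel]; ring

/-- Two points in different bundles at `r`. -/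
theorem triangle_diff {j : ℕ} (hR : RelNatural p G Ω j) {r s t : Ω} (hN : NatPair p G j r s)
    (hts : t ≠ s) (htr : t ≠ r) (hrel : Rel p G j r t)
    (ht : pairSyl p G r t ∉ lineSet p G r s) : Rel p G j s t := by
  have hN' := hR s r hN.ne.symm (h.rel_comm.1 (h.rel_of_natPair hN))
  rcases h.coupled_or_uniform hN' hts with hl | ⟨hu', _⟩
  · exact rel_of_mem_lineSet (h.rel_of_natPair hN') hl
  rcases h.coupled_or_uniform hN htr with hl | ⟨hu, _⟩
  · exact absurd hl ht
  have e := hu _ (mem_lineSet_self r s)
  have e' := hu' _ (mem_lineSet_self s r)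
  have hsame : pairSyl p G s r ∩ pairSyl p G s t = pairSyl p G r s ∩ pairSyl p G r t := by
    ext P
    simp only [pairSyl, Set.mem_inter_iff]
    tauto
  rw [hsame, e] at e'
  rw [Rel, ← Nat.eq_of_mul_eq_mul_right hN.one_le e', ← h.adm.ncard_sylAt_eq r s]
  exact hrel

/-- In one bundle on different lines, `Rel j` forces the bundles to match up. -/
theorem coupled_of_rel {j : ℕ} (hR : RelNatural p G Ω j) {r s t : Ω} (hN : NatPair p G j r s)
    (hts : t ≠ s) (ht : pairSyl p G r t ∈ lineSet p G r s)
    (hne : pairSyl p G r t ≠ pairSyl p G r s) (hst : Rel p G j s t) :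
    pairSyl p G s t ∈ lineSet p G s r :=
  (h.triangle_same hR hN hts ht hne).resolve_right fun h1 =>
    h.not_rel_two (i := j - 1) (by have := hN.one_le; omega) h1 hst

/-- With `j ≥ 2`, two lines determine the lines containing their intersection. -/
theorem eq_or_eq_of_inter_subset {j : ℕ} {r s : Ω} (hN : NatPair p G j r s) (hj : 2 ≤ j)
    {A B C : Set (Sylow p G)} (hA : A ∈ lineSet p G r s) (hB : B ∈ lineSet p G r s)
    (hC : C ∈ lineSet p G r s) (hsub : A ∩ B ⊆ C) : C = A ∨ C = B := by
  classical
  by_contra hne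
  obtain ⟨P, -, hP, hPC⟩ := h.exists_fixing_lines hN {A, B} (by
      simp only [Finset.mem_insert, Finset.mem_singleton]; rintro X (rfl | rfl) <;> assumption)
    (Finset.card_le_two.trans hj) hC (by simpa using hne)
  exact hPC (hsub ⟨hP A (by simp), hP B (by simp)⟩)

/-- There is no line with a third point in a bundle which matches at both ends. -/
theorem no_closed_long_line {j : ℕ} (hR : RelNatural p G Ω j) {a b z v : Ω}
    (hN : NatPair p G j a b) (hj : 2 ≤ j) (hzv : z ≠ v)
    (hz : pairSyl p G a z ∈ lineSet p G a b) (hne : pairSyl p G a z ≠ pairSyl p G a b)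
    (hline : pairSyl p G a v = pairSyl p G a z)
    (hzb : pairSyl p G b z ∈ lineSet p G b a) (hvb : pairSyl p G b v ∈ lineSet p G b a) :
    False := by
  have hza := h.ne_of_mem_lineSet hN.ne hz
  have hRab := h.rel_of_natPair hN
  have hN' := hR b a hN.ne.symm (h.rel_comm.1 hRab)
  have hvb' : v ≠ b := h.ne_of_mem_lineSet hN.ne.symm hvb
  have hzb' : z ≠ b := h.ne_of_mem_lineSet hN.ne.symm hzb
  have hsub : pairSyl p G b a ∩ pairSyl p G b z ⊆ pairSyl p G b v := by
    intro P hP
    have : P ∈ pairSyl p G a v := hline ▸ ⟨hP.1.2, hP.2.2⟩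
    exact ⟨hP.1.1, this.2⟩
  rcases h.eq_or_eq_of_inter_subset hN' hj (mem_lineSet_self b a) hzb hvb hsub with e | e
  · have e1 := h.line_eq_three hR hN'
      (t := v) (h.ne_of_mem_lineSet hN.ne (hline ▸ hz)) e
    exact hne (hline.symm.trans e1)
  · -- `pairSyl b v = pairSyl b z`, `pairSyl a v = pairSyl a z`
    have hNaz := hR a z hza (rel_of_mem_lineSet hRab hz)
    have hNbz := hR b z hzb' (rel_of_mem_lineSet (h.rel_comm.1 hRab) hzb)
    have e1 := h.line_eq_three hR hNaz hzv.symm hline
    have e2 := h.line_eq_three hR hNbz hzv.symm e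
    have hNza := hR z a hza.symm (h.rel_comm.1 (rel_of_mem_lineSet hRab hz))
    have e3 := h.line_eq_three hR hNza (t := b) hN.ne (e2.symm.trans e1)
    exact hne e3.symm |>.elim

end Small

end CfsgLib.SylowFix
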